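import Cfsg.Prelude.Def_Classical
import Cfsg.Agent.Co2Type.Quad

/-!
# Large extraspecial subgroups of order `2 ^ 9` with quotient `Ω⁺(8, 2)`: the hypothesis

`Hyp Q z`: `Q` is large extraspecial of order `2 ^ 9` (centre `⟨z⟩`) and `C_G(z) / Q ≅ Ω⁺(8, 2)`.
-/

set_option autoImplicit false

namespace Cfsg.Agent.CoOneNWC

open Cfsg.Agent.Co2Type.Quad

/-- `Q` is large extraspecial of order `2 ^ 9`, and `C_G(z) / Q` is isomorphic to `Ω⁺(8, 2)`. -/
structure Hyp {G : Type*} [Group G] (Q : Subgroup G) (z : G) : Prop where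
  large : Large Q z
  card : Nat.card Q = 2 ^ 9
  quot : ∃ π : Subgroup.centralizer ({z} : Set G) →*
      Cfsg.Omega (ZMod 2) (Cfsg.quadFormPlus 4 (ZMod 2)),
    Function.Surjective π ∧ ∀ c : Subgroup.centralizer ({z} : Set G), π c = 1 ↔ (c : G) ∈ Q

/-- The fixed space `C_V(c)`. -/
def fixV {G : Type*} [Group G] {Q : Subgroup G} {z : G} (h : Large Q z)
    (c : Subgroup.centralizer ({z} : Set G)) : Submodule (ZMod 2) h.V where
  carrier := {v | h.act c v = v}
  add_mem' := by
    intro a b ha hb
    simp only [Set.mem_ofPred_eq] at ha hb ⊢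
    rw [map_add, ha, hb]
  zero_mem' := map_zero _
  smul_mem' := by
    intro a v hv
    simp only [Set.mem_ofPred_eq] at hv ⊢
    rw [map_smul, hv]

theorem mem_fixV {G : Type*} [Group G] {Q : Subgroup G} {z : G} (h : Large Q z)
    (c : Subgroup.centralizer ({z} : Set G)) (v : h.V) : v ∈ fixV h c ↔ h.act c v = v := Iff.rfl

/-- Transport along conjugation. -/
theorem Hyp.conj {G : Type*} [Group G] {Q : Subgroup G} {z : G} (H : Hyp Q z) (g : G) :
    Hyp (Q.map (MulAut.conj g).toMonoidHom) (g * z * g⁻¹) where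
  large := H.large.conj g
  card := by
    rw [← H.card]
    exact (Nat.card_congr (Q.equivMapOfInjective _ (MulAut.conj g).injective).toEquiv).symm
  quot := by
    obtain ⟨π, hs, hk⟩ := H.quot
    have hmem : ∀ c : Subgroup.centralizer ({g * z * g⁻¹} : Set G),
        g⁻¹ * (c : G) * g ∈ Subgroup.centralizer ({z} : Set G) := by
      intro c
      have hc := Subgroup.mem_centralizer_singleton_iff.1 c.2
      rw [Subgroup.mem_centralizer_singleton_iff]
      calc g⁻¹ * (c : G) * g * z = g⁻¹ * ((c : G) * (g * z * g⁻¹)) * g := by group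
        _ = g⁻¹ * ((g * z * g⁻¹) * c) * g := by rw [hc]
        _ = z * (g⁻¹ * c * g) := by group
    refine ⟨π.comp
      { toFun := fun c => ⟨g⁻¹ * (c : G) * g, hmem c⟩
        map_one' := by apply Subtype.ext; simp
        map_mul' := fun a b => by apply Subtype.ext; simp; group }, ?_, ?_⟩
    · intro w
      obtain ⟨c, hc⟩ := hs w
      have hc' := Subgroup.mem_centralizer_singleton_iff.1 c.2
      refine ⟨⟨g * (c : G) * g⁻¹, ?_⟩, ?_⟩
      · rw [Subgroup.mem_centralizer_singleton_iff]
        calc g * (c : G) * g⁻¹ * (g * z * g⁻¹) = g * (c * z) * g⁻¹ := by group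
          _ = g * (z * c) * g⁻¹ := by rw [hc']
          _ = g * z * g⁻¹ * (g * c * g⁻¹) := by group
      · rw [← hc]
        show π _ = π c
        congr 1
        apply Subtype.ext
        show g⁻¹ * (g * (c : G) * g⁻¹) * g = c
        group
    · intro c
      show π _ = 1 ↔ _
      rw [hk]
      show g⁻¹ * (c : G) * g ∈ Q ↔ _
      constructor
      · intro h
        refine ⟨_, h, ?_⟩
        show g * (g⁻¹ * (c : G) * g) * g⁻¹ = c
        group
      · rintro ⟨x, hx, hxc⟩
        have : (c : G) = g * x * g⁻¹ := hxc.symm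
        rw [this]
        have e : g⁻¹ * (g * x * g⁻¹) * g = x := by group
        rw [e]; exact hx

end Cfsg.Agent.CoOneNWC
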