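import Mathlib
import Cfsg.Prelude.Def_Classical
import Cfsg.Agent.LargeExtra.Cards
import Cfsg.Agent.LargeExtra.Models
import Cfsg.Agent.ClassicalGeometry.OrthDickson
import Cfsg.Agent.S0293
import Cfsg.Agent.S0296

/-!
# Facts about `Ω⁺(8,2)` and coordinates (S1677, helper978)
-/

set_option autoImplicit false

namespace Cfsg.Agent.CoOneNWC.OmFacts

open Cfsg.Agent.ClassicalGeometry.OrthCharTwo Cfsg.Agent.ClassicalGeometry.OrthDickson
open Cfsg.Agent.ClassicalGeometry.Reflection
open Cfsg.Agent.LieClassical.OmegaReindex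
open Cfsg.Agent.LargeExtra.Model Cfsg.Agent.LargeExtra.Models Cfsg.Agent.LargeExtra.AutBound
open QuadraticMap Matrix

/-- `Ω⁺(8,2)` -/
abbrev Om8 : Type := Cfsg.Omega (ZMod 2) (Cfsg.quadFormPlus 4 (ZMod 2))

theorem card_om8 : Nat.card Om8 = 174182400 := Cfsg.Agent.LargeExtra.Cards.card_omega_plus_eight

theorem card_isometryGroup :
    Nat.card (Cfsg.isometryGroup (ZMod 2) (Cfsg.quadFormPlus 4 (ZMod 2))) = 348364800 := by
  have hcard := Cfsg.Agent.S0287.result (F := ZMod 2) (q := 2) (ZMod.card 2) 4 (by norm_num)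
  rw [hcard]; decide

instance : Finite Om8 := (Nat.card_pos_iff.1 (by rw [card_om8]; norm_num)).2

theorem center_om8 : Subgroup.center Om8 = ⊥ := by
  have h1 := Cfsg.Agent.S0293.result (F := ZMod 2) (q := 2) (ZMod.card 2) 4 (le_refl 4)
  have h2 : Nat.card (Cfsg.POmega (ZMod 2) (Cfsg.quadFormPlus 4 (ZMod 2))) = 174182400 := by
    have h3 : Nat.gcd 4 (2 ^ 4 - 1) = 1 := by decide
    rw [h3, one_mul] at h1
    rw [h1]
    decide
  have h3 : Nat.card (Om8 ⧸ Subgroup.center Om8) = 174182400 := h2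
  have h4 := Subgroup.card_eq_card_quotient_mul_card_subgroup (Subgroup.center Om8)
  rw [h3, card_om8] at h4
  rw [← Subgroup.card_eq_one]
  omega

theorem simple_om8 : IsSimpleGroup Om8 := by
  have h := Cfsg.Agent.S0296.result (F := ZMod 2) 4 (le_refl 4)
  have e : Om8 ≃* Cfsg.POmega (ZMod 2) (Cfsg.quadFormPlus 4 (ZMod 2)) :=
    (QuotientGroup.quotientBot.symm).trans (QuotientGroup.quotientMulEquivOfEq center_om8.symm)
  exact (MulEquiv.isSimpleGroup_congr e).2 h

theorem commutator_om8 : commutator Om8 = ⊤ := by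
  have := simple_om8
  rcases (inferInstance : (commutator Om8).Normal).eq_bot_or_eq_top with h | h
  · exfalso
    rw [commutator_eq_bot_iff_center_eq_top, center_om8] at h
    have h1 : Nat.card Om8 = 1 := by
      rw [← Subgroup.card_top, ← h, Subgroup.card_bot]
    rw [card_om8] at h1
    exact absurd h1 (by norm_num)
  · exact h

/-- `quadPlus 4 (ZMod 2)` -/
abbrev Qp : QuadraticForm (ZMod 2) (Fin 4 ⊕ Fin 4 → ZMod 2) := quadPlus 4 (ZMod 2)

theorem nondeg_Qp : (polarBilin Qp).Nondegenerate := quadPlus_nondegenerate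

theorem hcard4 : (∃ θ : ZMod 2, θ ≠ 0 ∧ θ ≠ 1) ∨ Fintype.card (Fin 4 ⊕ Fin 4) ≠ 4 := by
  right; simp

/-- the kernel of the Dickson homomorphism is the commutator subgroup -/
theorem ker_dsignHom :
    (dsignHom Qp nondeg_Qp hcard4).ker = commutator (Cfsg.isometryGroup (ZMod 2) (⇑Qp)) := by
  have h1 : commutator (Cfsg.isometryGroup (ZMod 2) (⇑Qp)) ≤ (dsignHom Qp nondeg_Qp hcard4).ker :=
    Abelianization.commutator_subset_ker _
  have h2 := index_commutator_two Qp (by decide) nondeg_Qp hcard4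
  have h3 : (dsignHom Qp nondeg_Qp hcard4).ker ≠ ⊤ := by
    intro h
    have hv : Qp (Pi.single (.inl 0) 1 + Pi.single (.inr 0) 1) ≠ 0 := by
      rw [coe_quadPlus]; decide
    have h4 : reflIso Qp _ hv ∈ (dsignHom Qp nondeg_Qp hcard4).ker := by rw [h]; trivial
    rw [MonoidHom.mem_ker, dsignHom_apply, dsign_refl Qp nondeg_Qp] at h4
    exact absurd h4 (by decide)
  have h5 := Subgroup.relIndex_mul_index h1
  rw [h2] at h5
  have h6 : (dsignHom Qp nondeg_Qp hcard4).ker.index ≠ 1 := by
    rw [Ne, Subgroup.index_eq_one]; exact h3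
  have h7 : (dsignHom Qp nondeg_Qp hcard4).ker.index ∣ 2 := ⟨_, by rw [mul_comm]; exact h5.symm⟩
  have h8 : (dsignHom Qp nondeg_Qp hcard4).ker.index = 2 := by
    rcases (Nat.dvd_prime Nat.prime_two).1 h7 with h | h
    · exact absurd h h6
    · exact h
  rw [h8] at h5
  have h9 : (commutator (Cfsg.isometryGroup (ZMod 2) (⇑Qp))).relIndex
      (dsignHom Qp nondeg_Qp hcard4).ker = 1 := by omega
  exact le_antisymm (Subgroup.relIndex_eq_one.1 h9) h1

theorem dsign_siegel (a y : Fin 4 ⊕ Fin 4 → ZMod 2) (ha : Qp a = 0) (hy : Qp y = 0)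
    (hay : polar Qp a y = 0) : dsign Qp (siegelIso Qp a y 1 ha hy hay) = 1 := by
  by_cases hli : ∀ s t : ZMod 2, s • a + t • y = 0 → s = 0 ∧ t = 0
  · obtain ⟨d, hd1, hd2, hd3⟩ := exists_aux Qp nondeg_Qp hcard4 a y hli ha hy hay
    have hgen : ∀ y, polar Qp a y = 0 → Qp (y + Qp y • a) = Qp y := by
      intro y hy
      rw [map_add', QuadraticMap.map_smul, ha, polar_smul_right, polar_comm (⇑Qp) y a, hy]
      simp
    have hd2' : Qp (-d) ≠ 0 := by rwa [QuadraticMap.map_neg]
    have hd3' : Qp ((1 : ZMod 2) • y + d) ≠ 0 := by rwa [one_smul]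
    have hp1 : polar Qp a ((1 : ZMod 2) • y + d) = 0 := by
      rw [one_smul, polar_add_right, hay, hd1, add_zero]
    have hp2 : polar Qp a (-d) = 0 := by rw [polar_neg_right, hd1, neg_zero]
    rw [siegel_eq_refl Qp a y ha hy hay 1 d hd1 hd3' (by rw [hgen _ hp1]; exact hd3') hd2'
      (by rw [hgen _ hp2]; exact hd2')]
    rw [← dsignHom_apply Qp nondeg_Qp hcard4, map_mul, map_mul, map_mul, dsignHom_apply,
      dsignHom_apply, dsignHom_apply, dsignHom_apply, dsign_refl Qp nondeg_Qp,
      dsign_refl Qp nondeg_Qp, dsign_refl Qp nondeg_Qp, dsign_refl Qp nondeg_Qp]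
    decide
  · have hone : siegelIso Qp a y 1 ha hy hay = 1 := by
      push Not at hli
      obtain ⟨s, t, hst, hne⟩ := hli
      apply act_ext
      intro z
      rw [act_siegel, act_one]
      have h01 : ∀ r : ZMod 2, r = 0 ∨ r = 1 := by decide
      rcases h01 s with rfl | rfl <;> rcases h01 t with rfl | rfl
      · exact absurd rfl (hne rfl)
      · rw [zero_smul, zero_add, one_smul] at hst
        rw [hst]; simp
      · rw [zero_smul, add_zero, one_smul] at hst
        rw [hst]; simp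
      · rw [one_smul, one_smul] at hst
        have : a = y := by
          have h2 : y = -y := by
            funext i
            show y i = - y i
            have : ∀ r : ZMod 2, r = -r := by decide
            exact this _
          rw [h2]; exact eq_neg_of_add_eq_zero_left hst
        rw [this]; simp
    rw [hone, dsign_one]

theorem siegel_mem (a y : Fin 4 ⊕ Fin 4 → ZMod 2) (ha : Qp a = 0) (hy : Qp y = 0)
    (hay : polar Qp a y = 0) :
    siegelIso Qp a y 1 ha hy hay ∈ commutator (Cfsg.isometryGroup (ZMod 2) (⇑Qp)) := by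
  rw [← ker_dsignHom, MonoidHom.mem_ker, dsignHom_apply]
  exact dsign_siegel a y ha hy hay

end Cfsg.Agent.CoOneNWC.OmFacts
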