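import Cfsg.Agent.CoOneNWC.Base
import Cfsg.Agent.CoOneNWC.OmFacts
import Cfsg.Agent.LargeExtra.Lift

/-!
# Coordinates of `V = Q/⟨z⟩` for `Hyp Q z` (S1677, helper978)
-/

set_option autoImplicit false

namespace Cfsg.Agent.CoOneNWC.Coord

open Cfsg.Agent.Co2Type.Quad Cfsg.Agent.CoOneNWC Cfsg.Agent.CoOneNWC.OmFacts
open Cfsg.Agent.LargeExtra.Model Cfsg.Agent.LargeExtra.Models Cfsg.Agent.LargeExtra.AutBound
open Cfsg.Agent.LargeExtra.Lift Cfsg.Agent.Transfer.ExtraspecialTwo
open scoped commutatorElement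

/-- `2₊^(1+8)`: commuting involutions `e₀ … e₃`, dual `f₀ … f₃`. -/
abbrev rH8 : ℕ → ℕ := rows [0, 0, 0, 0, 1, 2, 4, 8]

theorem nd_H8 : Nondeg rH8 8 := by decide +kernel
theorem sq_H8 : sqOne (XG rH8 8) = 272 := by
  rw [sqOne_eq_fintype]; decide +kernel

/-- coordinates of bit vectors -/
def ix : Fin 4 ⊕ Fin 4 → ℕ := Sum.elim (fun i => i.1) (fun i => i.1 + 4)

/-- bit vector to vector -/
def bits (n : ℕ) : Fin 4 ⊕ Fin 4 → ZMod 2 := fun i => if n.testBit (ix i) then 1 else 0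

theorem bits_xor (a b : ℕ) : bits (a ^^^ b) = bits a + bits b := by
  funext i
  show (if (a ^^^ b).testBit (ix i) then (1 : ZMod 2) else 0) = _ + _
  rw [Nat.testBit_xor]
  show _ = (if a.testBit (ix i) then (1 : ZMod 2) else 0) + (if b.testBit (ix i) then 1 else 0)
  cases a.testBit (ix i) <;> cases b.testBit (ix i) <;> decide

theorem bits_zero : bits 0 = 0 := by
  funext i
  show (if (0 : ℕ).testBit (ix i) then (1 : ZMod 2) else 0) = 0
  rw [Nat.zero_testBit]; rfl

theorem bits_eq_zero : ∀ a : Fin (2 ^ 8), bits a.1 = 0 → a = 0 := by decide +kernel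

theorem bits_surj : ∀ f : Fin 4 ⊕ Fin 4 → ZMod 2, ∃ a : Fin (2 ^ 8), bits a.1 = f := by
  have hinj : Function.Injective (fun a : Fin (2 ^ 8) => bits a.1) := by
    intro a b hab
    have h1 : bits (a.1 ^^^ b.1) = 0 := by
      rw [bits_xor]
      have : bits a.1 = bits b.1 := hab
      rw [this]
      funext i
      show bits b.1 i + bits b.1 i = 0
      generalize bits b.1 i = r
      revert r; decide
    have h2 := bits_eq_zero ⟨a.1 ^^^ b.1, Nat.xor_lt_two_pow a.2 b.2⟩ h1
    have h3 : a.1 ^^^ b.1 = 0 := congrArg Fin.val h2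
    apply Fin.ext
    have h4 : (a.1 ^^^ b.1) ^^^ b.1 = a.1 := by rw [Nat.xor_assoc, Nat.xor_self, Nat.xor_zero]
    rw [h3, Nat.zero_xor] at h4
    exact h4.symm
  have hbij : Function.Bijective (fun a : Fin (2 ^ 8) => bits a.1) := by
    rw [Fintype.bijective_iff_injective_and_card]
    refine ⟨hinj, ?_⟩
    rw [Fintype.card_fun]
    simp [ZMod.card]
  intro f
  exact hbij.2 f

theorem quad_bits : ∀ a : Fin (2 ^ 8),
    Cfsg.quadFormPlus 4 (ZMod 2) (bits a.1) = if bf rH8 8 a.1 a.1 then 1 else 0 := by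
  decide +kernel

section

variable {G : Type*} [Group G] [Finite G] {Q : Subgroup G} {z : G}

omit [Finite G] in
theorem centralTwo_Q (h : Large Q z) : CentralTwo Q where
  comm_mem a b := by
    have h1 := h.comm_mem (b⁻¹) (a⁻¹)
    have h2 : ((b⁻¹ : Q) * a⁻¹)⁻¹ * (a⁻¹ * b⁻¹) = ⁅a, b⁆ := by
      rw [commutatorElement_def]; group
    rwa [h2] at h1
  card_center := h.card_center

omit [Finite G] in
theorem centralTwo_congr {E E' : Type*} [Group E] [Group E'] (e : E ≃* E') (h : CentralTwo E') :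
    CentralTwo E where
  comm_mem a b := by
    rw [Subgroup.mem_center_iff]
    intro g
    apply e.injective
    have h1 := (Subgroup.mem_center_iff.1 (h.comm_mem (e a) (e b))) (e g)
    rw [map_mul, map_mul, map_commutatorElement]
    exact h1
  card_center := by
    rw [← h.card_center]
    exact Nat.card_congr (Subgroup.centerCongr e).toEquiv

omit [Finite G] in
theorem le_C (h : Large Q z) : Q ≤ Subgroup.centralizer ({z} : Set G) := fun x hx =>
  Subgroup.mem_centralizer_singleton_iff.2 (h.comm_z x hx)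

omit [Finite G] in
theorem card_C (H : Hyp Q z) : Nat.card (Subgroup.centralizer ({z} : Set G)) = 89181388800 := by
  obtain ⟨π, hs, hk⟩ := H.quot
  have h1 : π.ker = Q.subgroupOf (Subgroup.centralizer ({z} : Set G)) := by
    ext c
    rw [MonoidHom.mem_ker, hk, Subgroup.mem_subgroupOf]
  have h2 : Nat.card (Subgroup.centralizer ({z} : Set G) ⧸ π.ker) = 174182400 := by
    rw [← card_om8]
    exact Nat.card_congr (QuotientGroup.quotientKerEquivOfSurjective π hs).toEquiv
  have h3 : Nat.card π.ker = 2 ^ 9 := by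
    rw [h1, ← H.card]
    exact Nat.card_congr (Subgroup.subgroupOfEquivOfLe (le_C H.large)).toEquiv
  have h4 := Subgroup.card_eq_card_quotient_mul_card_subgroup π.ker
  rw [h2, h3] at h4
  rw [h4]; norm_num

/-- coordinates of `Q` -/
theorem exists_coord (H : Hyp Q z) :
    ∃ Φ : XG rH8 8 ≃* Q, (Φ zz : G) = z := by
  set C := Subgroup.centralizer ({z} : Set G) with hC
  set Q' := Q.subgroupOf C with hQ'
  have hQC := le_C H.large
  let e : Q' ≃* Q := Subgroup.subgroupOfEquivOfLe hQC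
  have hzC : z ∈ C := hQC H.large.z_mem
  have hn : Q'.Normal := by
    constructor
    intro x hx g
    rw [hQ', Subgroup.mem_subgroupOf] at hx ⊢
    exact H.large.conj_mem _ (Subgroup.mem_centralizer_singleton_iff.1 g.2) _ hx
  have hcard : Nat.card Q' = 2 ^ 9 := by
    rw [← H.card]; exact Nat.card_congr e.toEquiv
  obtain ⟨_, φ, P⟩ := exists_pin_plus_eight Q' (⟨z, hzC⟩ : C)
    (fun c => Subtype.ext (Subgroup.mem_centralizer_singleton_iff.1 c.2))
    (fun h => H.large.z_ne (congrArg Subtype.val h))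
    (by rw [hQ', Subgroup.mem_subgroupOf]; exact H.large.z_mem)
    (by
      intro c hc
      rw [hQ', Subgroup.mem_subgroupOf]
      refine H.large.self c (Subgroup.mem_centralizer_singleton_iff.1 c.2) fun x hx => ?_
      have h1 := (Subgroup.mem_centralizer_iff.1 hc) ⟨x, hQC hx⟩
        (by show _ ∈ Q.subgroupOf C; rw [Subgroup.mem_subgroupOf]; exact hx)
      exact (congrArg Subtype.val h1).symm)
    (centralTwo_congr e (centralTwo_Q H.large)) hcard (card_C H) nd_H8 sq_H8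
  refine ⟨φ.trans e, ?_⟩
  have h1 := P.zz
  exact congrArg Subtype.val h1

/-- linear coordinates of `V` -/
theorem exists_L (H : Hyp Q z) : ∃ L : H.large.V ≃ₗ[ZMod 2] (Fin 4 ⊕ Fin 4 → ZMod 2),
    ∀ v, H.large.q v = Cfsg.quadFormPlus 4 (ZMod 2) (L v) := by
  obtain ⟨Φ, hΦ⟩ := exists_coord H
  obtain ⟨h, -, -⟩ := H
  let f : Q → (Fin 4 ⊕ Fin 4 → ZMod 2) := fun x => bits (Φ.symm x).v.1
  have hfm : ∀ x y, f (x * y) = f x + f y := by
    intro x y
    show bits (Φ.symm (x * y)).v.1 = _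
    rw [map_mul, mul_v, bits_xor]
  have hzz : Φ.symm ⟨z, h.z_mem⟩ = zz := by
    rw [MulEquiv.symm_apply_eq]
    exact Subtype.ext hΦ.symm
  have hfz : f ⟨z, h.z_mem⟩ = 0 := by
    show bits (Φ.symm _).v.1 = 0
    rw [hzz, zz_v, bits_zero]
  have hfz' : ∀ x y : Q, (x : G) = y * z → f x = f y := by
    intro x y hxy
    have h1 : x = y * ⟨z, h.z_mem⟩ := Subtype.ext hxy
    rw [h1, hfm, hfz, add_zero]
  have hf0 : ∀ x, f x = 0 → (x : G) = 1 ∨ (x : G) = z := by
    intro x hx
    have h1 := bits_eq_zero (Φ.symm x).v hx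
    rcases eq_one_or_zz (congrArg Fin.val h1) with h2 | h2
    · left
      rw [MulEquiv.symm_apply_eq, map_one] at h2
      exact congrArg Subtype.val h2
    · right
      rw [MulEquiv.symm_apply_eq] at h2
      rw [h2, hΦ]
  have hpr : ∀ x y : Q, h.pr x = h.pr y → f x = f y := by
    intro x y hxy
    rcases h.pr_eq_pr.1 hxy with h1 | h1
    · rw [Subtype.ext h1]
    · exact hfz' x y h1
  let L0 : h.V → (Fin 4 ⊕ Fin 4 → ZMod 2) := fun v => f (Function.surjInv h.pr_surjective v)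
  have hL0 : ∀ x, L0 (h.pr x) = f x := fun x =>
    hpr _ _ (Function.surjInv_eq h.pr_surjective (h.pr x))
  let L1 : h.V →+ (Fin 4 ⊕ Fin 4 → ZMod 2) :=
    { toFun := L0
      map_zero' := by
        rw [← h.pr_one, hL0]
        show bits (Φ.symm 1).v.1 = 0
        rw [map_one, one_v, bits_zero]
      map_add' := by
        intro v w
        obtain ⟨x, rfl⟩ := h.pr_surjective v
        obtain ⟨y, rfl⟩ := h.pr_surjective w
        rw [← h.pr_mul, hL0, hL0, hL0, hfm] }
  have hbij : Function.Bijective (AddMonoidHom.toZModLinearMap 2 L1) := by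
    constructor
    · rw [injective_iff_map_eq_zero]
      intro v hv
      obtain ⟨x, rfl⟩ := h.pr_surjective v
      have h1 : L0 (h.pr x) = 0 := hv
      rw [hL0] at h1
      exact h.pr_eq_zero.2 (hf0 x h1)
    · intro w
      obtain ⟨a, ha⟩ := bits_surj w
      refine ⟨h.pr (Φ ⟨a, false⟩), ?_⟩
      show L0 _ = w
      rw [hL0]
      show bits (Φ.symm (Φ _)).v.1 = w
      rw [MulEquiv.symm_apply_apply]
      exact ha
  refine ⟨LinearEquiv.ofBijective _ hbij, ?_⟩
  intro v
  obtain ⟨x, rfl⟩ := h.pr_surjective v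
  show h.q (h.pr x) = Cfsg.quadFormPlus 4 (ZMod 2) (L0 (h.pr x))
  rw [hL0]
  show _ = Cfsg.quadFormPlus 4 (ZMod 2) (bits (Φ.symm x).v.1)
  rw [quad_bits]
  have h2 : (Φ.symm x) * (Φ.symm x) = Φ.symm (x * x) := (map_mul _ _ _).symm
  have h3 : ((Φ.symm x) * (Φ.symm x)).s = bf rH8 8 (Φ.symm x).v.1 (Φ.symm x).v.1 := by
    rw [mul_s]
    cases (Φ.symm x).s <;> cases bf rH8 8 (Φ.symm x).v.1 (Φ.symm x).v.1 <;> rfl
  rcases h.sq x x.2 with h1 | h1
  · rw [h.q_eq_zero.2 h1, ← h3, h2]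
    have h4 : x * x = 1 := Subtype.ext h1
    rw [h4, map_one, one_s]; rfl
  · rw [h.q_eq_one.2 h1, ← h3, h2]
    have h4 : x * x = ⟨z, h.z_mem⟩ := Subtype.ext h1
    rw [h4, hzz, zz_s]; rfl

end

end Cfsg.Agent.CoOneNWC.Coord
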