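import Cfsg.Agent.CoOneNWC.Base
import Cfsg.Agent.CoOneNWC.OmFacts
import Cfsg.Agent.CoOneNWC.Coord

/-!
# The action of `C_G(z)` on `V = Q/⟨z⟩` under `Hyp Q z` (S1677, helper978)

* `Hyp.even_fix`: fixed spaces have even dimension;
* `Hyp.exists_siegel`: Siegel transformations are induced;
* `Hyp.exists_ts`: plus type; `Hyp.finrank_V`.
-/

set_option autoImplicit false

namespace Cfsg.Agent.CoOneNWC

open Cfsg.Agent.Co2Type.Quad Cfsg.Agent.CoOneNWC.OmFacts
open Cfsg.Agent.ClassicalGeometry.OrthCharTwo Cfsg.Agent.ClassicalGeometry.OrthDickson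
open Cfsg.Agent.LieClassical.OmegaReindex
open QuadraticMap Matrix

variable {G : Type*} [Group G] [Finite G] {Q : Subgroup G} {z : G}

/-- the space of coordinates -/
abbrev Wsp : Type := Fin 4 ⊕ Fin 4 → ZMod 2

section aux

omit [Finite G]

/-- the endomorphism of `Wsp` induced by `g` -/
noncomputable def endo (h : Large Q z) (L : h.V ≃ₗ[ZMod 2] Wsp)
    (g : Subgroup.centralizer ({z} : Set G)) : Wsp →ₗ[ZMod 2] Wsp :=
  L.toLinearMap ∘ₗ (h.act g).toLinearMap ∘ₗ L.symm.toLinearMap

theorem endo_apply (h : Large Q z) (L : h.V ≃ₗ[ZMod 2] Wsp)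
    (g : Subgroup.centralizer ({z} : Set G)) (w : Wsp) :
    endo h L g w = L (h.act g (L.symm w)) := rfl

theorem endo_mul (h : Large Q z) (L : h.V ≃ₗ[ZMod 2] Wsp)
    (g g' : Subgroup.centralizer ({z} : Set G)) :
    endo h L (g * g') = endo h L g ∘ₗ endo h L g' := by
  apply LinearMap.ext
  intro w
  rw [LinearMap.comp_apply, endo_apply, endo_apply, endo_apply, map_mul,
    LinearEquiv.symm_apply_apply]
  rfl

theorem endo_one (h : Large Q z) (L : h.V ≃ₗ[ZMod 2] Wsp) :
    endo h L (1 : Subgroup.centralizer ({z} : Set G)) = LinearMap.id := by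
  apply LinearMap.ext
  intro w
  rw [endo_apply, map_one]
  exact L.apply_symm_apply w

/-- the homomorphism to the isometry group -/
noncomputable def toIso (h : Large Q z) (L : h.V ≃ₗ[ZMod 2] Wsp)
    (hL : ∀ v, h.q v = Cfsg.quadFormPlus 4 (ZMod 2) (L v)) :
    Subgroup.centralizer ({z} : Set G) →* Cfsg.isometryGroup (ZMod 2) (⇑Qp) where
  toFun g := ⟨⟨LinearMap.toMatrix' (endo h L g), LinearMap.toMatrix' (endo h L g⁻¹), by
      rw [← LinearMap.toMatrix'_comp, ← endo_mul, mul_inv_cancel, endo_one,
        LinearMap.toMatrix'_id], by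
      rw [← LinearMap.toMatrix'_comp, ← endo_mul, inv_mul_cancel, endo_one,
        LinearMap.toMatrix'_id]⟩, by
    rw [mem_isometryGroup]
    intro w
    show Qp (LinearMap.toMatrix' (endo h L g) *ᵥ w) = Qp w
    rw [LinearMap.toMatrix'_mulVec, endo_apply]
    rw [coe_quadPlus, ← hL, h.q_act, hL, LinearEquiv.apply_symm_apply]⟩
  map_one' := by
    apply Subtype.ext
    apply Units.ext
    show LinearMap.toMatrix' (endo h L 1) = 1
    rw [endo_one, LinearMap.toMatrix'_id]
  map_mul' g g' := by
    apply Subtype.ext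
    apply Units.ext
    show LinearMap.toMatrix' (endo h L (g * g')) = LinearMap.toMatrix' (endo h L g) *
      LinearMap.toMatrix' (endo h L g')
    rw [endo_mul, LinearMap.toMatrix'_comp]

theorem act_toIso (h : Large Q z) (L : h.V ≃ₗ[ZMod 2] Wsp)
    (hL : ∀ v, h.q v = Cfsg.quadFormPlus 4 (ZMod 2) (L v))
    (g : Subgroup.centralizer ({z} : Set G)) (w : Wsp) :
    act (toIso h L hL g) w = L (h.act g (L.symm w)) := by
  show LinearMap.toMatrix' (endo h L g) *ᵥ w = _
  rw [LinearMap.toMatrix'_mulVec, endo_apply]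

theorem polar_L (h : Large Q z) (L : h.V ≃ₗ[ZMod 2] Wsp)
    (hL : ∀ v, h.q v = Cfsg.quadFormPlus 4 (ZMod 2) (L v)) (v w : h.V) :
    polar Qp (L v) (L w) = h.b v w := by
  rw [polar, ← map_add, coe_quadPlus, ← hL, ← hL, ← hL, h.q_add']
  ring

end aux

omit [Finite G] in
theorem toIso_mem_ker (H : Hyp Q z) (L : H.large.V ≃ₗ[ZMod 2] Wsp)
    (hL : ∀ v, H.large.q v = Cfsg.quadFormPlus 4 (ZMod 2) (L v))
    (c : Subgroup.centralizer ({z} : Set G)) :
    dsign Qp (toIso H.large L hL c) = 1 := by
  obtain ⟨π, hs, hk⟩ := H.quot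
  let ψ : Subgroup.centralizer ({z} : Set G) →* ℤˣ :=
    (dsignHom Qp nondeg_Qp hcard4).comp (toIso H.large L hL)
  have h1 : π c ∈ commutator Om8 := by rw [commutator_om8]; trivial
  have h2 : (commutator (Subgroup.centralizer ({z} : Set G))).map π = commutator Om8 := by
    rw [commutator_def, commutator_def, Subgroup.map_commutator,
      ← MonoidHom.range_eq_map, MonoidHom.range_eq_top.2 hs]
  rw [← h2] at h1
  obtain ⟨d, hd, hdc⟩ := h1
  have h3 : ψ d = 1 := by
    have := Abelianization.commutator_subset_ker ψ hd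
    rwa [MonoidHom.mem_ker] at this
  have h4 : π (d⁻¹ * c) = 1 := by rw [map_mul, map_inv, hdc, inv_mul_cancel]
  have h5 := (hk _).1 h4
  have h6 : toIso H.large L hL (d⁻¹ * c) = 1 := by
    apply act_ext
    intro w
    rw [act_toIso, H.large.act_mem _ h5, act_one]
    exact L.apply_symm_apply w
  have h7 : ψ c = ψ d * ψ (d⁻¹ * c) := by rw [← map_mul, mul_inv_cancel_left]
  have h8 : ψ (d⁻¹ * c) = 1 := by
    show dsignHom Qp nondeg_Qp hcard4 (toIso H.large L hL (d⁻¹ * c)) = 1
    rw [h6, map_one]
  rw [h3, h8, one_mul] at h7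
  exact h7

/-- every element of `C_G(z)` has a fixed space of even dimension on `V` -/
theorem Hyp.even_fix (H : Hyp Q z) (c : Subgroup.centralizer ({z} : Set G)) :
    Even (Module.finrank (ZMod 2) (fixV H.large c)) := by
  obtain ⟨L, hL⟩ := Coord.exists_L H
  have h1 := toIso_mem_ker H L hL c
  have h2 : Module.finrank (ZMod 2) (fixV H.large c) =
      Module.finrank (ZMod 2) (fixSp (toIso H.large L hL c)) := by
    have h3 : (fixV H.large c).map L.toLinearMap = fixSp (toIso H.large L hL c) := by
      ext w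
      rw [Submodule.mem_map, mem_fixSp, act_toIso]
      constructor
      · rintro ⟨v, hv, rfl⟩
        show L (H.large.act c (L.symm (L v))) = L v
        rw [LinearEquiv.symm_apply_apply, (mem_fixV H.large c v).1 hv]
      · intro hw
        refine ⟨L.symm w, ?_, L.apply_symm_apply w⟩
        rw [mem_fixV]
        apply L.injective
        rw [hw, L.apply_symm_apply]
    rw [← h3]
    exact (LinearEquiv.finrank_map_eq L _).symm
  rw [dsign_def, ← h2] at h1
  have h4 : Fintype.card (Fin 4 ⊕ Fin 4) = 8 := by simp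
  rw [h4] at h1
  rw [neg_one_pow_eq_one_iff_even (by decide)] at h1
  have h5 : Even 8 := by decide
  exact (Nat.even_add.1 h1).2 h5

theorem range_toIso (H : Hyp Q z) (L : H.large.V ≃ₗ[ZMod 2] Wsp)
    (hL : ∀ v, H.large.q v = Cfsg.quadFormPlus 4 (ZMod 2) (L v)) :
    (toIso H.large L hL).range = commutator (Cfsg.isometryGroup (ZMod 2) (⇑Qp)) := by
  have h0 : (toIso H.large L hL).range ≤ commutator (Cfsg.isometryGroup (ZMod 2) (⇑Qp)) := by
    rintro _ ⟨c, rfl⟩
    rw [← ker_dsignHom, MonoidHom.mem_ker, dsignHom_apply]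
    exact toIso_mem_ker H L hL c
  have hker : Nat.card (toIso H.large L hL).ker = 2 ^ 9 := by
    have h1 : (toIso H.large L hL).ker = Q.subgroupOf (Subgroup.centralizer ({z} : Set G)) := by
      ext c
      rw [MonoidHom.mem_ker, Subgroup.mem_subgroupOf]
      constructor
      · intro h
        have hfin : Finite Q := inferInstance
        apply H.large.mem_of_act c
        apply LinearEquiv.ext
        intro v
        have h2 := act_toIso H.large L hL c (L v)
        rw [h, act_one, LinearEquiv.symm_apply_apply] at h2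
        exact (L.injective h2).symm
      · intro h
        apply act_ext
        intro w
        rw [act_toIso, H.large.act_mem _ h, act_one]
        exact L.apply_symm_apply w
    rw [h1, ← H.card]
    exact Nat.card_congr (Subgroup.subgroupOfEquivOfLe (Coord.le_C H.large)).toEquiv
  have hcard : Nat.card (toIso H.large L hL).range = 174182400 := by
    have h1 := Subgroup.card_eq_card_quotient_mul_card_subgroup (toIso H.large L hL).ker
    rw [hker, Coord.card_C H] at h1
    have h2 : Nat.card (Subgroup.centralizer ({z} : Set G) ⧸ (toIso H.large L hL).ker) =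
        Nat.card (toIso H.large L hL).range :=
      Nat.card_congr (QuotientGroup.quotientKerEquivRange _).toEquiv
    rw [h2] at h1
    omega
  have hfin : Finite (commutator (Cfsg.isometryGroup (ZMod 2) (⇑Qp))) := by
    rw [coe_quadPlus]
    exact (inferInstance : Finite Om8)
  have hc2 : Nat.card (commutator (Cfsg.isometryGroup (ZMod 2) (⇑Qp))) = 174182400 := by
    rw [← card_om8]
    rw [coe_quadPlus]
  exact Subgroup.eq_of_le_of_card_ge h0 (by rw [hc2, hcard])

/-- Siegel transformations are induced by `C_G(z)` -/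
theorem Hyp.exists_siegel (H : Hyp Q z) {a x : H.large.V} (ha : H.large.q a = 0)
    (hx : H.large.q x = 0) (hax : H.large.b a x = 0) :
    ∃ c : Subgroup.centralizer ({z} : Set G), ∀ v,
      H.large.act c v = v + H.large.b v a • x + H.large.b v x • a := by
  obtain ⟨L, hL⟩ := Coord.exists_L H
  have ha' : Qp (L a) = 0 := by rw [coe_quadPlus, ← hL, ha]
  have hx' : Qp (L x) = 0 := by rw [coe_quadPlus, ← hL, hx]
  have hax' : polar Qp (L a) (L x) = 0 := by rw [polar_L H.large L hL, hax]
  have h1 := siegel_mem (L a) (L x) ha' hx' hax'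
  rw [← range_toIso H L hL] at h1
  obtain ⟨c, hc⟩ := h1
  refine ⟨c, fun v => ?_⟩
  have h2 := act_toIso H.large L hL c (L v)
  rw [hc, act_siegel, LinearEquiv.symm_apply_apply, polar_L H.large L hL,
    polar_L H.large L hL, one_smul] at h2
  apply L.injective
  rw [← h2, map_add, map_add, map_smul, map_smul, H.large.b_comm v a, H.large.b_comm v x,
    add_assoc, sub_eq_add_neg]
  congr 2
  funext i
  have : ∀ r : ZMod 2, -r = r := by decide
  exact this _

omit [Finite G] in
theorem Hyp.exists_ts [Finite G] (H : Hyp Q z) : ∃ M : Submodule (ZMod 2) H.large.V,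
    Module.finrank (ZMod 2) M = 4 ∧ ∀ v ∈ M, H.large.q v = 0 := by
  obtain ⟨L, hL⟩ := Coord.exists_L H
  let e : (Fin 4 → ZMod 2) →ₗ[ZMod 2] Wsp :=
    { toFun := fun f => Sum.elim f 0
      map_add' := by
        intro f g
        funext i
        rcases i with i | i
        · rfl
        · show (0 : ZMod 2) = 0 + 0
          rfl
      map_smul' := by
        intro r f
        funext i
        rcases i with i | i
        · rfl
        · show (0 : ZMod 2) = r • 0
          rw [smul_zero] }
  have he : Function.Injective e := by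
    intro f g hfg
    funext i
    exact congrFun hfg (.inl i)
  refine ⟨LinearMap.range (L.symm.toLinearMap ∘ₗ e), ?_, ?_⟩
  · rw [LinearMap.finrank_range_of_inj]
    · simp
    · exact L.symm.injective.comp he
  · rintro _ ⟨f, rfl⟩
    rw [hL]
    show Cfsg.quadFormPlus 4 (ZMod 2) (L (L.symm (e f))) = 0
    rw [L.apply_symm_apply]
    show ∑ i : Fin 4, f i * 0 = 0
    simp

theorem Hyp.finrank_V (H : Hyp Q z) : Module.finrank (ZMod 2) H.large.V = 8 := by
  obtain ⟨L, -⟩ := Coord.exists_L H
  rw [L.finrank_eq]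
  simp

end Cfsg.Agent.CoOneNWC
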