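import Mathlib
import Cfsg.Agent.CoOneNWC.Base

/-!
# Commuting pairs of conjugates of `z`, when `z` is weakly closed in `Q`

`Ctx Q P z y` : `y = z^g ≠ z` commutes with `z`, `P` is the large extraspecial subgroup of `C_G(y)`, and no
conjugate of `z` different from `z` lies in `Q` (same for `y`, `P`).
-/

set_option autoImplicit false

namespace Cfsg.Agent.CoOneNWC

open Cfsg.Agent.Co2Type.Quad Module

/-! ### generalities on `V` -/

section gen

variable {G : Type*} [Group G] {Q : Subgroup G} {z : G} (h : Large Q z)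

theorem zmod2_cases (a : ZMod 2) : a = 0 ∨ a = 1 := by
  revert a; decide

theorem zmod2_add_self (a : ZMod 2) : a + a = 0 := CharTwo.add_self_eq_zero a

theorem b_isRefl : (h.b).IsRefl := fun v w hvw => by rw [h.b_comm]; exact hvw

theorem b_nondegenerate : (h.b).Nondegenerate := by
  refine ⟨fun v hv => h.b_nondeg hv, fun v hv => h.b_nondeg fun w => ?_⟩
  rw [h.b_comm]; exact hv w

/-- The orthogonal complement. -/
noncomputable def perp (W : Submodule (ZMod 2) h.V) : Submodule (ZMod 2) h.V := (h.b).orthogonal W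

theorem mem_perp {W : Submodule (ZMod 2) h.V} {v : h.V} : v ∈ perp h W ↔ ∀ w ∈ W, h.b w v = 0 :=
  Iff.rfl

theorem mem_perp' {W : Submodule (ZMod 2) h.V} {v : h.V} : v ∈ perp h W ↔ ∀ w ∈ W, h.b v w = 0 := by
  rw [mem_perp]
  constructor <;> intro h1 w hw
  · rw [h.b_comm]; exact h1 w hw
  · rw [h.b_comm]; exact h1 w hw

theorem perp_anti {W U : Submodule (ZMod 2) h.V} (hle : W ≤ U) : perp h U ≤ perp h W :=
  LinearMap.BilinForm.orthogonal_le hle

variable [Finite Q]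

theorem finite_V : Module.Finite (ZMod 2) h.V := Module.Finite.of_finite

theorem perp_perp (W : Submodule (ZMod 2) h.V) : perp h (perp h W) = W := by
  have := finite_V h
  exact LinearMap.BilinForm.orthogonal_orthogonal (b_nondegenerate h) (b_isRefl h) W

theorem finrank_perp (W : Submodule (ZMod 2) h.V) :
    finrank (ZMod 2) (perp h W) + finrank (ZMod 2) W = finrank (ZMod 2) h.V := by
  have := finite_V h
  have h1 := LinearMap.BilinForm.finrank_orthogonal (b_nondegenerate h) W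
  have h2 := Submodule.finrank_le W
  show finrank (ZMod 2) ((h.b).orthogonal W) + _ = _
  rw [h1]; omega

theorem card_sub (W : Submodule (ZMod 2) h.V) : Nat.card W = 2 ^ finrank (ZMod 2) W := by
  have := finite_V h
  rw [Module.natCard_eq_pow_finrank (K := ZMod 2) (V := W), Nat.card_zmod]

theorem card_V : Nat.card h.V = 2 ^ finrank (ZMod 2) h.V := by
  have := finite_V h
  rw [Module.natCard_eq_pow_finrank (K := ZMod 2) (V := h.V), Nat.card_zmod]

/-- If `w ∉ U` there is a vector orthogonal to `U` and not to `w`. -/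
theorem exists_perp_ne {U : Submodule (ZMod 2) h.V} {w : h.V} (hw : w ∉ U) :
    ∃ v ∈ perp h U, h.b v w = 1 := by
  by_contra hcon
  push Not at hcon
  apply hw
  rw [← perp_perp h U, mem_perp]
  intro v hv
  exact (zmod2_cases _).resolve_right (hcon v hv)

end gen

section act

variable {G : Type*} [Group G] {Q : Subgroup G} {z : G} (h : Large Q z)

theorem add_self' (v : h.V) : v + v = 0 := h.add_self v

theorem add_eq_zero_iff' (v w : h.V) : v + w = 0 ↔ v = w := by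
  constructor
  · intro hvw
    have : v + w + w = w := by rw [hvw, zero_add]
    rwa [add_assoc, h.add_self, add_zero] at this
  · rintro rfl; exact h.add_self v

theorem b_act_left (c : Subgroup.centralizer ({z} : Set G)) (v w : h.V) :
    h.b (h.act c v) w = h.b v (h.act c⁻¹ w) := by
  rw [← h.b_act c v (h.act c⁻¹ w)]
  congr 1
  rw [map_inv]
  exact ((h.act c).apply_symm_apply w).symm

theorem act_act (c d : Subgroup.centralizer ({z} : Set G)) (v : h.V) :
    h.act c (h.act d v) = h.act (c * d) v := by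
  rw [map_mul]; rfl

theorem act_one (v : h.V) : h.act 1 v = v := by rw [map_one]; rfl

theorem act_inv_act (c : Subgroup.centralizer ({z} : Set G)) (v : h.V) :
    h.act c⁻¹ (h.act c v) = v := by
  rw [act_act, inv_mul_cancel, act_one]

theorem act_act_inv (c : Subgroup.centralizer ({z} : Set G)) (v : h.V) :
    h.act c (h.act c⁻¹ v) = v := by
  rw [act_act, mul_inv_cancel, act_one]

/-- `q (c v + v) = b (c v) v`. -/
theorem q_act_add (c : Subgroup.centralizer ({z} : Set G)) (v : h.V) :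
    h.q (h.act c v + v) = h.b (h.act c v) v := by
  rw [h.q_add', h.q_act, zmod2_add_self, zero_add]

/-- `(c + 1) V` is the orthogonal complement of `C_V(c)`. -/
theorem mem_perp_fixV [Finite Q] (c : Subgroup.centralizer ({z} : Set G)) (v : h.V) :
    v ∈ perp h (fixV h c) ↔ ∃ w, v = h.act c w + w := by
  have hfin := finite_V h
  set D : Submodule (ZMod 2) h.V :=
    LinearMap.range ((h.act c : h.V →ₗ[ZMod 2] h.V) + LinearMap.id) with hD
  have hmem : ∀ v, v ∈ D ↔ ∃ w, v = h.act c w + w := by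
    intro v
    rw [hD, LinearMap.mem_range]
    constructor
    · rintro ⟨w, rfl⟩; exact ⟨w, rfl⟩
    · rintro ⟨w, rfl⟩; exact ⟨w, rfl⟩
  have h1 : perp h D = fixV h c := by
    ext w
    rw [mem_perp, mem_fixV]
    constructor
    · intro hw
      have h2 : ∀ u, h.b u (h.act c⁻¹ w + w) = 0 := by
        intro u
        have h3 := hw _ ((hmem _).2 ⟨u, rfl⟩)
        rw [map_add, LinearMap.add_apply, b_act_left] at h3
        rw [map_add]; exact h3
      have h3 : h.act c⁻¹ w + w = 0 := by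
        apply h.b_nondeg
        intro u
        rw [h.b_comm]; exact h2 u
      rw [add_eq_zero_iff'] at h3
      conv_lhs => rw [← h3]
      exact act_act_inv h c w
    · intro hw u hu
      obtain ⟨u', rfl⟩ := (hmem _).1 hu
      have h4 : h.act c⁻¹ w = w := by
        conv_lhs => rw [← hw]
        exact act_inv_act h c w
      rw [map_add, LinearMap.add_apply, b_act_left, h4, zmod2_add_self]
  rw [← h1, perp_perp, hmem]

end act

/-! ### pairs -/

structure Ctx {G : Type*} [Group G] (Q P : Subgroup G) (z y : G) : Prop where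
  HQ : Hyp Q z
  HP : Hyp P y
  cj : ∃ g : G, g * z * g⁻¹ = y
  wQ : ∀ g : G, g * z * g⁻¹ ∈ Q → g * z * g⁻¹ = z
  wP : ∀ g : G, g * y * g⁻¹ ∈ P → g * y * g⁻¹ = y
  ne : y ≠ z
  yz : y * z = z * y

namespace Ctx

variable {G : Type*} [Group G] {Q P : Subgroup G} {z y : G}

theorem symm (X : Ctx Q P z y) : Ctx P Q y z where
  HQ := X.HP
  HP := X.HQ
  cj := by
    obtain ⟨g, hg⟩ := X.cj
    exact ⟨g⁻¹, by rw [← hg]; group⟩
  wQ := X.wP
  wP := X.wQ
  ne := X.ne.symm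
  yz := X.yz.symm

theorem y_notMem (X : Ctx Q P z y) : y ∉ Q := by
  intro hy
  obtain ⟨g, hg⟩ := X.cj
  exact X.ne (hg ▸ X.wQ g (hg.symm ▸ hy))

theorem z_notMem (X : Ctx Q P z y) : z ∉ P := X.symm.y_notMem

theorem yy (X : Ctx Q P z y) : y * y = 1 := X.HP.large.z_sq

theorem zz (X : Ctx Q P z y) : z * z = 1 := X.HQ.large.z_sq

theorem y_inv (X : Ctx Q P z y) : y⁻¹ = y := X.HP.large.z_inv

theorem z_inv (X : Ctx Q P z y) : z⁻¹ = z := X.HQ.large.z_inv

/-- The involution `y` as an element of `C_G(z)`. -/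
def Y (X : Ctx Q P z y) : Subgroup.centralizer ({z} : Set G) :=
  ⟨y, Subgroup.mem_centralizer_singleton_iff.2 X.yz⟩

theorem Y_mul (X : Ctx Q P z y) : X.Y * X.Y = 1 := Subtype.ext X.yy

theorem Y_inv (X : Ctx Q P z y) : X.Y⁻¹ = X.Y := inv_eq_of_mul_eq_one_left X.Y_mul

/-- Elements of `Q` commuting with `y` commute with `Q ∩ P`. -/
theorem comm_R (X : Ctx Q P z y) {a r : G} (ha : a ∈ Q) (hay : a * y = y * a) (hr : r ∈ Q)
    (hr' : r ∈ P) : a * r = r * a := by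
  rcases X.HQ.large.comm a ha r hr with h1 | h1
  · exact h1
  · exfalso
    apply X.z_notMem
    have h2 : a * r * a⁻¹ ∈ P := X.HP.large.conj_mem a hay r hr'
    have h3 : a * r * a⁻¹ = r * z := by
      rw [h1, mul_assoc r a z, X.HQ.large.comm_z a ha, ← mul_assoc, mul_inv_cancel_right]
    rw [h3] at h2
    have h4 := P.mul_mem (P.inv_mem hr') h2
    rwa [inv_mul_cancel_left] at h4

theorem sq_R (X : Ctx Q P z y) {r : G} (hr : r ∈ Q) (hr' : r ∈ P) : r * r = 1 := by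
  rcases X.HQ.large.sq r hr with h1 | h1
  · exact h1
  · exfalso
    apply X.z_notMem
    rw [← h1]; exact P.mul_mem hr' hr'

/-- `[A, B] ≤ Q ∩ P`. -/
theorem comm_AB (X : Ctx Q P z y) {a b : G} (ha : a ∈ Q) (hay : a * y = y * a) (hb : b ∈ P)
    (hbz : b * z = z * b) : b * a * b⁻¹ * a⁻¹ ∈ Q ∧ b * a * b⁻¹ * a⁻¹ ∈ P := by
  constructor
  · exact Q.mul_mem (X.HQ.large.conj_mem b hbz a ha) (Q.inv_mem ha)
  · have h1 := P.mul_mem hb (X.HP.large.conj_mem a hay b⁻¹ (P.inv_mem hb))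
    have e : b * (a * b⁻¹ * a⁻¹) = b * a * b⁻¹ * a⁻¹ := by group
    rwa [e] at h1

/-- Weak closure: if `[x, y] ∈ P` then `x` commutes with `y`. -/
theorem comm_of_mem (X : Ctx Q P z y) {x : G} (hx : x * y * x⁻¹ * y⁻¹ ∈ P) : x * y = y * x := by
  have h1 : x * y * x⁻¹ ∈ P := by
    have := P.mul_mem hx X.HP.large.z_mem
    rwa [inv_mul_cancel_right] at this
  exact mul_inv_eq_iff_eq_mul.1 (X.wP x h1)

theorem comm_mem_Q (X : Ctx Q P z y) {x : G} (hx : x ∈ Q) : x * y * x⁻¹ * y⁻¹ ∈ Q := by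
  have h1 := Q.mul_mem hx (X.HQ.large.conj_mem y X.yz x⁻¹ (Q.inv_mem hx))
  have e : x * (y * x⁻¹ * y⁻¹) = x * y * x⁻¹ * y⁻¹ := by group
  rwa [e] at h1

/-! #### the vector space side -/

/-- `C_V(y)` -/
def FV (X : Ctx Q P z y) : Submodule (ZMod 2) X.HQ.large.V := fixV X.HQ.large X.Y

/-- `[V, y]` -/
noncomputable def FF (X : Ctx Q P z y) : Submodule (ZMod 2) X.HQ.large.V :=
  perp X.HQ.large X.FV

theorem act_Y_pr (X : Ctx Q P z y) (x : Q) :
    X.HQ.large.act X.Y (X.HQ.large.pr x) =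
      X.HQ.large.pr ⟨y * x * y⁻¹, X.HQ.large.conj_mem y X.yz x x.2⟩ :=
  X.HQ.large.act_pr X.Y x

theorem act_Y_Y (X : Ctx Q P z y) (v : X.HQ.large.V) :
    X.HQ.large.act X.Y (X.HQ.large.act X.Y v) = v := by
  rw [act_act, X.Y_mul, act_one]

theorem pr_mem_FV (X : Ctx Q P z y) (x : Q) :
    X.HQ.large.pr x ∈ X.FV ↔ y * (x : G) * y⁻¹ = x ∨ y * (x : G) * y⁻¹ = x * z := by
  show X.HQ.large.act X.Y (X.HQ.large.pr x) = _ ↔ _
  rw [act_Y_pr, X.HQ.large.pr_eq_pr]

theorem pr_add_self {h : Large Q z} (x : Q) : h.pr x + h.pr x = 0 := h.add_self _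

/-- `y x y⁻¹ x⁻¹` lifts `(y + 1) x`. -/
theorem pr_comm (X : Ctx Q P z y) (x : Q) :
    X.HQ.large.pr ⟨y * x * y⁻¹ * (x : G)⁻¹,
        Q.mul_mem (X.HQ.large.conj_mem y X.yz x x.2) (Q.inv_mem x.2)⟩ =
      X.HQ.large.act X.Y (X.HQ.large.pr x) + X.HQ.large.pr x := by
  rw [act_Y_pr, ← X.HQ.large.neg_eq (X.HQ.large.pr x), ← X.HQ.large.pr_inv, ← X.HQ.large.pr_mul]
  rfl

/-- `x y x⁻¹ y⁻¹` lifts `(y + 1) x`. -/
theorem pr_comm' (X : Ctx Q P z y) (x : Q) :
    X.HQ.large.pr ⟨x * y * (x : G)⁻¹ * y⁻¹, X.comm_mem_Q x.2⟩ =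
      X.HQ.large.act X.Y (X.HQ.large.pr x) + X.HQ.large.pr x := by
  have e : (⟨x * y * (x : G)⁻¹ * y⁻¹, X.comm_mem_Q x.2⟩ : Q) =
      (⟨y * x * y⁻¹ * (x : G)⁻¹,
        Q.mul_mem (X.HQ.large.conj_mem y X.yz x x.2) (Q.inv_mem x.2)⟩ : Q)⁻¹ := by
    apply Subtype.ext
    show x * y * (x : G)⁻¹ * y⁻¹ = (y * x * y⁻¹ * (x : G)⁻¹)⁻¹
    group
  rw [e, X.HQ.large.pr_inv, X.HQ.large.neg_eq, pr_comm]

/-- `A / ⟨z⟩`, `A = C_Q(y)` -/
def WA (X : Ctx Q P z y) : Submodule (ZMod 2) X.HQ.large.V where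
  carrier := {v | ∃ x : Q, X.HQ.large.pr x = v ∧ (x : G) * y = y * x}
  add_mem' := by
    rintro _ _ ⟨a, rfl, ha⟩ ⟨b, rfl, hb⟩
    refine ⟨a * b, rfl, ?_⟩
    rw [Subgroup.coe_mul, mul_assoc, hb, ← mul_assoc, ha, mul_assoc]
  zero_mem' := ⟨1, rfl, by simp⟩
  smul_mem' := by
    rintro c _ ⟨a, rfl, ha⟩
    rcases zmod2_cases c with rfl | rfl
    · exact ⟨1, by rw [zero_smul]; rfl, by simp⟩
    · exact ⟨a, by rw [one_smul], ha⟩

theorem pr_mem_WA (X : Ctx Q P z y) (x : Q) :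
    X.HQ.large.pr x ∈ X.WA ↔ (x : G) * y = y * x := by
  constructor
  · rintro ⟨x', h1, h2⟩
    rcases X.HQ.large.pr_eq_pr.1 h1 with h3 | h3
    · rw [← h3]; exact h2
    · have h4 : (x : G) = x' * z := by rw [h3, mul_assoc, X.zz, mul_one]
      rw [h4, mul_assoc, ← X.yz, ← mul_assoc, h2, mul_assoc]
  · intro h1; exact ⟨x, rfl, h1⟩

theorem WA_le (X : Ctx Q P z y) : X.WA ≤ X.FV := by
  intro v hv
  obtain ⟨x, rfl⟩ := X.HQ.large.pr_surjective v
  rw [pr_mem_WA] at hv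
  rw [pr_mem_FV]
  left
  rw [← hv, mul_inv_cancel_right]

/-- The image of `Q ∩ P` in `V`. -/
def RV (X : Ctx Q P z y) : Submodule (ZMod 2) X.HQ.large.V where
  carrier := {v | ∃ x : Q, X.HQ.large.pr x = v ∧ (x : G) ∈ P}
  add_mem' := by
    rintro _ _ ⟨a, rfl, ha⟩ ⟨b, rfl, hb⟩
    exact ⟨a * b, rfl, P.mul_mem ha hb⟩
  zero_mem' := ⟨1, rfl, P.one_mem⟩
  smul_mem' := by
    rintro c _ ⟨a, rfl, ha⟩
    rcases zmod2_cases c with rfl | rfl
    · exact ⟨1, by rw [zero_smul]; rfl, P.one_mem⟩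
    · exact ⟨a, by rw [one_smul], ha⟩

theorem RV_le (X : Ctx Q P z y) : X.RV ≤ X.WA := by
  rintro _ ⟨r, rfl, hr⟩
  rw [pr_mem_WA]
  exact X.HP.large.comm_z r hr

theorem b_RV_WA (X : Ctx Q P z y) {r w : X.HQ.large.V} (hr : r ∈ X.RV) (hw : w ∈ X.WA) :
    X.HQ.large.b r w = 0 := by
  obtain ⟨r, rfl, hrP⟩ := hr
  obtain ⟨x, rfl, hx⟩ := hw
  rw [X.HQ.large.b_pr]
  exact (X.comm_R x.2 hx r.2 hrP).symm

theorem RV_le_perp (X : Ctx Q P z y) : X.RV ≤ perp X.HQ.large X.WA := by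
  intro r hr
  rw [mem_perp']
  intro w hw
  exact X.b_RV_WA hr hw

theorem q_RV (X : Ctx Q P z y) {r : X.HQ.large.V} (hr : r ∈ X.RV) : X.HQ.large.q r = 0 := by
  obtain ⟨r, rfl, hrP⟩ := hr
  rw [X.HQ.large.q_eq_zero]
  exact X.sq_R r.2 hrP

/-- A vector fixed by `y`, not in `A/⟨z⟩`: its lifts are not centralised by `y`. -/
theorem conj_of_notMem_WA (X : Ctx Q P z y) {x : Q} (h1 : X.HQ.large.pr x ∈ X.FV)
    (h2 : X.HQ.large.pr x ∉ X.WA) : y * (x : G) * y⁻¹ = x * z := by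
  rcases (X.pr_mem_FV x).1 h1 with h3 | h3
  · exfalso; apply h2
    rw [pr_mem_WA]
    exact (mul_inv_eq_iff_eq_mul.1 h3).symm
  · exact h3

/-- `A/⟨z⟩` has index at most two in `C_V(y)`. -/
theorem WA_index (X : Ctx Q P z y) {v w : X.HQ.large.V} (hv : v ∈ X.FV) (hw : w ∈ X.FV)
    (hv' : v ∉ X.WA) (hw' : w ∉ X.WA) : v + w ∈ X.WA := by
  obtain ⟨x, rfl⟩ := X.HQ.large.pr_surjective v
  obtain ⟨x', rfl⟩ := X.HQ.large.pr_surjective w
  rw [← X.HQ.large.pr_mul, pr_mem_WA]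
  have h1 := X.conj_of_notMem_WA hv hv'
  have h2 := X.conj_of_notMem_WA hw hw'
  have hc := X.HQ.large.comm_z x' x'.2
  rw [eq_comm, ← mul_inv_eq_iff_eq_mul, Subgroup.coe_mul]
  calc y * ((x : G) * x') * y⁻¹ = (y * x * y⁻¹) * (y * x' * y⁻¹) := by group
    _ = (x * z) * (x' * z) := by rw [h1, h2]
    _ = x * (z * x') * z := by group
    _ = x * x' * (z * z) := by rw [← hc]; group
    _ = x * x' := by rw [X.zz, mul_one]

end Ctx

end Cfsg.Agent.CoOneNWC
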