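import Mathlib
import Cfsg.Agent.CoOneNWC.PairBase
import Cfsg.Agent.CoOneNWC.Bridge

/-!
# Commuting pairs: the case `C_Q(y)` covers `C_V(y)`

`X.WA = X.FV`: then `C_C(y)` contains enough elements to see that the image of `Q ∩ P` in `[V, y]` is closed
under `β`-non-orthogonal vectors, `β((y+1)v, w) = b(v, w)`.
-/

set_option autoImplicit false

namespace Cfsg.Agent.CoOneNWC

open Cfsg.Agent.Co2Type.Quad Module

namespace Ctx

variable {G : Type*} [Group G] [Finite G] {Q P : Subgroup G} {z y : G}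

theorem mem_FF (X : Ctx Q P z y) (v : X.HQ.large.V) :
    v ∈ X.FF ↔ ∃ w, v = X.HQ.large.act X.Y w + w := mem_perp_fixV X.HQ.large X.Y v

theorem act_add_mem_FF (X : Ctx Q P z y) (v : X.HQ.large.V) :
    X.HQ.large.act X.Y v + v ∈ X.FF := (X.mem_FF _).2 ⟨v, rfl⟩

theorem FF_le_FV (X : Ctx Q P z y) : X.FF ≤ X.FV := by
  intro v hv
  obtain ⟨w, rfl⟩ := (X.mem_FF v).1 hv
  show X.HQ.large.act X.Y (X.HQ.large.act X.Y w + w) = _
  rw [map_add, X.act_Y_Y, add_comm]

theorem perp_FF (X : Ctx Q P z y) : perp X.HQ.large X.FF = X.FV := perp_perp _ _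

theorem perp_FV (X : Ctx Q P z y) : perp X.HQ.large X.FV = X.FF := rfl

theorem b_FF_FV (X : Ctx Q P z y) {f w : X.HQ.large.V} (hf : f ∈ X.FF) (hw : w ∈ X.FV) :
    X.HQ.large.b f w = 0 := (mem_perp' _).1 hf w hw

theorem b_act_Y (X : Ctx Q P z y) (v w : X.HQ.large.V) :
    X.HQ.large.b (X.HQ.large.act X.Y v) w = X.HQ.large.b v (X.HQ.large.act X.Y w) := by
  rw [b_act_left, X.Y_inv]

/-- symmetry of `β` -/
theorem b_symm (X : Ctx Q P z y) (v w : X.HQ.large.V) :
    X.HQ.large.b (X.HQ.large.act X.Y v + v) w = X.HQ.large.b v (X.HQ.large.act X.Y w + w) := by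
  rw [map_add, LinearMap.add_apply, b_act_Y, map_add]

/-- `[V, y]` meets `A/⟨z⟩` in the singular vectors. -/
theorem mem_WA_iff (X : Ctx Q P z y) {f : X.HQ.large.V} (hf : f ∈ X.FF) :
    f ∈ X.WA ↔ X.HQ.large.q f = 0 := by
  obtain ⟨w, rfl⟩ := (X.mem_FF f).1 hf
  obtain ⟨x, rfl⟩ := X.HQ.large.pr_surjective w
  rw [← X.pr_comm x, X.pr_mem_WA, X.HQ.large.q_eq_zero]
  show y * x * y⁻¹ * (x : G)⁻¹ * y = y * (y * x * y⁻¹ * (x : G)⁻¹) ↔
    y * x * y⁻¹ * (x : G)⁻¹ * (y * x * y⁻¹ * (x : G)⁻¹) = 1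
  set k : G := y * x * y⁻¹ * (x : G)⁻¹ with hk
  have h1 : y * k * y⁻¹ = k⁻¹ := by
    rw [hk, X.y_inv]
    calc y * (y * x * y * (x : G)⁻¹) * y = (y * y) * (x * y * (x : G)⁻¹ * y) := by group
      _ = x * y⁻¹ * (x : G)⁻¹ * y⁻¹ := by rw [X.yy, X.y_inv, one_mul]
      _ = (y * x * y * (x : G)⁻¹)⁻¹ := by group
  constructor
  · intro h2
    have h3 : k = k⁻¹ := by rw [← h1, ← h2, mul_inv_cancel_right]
    nth_rewrite 2 [h3]
    exact mul_inv_cancel k
  · intro h2
    have h3 : k⁻¹ = k := inv_eq_of_mul_eq_one_left h2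
    rw [h3] at h1
    exact (mul_inv_eq_iff_eq_mul.1 h1).symm

theorem finrank_FF (X : Ctx Q P z y) : finrank (ZMod 2) X.FF + finrank (ZMod 2) X.FV = 8 := by
  rw [← X.HQ.finrank_V]
  exact finrank_perp X.HQ.large X.FV

theorem FV_ne_top (X : Ctx Q P z y) : X.FV ≠ ⊤ := by
  intro h1
  apply X.y_notMem
  have h2 : X.HQ.large.act X.Y = 1 := by
    apply LinearEquiv.ext
    intro v
    have : v ∈ X.FV := by rw [h1]; exact Submodule.mem_top
    exact this
  exact X.HQ.large.mem_of_act X.Y h2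

/-- The two possibilities for `dim C_V(y)`. -/
theorem finrank_FV (X : Ctx Q P z y) :
    finrank (ZMod 2) X.FV = 4 ∨ finrank (ZMod 2) X.FV = 6 := by
  have hfin := finite_V X.HQ.large
  have h1 := X.finrank_FF
  have h2 := Submodule.finrank_mono X.FF_le_FV
  have h3 : Even (finrank (ZMod 2) X.FV) := X.HQ.even_fix X.Y
  have h4 : finrank (ZMod 2) X.FV ≠ 8 := by
    intro h4
    apply X.FV_ne_top
    apply Submodule.eq_top_of_finrank_eq
    rw [h4, X.HQ.finrank_V]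
  obtain ⟨k, hk⟩ := h3
  omega

section full

variable (X : Ctx Q P z y) (hW : X.WA = X.FV)

include hW

theorem q_FF {f : X.HQ.large.V} (hf : f ∈ X.FF) : X.HQ.large.q f = 0 := by
  rw [← X.mem_WA_iff hf, hW]
  exact X.FF_le_FV hf

theorem RV_le_FF : X.RV ≤ X.FF := by
  have := X.RV_le_perp
  rwa [hW] at this

/-- Distinct non-zero vectors `r, s` of the image of `Q ∩ P` satisfy `β(r, s) = 1`. -/
theorem beta_RV {r s v : X.HQ.large.V} (hr : r ∈ X.RV) (hs : s ∈ X.RV) (hr0 : r ≠ 0)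
    (hs0 : s ≠ 0) (hrs : r ≠ s) (hv : X.HQ.large.act X.Y v + v = r) :
    X.HQ.large.b v s = 1 := by
  obtain ⟨w, hw⟩ := (X.mem_FF s).1 (X.RV_le_FF hW hs)
  -- a commutator `[x, y]` lifting a non-zero vector of `RV` is `z` times an element of `P`
  have key : ∀ (x : Q) (t : X.HQ.large.V), X.HQ.large.act X.Y (X.HQ.large.pr x) +
      X.HQ.large.pr x = t → t ∈ X.RV → t ≠ 0 →
      ∃ r : G, r ∈ Q ∧ r ∈ P ∧ x * y * (x : G)⁻¹ * y⁻¹ = r * z := by
    rintro x _ h1 ⟨r, rfl, hrP⟩ h2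
    rw [← X.pr_comm', X.HQ.large.pr_eq_pr] at h1
    rcases h1 with h1 | h1
    · exfalso
      have h3 : (x : G) * y = y * x := X.comm_of_mem (by
        have : (x : G) * y * (x : G)⁻¹ * y⁻¹ = r := h1
        rw [this]; exact hrP)
      apply h2
      have h4 : (r : G) = 1 := by
        rw [← h1]
        show (x : G) * y * (x : G)⁻¹ * y⁻¹ = 1
        rw [h3]; group
      rw [X.HQ.large.pr_eq_zero]; exact Or.inl h4
    · exact ⟨r, r.2, hrP, h1⟩
  obtain ⟨x, rfl⟩ := X.HQ.large.pr_surjective v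
  obtain ⟨x', rfl⟩ := X.HQ.large.pr_surjective w
  obtain ⟨r1, hr1Q, hr1P, hr1⟩ := key x r hv hr hr0
  obtain ⟨s1, hs1Q, hs1P, hs1⟩ := key x' s hw.symm hs hs0
  by_contra hcon
  have hb0 : X.HQ.large.b (X.HQ.large.pr x) s = 0 := (zmod2_cases _).resolve_right hcon
  have hsl : s = X.HQ.large.pr ⟨s1, hs1Q⟩ := by
    rw [hw, ← X.pr_comm', X.HQ.large.pr_eq_pr]
    exact Or.inr hs1
  have hrl : r = X.HQ.large.pr ⟨r1, hr1Q⟩ := by
    rw [← hv, ← X.pr_comm', X.HQ.large.pr_eq_pr]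
    exact Or.inr hr1
  rw [hsl, X.HQ.large.b_pr] at hb0
  have hb1 : (x : G) * s1 = s1 * x := hb0
  -- `[x x', y] = s1 r1`
  have hxz := X.HQ.large.comm_z x x.2
  have hrz := X.HQ.large.comm_z r1 hr1Q
  have e1 : ((x : G) * x') * y * ((x : G) * x')⁻¹ * y⁻¹ = s1 * r1 := by
    calc ((x : G) * x') * y * ((x : G) * x')⁻¹ * y⁻¹
        = x * (x' * y * (x' : G)⁻¹ * y⁻¹) * (x : G)⁻¹ * (x * y * (x : G)⁻¹ * y⁻¹) := by group
      _ = x * (s1 * z) * (x : G)⁻¹ * (r1 * z) := by rw [hr1, hs1]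
      _ = (x * s1) * z * (x : G)⁻¹ * (r1 * z) := by group
      _ = s1 * (x * z) * (x : G)⁻¹ * (r1 * z) := by rw [hb1]; group
      _ = s1 * z * (r1 * z) := by rw [hxz]; group
      _ = s1 * (z * (z * r1)) := by rw [← hrz]; group
      _ = s1 * ((z * z) * r1) := by group
      _ = s1 * r1 := by rw [X.zz, one_mul]
  have h5 : ((x : G) * x') * y = y * ((x : G) * x') := X.comm_of_mem (by
    rw [e1]; exact P.mul_mem hs1P hr1P)
  have h6 : s1 * r1 = 1 := by rw [← e1, h5]; group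
  apply hrs
  rw [hsl, hrl]
  have h7 : r1 = s1 := by
    have h8 := X.sq_R hs1Q hs1P
    calc r1 = (s1 * s1) * r1 := by rw [h8, one_mul]
      _ = s1 * (s1 * r1) := by group
      _ = s1 := by rw [h6, mul_one]
  congr 1
  exact Subtype.ext h7

/-- An element of `C_G(z)` commuting with `y` modulo `Q` can be adjusted by `Q` so as to fix `y` or to
map it to `y z`. -/
theorem exists_adjust (c : Subgroup.centralizer ({z} : Set G))
    (hc : ∀ v, X.HQ.large.act c (X.HQ.large.act X.Y v) = X.HQ.large.act X.Y (X.HQ.large.act c v)) :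
    ∃ x : Q, ((x : G)⁻¹ * c) * y * ((x : G)⁻¹ * c)⁻¹ = y ∨
      ((x : G)⁻¹ * c) * y * ((x : G)⁻¹ * c)⁻¹ = y * z := by
  have hcz := Subgroup.mem_centralizer_singleton_iff.1 c.2
  set k : G := c * y * (c : G)⁻¹ * y⁻¹ with hk
  have hkQ : k ∈ Q := by
    have h1 : X.HQ.large.act (c * X.Y * c⁻¹ * X.Y⁻¹) = 1 := by
      apply LinearEquiv.ext
      intro v
      rw [← act_act, ← act_act, ← act_act, X.Y_inv]
      show _ = v
      rw [hc, act_act_inv, X.act_Y_Y]
    exact X.HQ.large.mem_of_act _ h1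
  -- `k` commutes with the preimage of `C_V(y)`
  have hcomm : ∀ x : Q, X.HQ.large.pr x ∈ X.FV → (x : G) * k = k * x := by
    intro x hx
    have h1 : (x : G) * y = y * x := by rwa [← X.pr_mem_WA, hW]
    have h2 : X.HQ.large.pr (X.HQ.large.conjQ c⁻¹ x) ∈ X.WA := by
      rw [hW, ← X.HQ.large.act_pr]
      show X.HQ.large.act X.Y _ = _
      have h3 := hc (X.HQ.large.act c⁻¹ (X.HQ.large.pr x))
      rw [act_act_inv] at h3
      have h4 : X.HQ.large.act X.Y (X.HQ.large.pr x) = X.HQ.large.pr x := hx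
      rw [h4] at h3
      conv_rhs => rw [← h3]
      rw [act_inv_act]
    rw [X.pr_mem_WA] at h2
    have h3 : ((c : G)⁻¹ * x * (c : G)) * y = y * ((c : G)⁻¹ * x * c) := by
      have : ((X.HQ.large.conjQ c⁻¹ x : Q) : G) = (c : G)⁻¹ * x * c := by
        rw [X.HQ.large.conjQ_coe]
        show (c : G)⁻¹ * x * ((c : G)⁻¹)⁻¹ = _
        rw [inv_inv]
      rwa [this] at h2
    have h4 : (x : G) * (c * y * (c : G)⁻¹) = (c * y * (c : G)⁻¹) * x := by
      calc (x : G) * (c * y * (c : G)⁻¹) = c * (((c : G)⁻¹ * x * c) * y) * (c : G)⁻¹ := by group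
        _ = c * (y * ((c : G)⁻¹ * x * c)) * (c : G)⁻¹ := by rw [h3]
        _ = _ := by group
    have h5 : (x : G) * y⁻¹ = y⁻¹ * x := by rw [X.y_inv]; exact h1
    calc (x : G) * k = (x * (c * y * (c : G)⁻¹)) * y⁻¹ := by rw [hk]; group
      _ = (c * y * (c : G)⁻¹) * (x * y⁻¹) := by rw [h4]; group
      _ = k * x := by rw [h5, hk]; group
  have hkF : X.HQ.large.pr ⟨k, hkQ⟩ ∈ X.FF := by
    show X.HQ.large.pr ⟨k, hkQ⟩ ∈ perp X.HQ.large X.FV
    rw [mem_perp']
    intro w hw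
    obtain ⟨x, rfl⟩ := X.HQ.large.pr_surjective w
    rw [X.HQ.large.b_pr]
    exact (hcomm x hw).symm
  obtain ⟨w, hw⟩ := (X.mem_FF _).1 hkF
  obtain ⟨x, rfl⟩ := X.HQ.large.pr_surjective w
  rw [← X.pr_comm', X.HQ.large.pr_eq_pr] at hw
  have hxz := X.HQ.large.comm_z x x.2
  refine ⟨x, ?_⟩
  have e1 : ((x : G)⁻¹ * c) * y * ((x : G)⁻¹ * c)⁻¹ = (x : G)⁻¹ * (k * y) * x := by
    rw [hk]; group
  rw [e1]
  rcases hw with hw | hw
  · left
    have hw' : k = x * y * (x : G)⁻¹ * y⁻¹ := hw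
    rw [hw']; group
  · right
    have hw' : k = x * y * (x : G)⁻¹ * y⁻¹ * z := hw
    calc (x : G)⁻¹ * (k * y) * x = (x : G)⁻¹ * (x * y * (x : G)⁻¹ * y⁻¹ * z * y) * x := by rw [hw']
      _ = y * (x : G)⁻¹ * y⁻¹ * (z * y) * x := by group
      _ = y * (x : G)⁻¹ * y⁻¹ * (y * z) * x := by rw [X.yz]
      _ = y * (x : G)⁻¹ * (z * x) := by group
      _ = y * (x : G)⁻¹ * (x * z) := by rw [hxz]
      _ = y * z := by group

/-- Squares of products of two such elements are induced by elements of `C_G(z) ∩ C_G(y)`. -/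
theorem exists_sq (c₁ c₂ : Subgroup.centralizer ({z} : Set G))
    (h₁ : ∀ v, X.HQ.large.act c₁ (X.HQ.large.act X.Y v) = X.HQ.large.act X.Y (X.HQ.large.act c₁ v))
    (h₂ : ∀ v, X.HQ.large.act c₂ (X.HQ.large.act X.Y v) = X.HQ.large.act X.Y (X.HQ.large.act c₂ v)) :
    ∃ d : Subgroup.centralizer ({z} : Set G), (d : G) * y = y * d ∧
      ∀ v, X.HQ.large.act d v = X.HQ.large.act c₁ (X.HQ.large.act c₂
        (X.HQ.large.act c₁ (X.HQ.large.act c₂ v))) := by
  obtain ⟨x₁, hx₁⟩ := X.exists_adjust hW c₁ h₁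
  obtain ⟨x₂, hx₂⟩ := X.exists_adjust hW c₂ h₂
  have hx : ∀ x : Q, (x : G) ∈ Subgroup.centralizer ({z} : Set G) := fun x =>
    Subgroup.mem_centralizer_singleton_iff.2 (X.HQ.large.comm_z x x.2)
  obtain ⟨d₁, hd₁⟩ : ∃ d : Subgroup.centralizer ({z} : Set G), d = ⟨x₁, hx x₁⟩⁻¹ * c₁ := ⟨_, rfl⟩
  obtain ⟨d₂, hd₂⟩ : ∃ d : Subgroup.centralizer ({z} : Set G), d = ⟨x₂, hx x₂⟩⁻¹ * c₂ := ⟨_, rfl⟩
  have ha₁ : ∀ v, X.HQ.large.act d₁ v = X.HQ.large.act c₁ v := by
    intro v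
    rw [hd₁, ← act_act, map_inv, X.HQ.large.act_mem ⟨x₁, hx x₁⟩ x₁.2, inv_one]
    rfl
  have ha₂ : ∀ v, X.HQ.large.act d₂ v = X.HQ.large.act c₂ v := by
    intro v
    rw [hd₂, ← act_act, map_inv, X.HQ.large.act_mem ⟨x₂, hx x₂⟩ x₂.2, inv_one]
    rfl
  have hz : ∀ d : Subgroup.centralizer ({z} : Set G), (d : G) * z * (d : G)⁻¹ = z := by
    intro d
    rw [Subgroup.mem_centralizer_singleton_iff.1 d.2, mul_inv_cancel_right]
  have hy₁ : (d₁ : G) * y * (d₁ : G)⁻¹ = y ∨ (d₁ : G) * y * (d₁ : G)⁻¹ = y * z := by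
    rw [hd₁]; exact hx₁
  have hy₂ : (d₂ : G) * y * (d₂ : G)⁻¹ = y ∨ (d₂ : G) * y * (d₂ : G)⁻¹ = y * z := by
    rw [hd₂]; exact hx₂
  obtain ⟨e, he⟩ : ∃ e : Subgroup.centralizer ({z} : Set G), e = d₁ * d₂ := ⟨_, rfl⟩
  have hye : (e : G) * y * (e : G)⁻¹ = y ∨ (e : G) * y * (e : G)⁻¹ = y * z := by
    have e1 : (e : G) * y * (e : G)⁻¹ = d₁ * (d₂ * y * (d₂ : G)⁻¹) * (d₁ : G)⁻¹ := by
      rw [he, Subgroup.coe_mul]; group
    have e2 : (d₁ : G) * (y * z) * (d₁ : G)⁻¹ = (d₁ * y * (d₁ : G)⁻¹) * z := by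
      calc (d₁ : G) * (y * z) * (d₁ : G)⁻¹ = (d₁ * y * (d₁ : G)⁻¹) * (d₁ * z * (d₁ : G)⁻¹) := by
            group
        _ = _ := by rw [hz]
    rw [e1]
    rcases hy₂ with h3 | h3 <;> rw [h3]
    · exact hy₁
    · rw [e2]
      rcases hy₁ with h4 | h4 <;> rw [h4]
      · exact Or.inr rfl
      · left; rw [mul_assoc, X.zz, mul_one]
  refine ⟨e * e, ?_, ?_⟩
  · rw [← mul_inv_eq_iff_eq_mul]
    have e1 : ((e * e : Subgroup.centralizer ({z} : Set G)) : G) * y *
        ((e * e : Subgroup.centralizer ({z} : Set G)) : G)⁻¹ =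
        e * (e * y * (e : G)⁻¹) * (e : G)⁻¹ := by
      rw [Subgroup.coe_mul]; group
    rw [e1]
    rcases hye with h3 | h3
    · rw [h3, h3]
    · rw [h3]
      calc (e : G) * (y * z) * (e : G)⁻¹ = (e * y * (e : G)⁻¹) * (e * z * (e : G)⁻¹) := by group
        _ = y * z * z := by rw [hz, h3]
        _ = y := by rw [mul_assoc, X.zz, mul_one]
  · intro v
    have e2 : ∀ v, X.HQ.large.act e v = X.HQ.large.act c₁ (X.HQ.large.act c₂ v) := by
      intro v
      rw [he, ← act_act, ha₁, ha₂]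
    rw [← act_act, e2, e2]

omit hW in
/-- `C_G(z) ∩ C_G(y)` preserves the image of `Q ∩ P`. -/
theorem act_RV (d : Subgroup.centralizer ({z} : Set G)) (hd : (d : G) * y = y * d)
    {v : X.HQ.large.V} (hv : v ∈ X.RV) : X.HQ.large.act d v ∈ X.RV := by
  obtain ⟨r, rfl, hr⟩ := hv
  rw [X.HQ.large.act_pr]
  refine ⟨_, rfl, ?_⟩
  rw [X.HQ.large.conjQ_coe]
  exact X.HP.large.conj_mem d hd r hr

/-- Given `a ∈ [V, y]`, `a = (y + 1) v`, there is a singular vector `x ∈ v + [V, y]`. -/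
theorem exists_singular {a v : X.HQ.large.V} (ha : a ≠ 0) (hv : X.HQ.large.act X.Y v + v = a) :
    ∃ f ∈ X.FF, X.HQ.large.q (v + f) = 0 := by
  rcases zmod2_cases (X.HQ.large.q v) with h0 | h0
  · exact ⟨0, X.FF.zero_mem, by rw [add_zero]; exact h0⟩
  · have h1 : v ∉ X.FV := by
      intro h2
      apply ha
      rw [← hv]
      have : X.HQ.large.act X.Y v = v := h2
      rw [this, X.HQ.large.add_self]
    rw [← X.perp_FF] at h1
    rw [mem_perp'] at h1
    push Not at h1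
    obtain ⟨f, hf, hbf⟩ := h1
    refine ⟨f, hf, ?_⟩
    rw [X.HQ.large.q_add', h0, X.q_FF hW hf, (zmod2_cases _).resolve_left hbf]
    decide

/-- For `a = (y + 1) v ≠ 0` there is an element of `C_G(z)` acting as a Siegel transformation which commutes
with `y` and induces on `[V, y]` the transvection `f ↦ f + b(f, v) a`. -/
theorem exists_tv {a v : X.HQ.large.V} (ha : a ≠ 0) (hv : X.HQ.large.act X.Y v + v = a) :
    ∃ (c : Subgroup.centralizer ({z} : Set G)) (x : X.HQ.large.V), 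
      (∀ u, X.HQ.large.act c (X.HQ.large.act X.Y u) = X.HQ.large.act X.Y (X.HQ.large.act c u)) ∧
      (∀ f ∈ X.FF, X.HQ.large.b f x = X.HQ.large.b f v) ∧
      (∀ u, X.HQ.large.act c u = u + X.HQ.large.b u a • x + X.HQ.large.b u x • a) := by
  obtain ⟨f, hf, hqf⟩ := X.exists_singular hW ha hv
  have haF : a ∈ X.FF := by rw [← hv]; exact X.act_add_mem_FF v
  have hYf : X.HQ.large.act X.Y f = f := X.FF_le_FV hf
  obtain ⟨x, hx⟩ : ∃ x, x = v + f := ⟨_, rfl⟩
  have hYx : X.HQ.large.act X.Y x = x + a := by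
    rw [hx, map_add, hYf, ← hv]
    have : X.HQ.large.act X.Y v = v + (X.HQ.large.act X.Y v + v) := by
      rw [add_comm (X.HQ.large.act X.Y v) v, ← add_assoc, X.HQ.large.add_self, zero_add]
    conv_lhs => rw [this]
    abel
  have hqa : X.HQ.large.q a = 0 := X.q_FF hW haF
  have hax : X.HQ.large.b a x = 0 := by
    have h1 := q_act_add X.HQ.large X.Y x
    rw [hYx] at h1
    have h2 : x + a + x = a := by
      have : x + a + x = a + (x + x) := by abel
      rw [this, X.HQ.large.add_self, add_zero]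
    rw [h2, hqa, map_add, LinearMap.add_apply, X.HQ.large.b_self, zero_add] at h1
    exact h1.symm
  rw [← hx] at hqf
  obtain ⟨c, hc⟩ := X.HQ.exists_siegel hqa hqf hax
  refine ⟨c, x, ?_, ?_, hc⟩
  · intro u
    have hYa : X.HQ.large.act X.Y a = a := X.FF_le_FV haF
    rw [hc, hc, map_add, map_add, map_smul, map_smul, hYx, hYa, X.b_act_Y, X.b_act_Y, hYa, hYx,
      map_add (X.HQ.large.b u), smul_add, add_smul]
    abel
  · intro f' hf'
    rw [hx, map_add, X.b_FF_FV hf' (X.FF_le_FV hf), add_zero]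

/-- Closure: if `ρ ∈ RV` and `β(m, ρ) = 1` then `m ∈ RV`. -/
theorem mem_RV_of_beta {ρ v : X.HQ.large.V} (hρ : ρ ∈ X.RV) (hb : X.HQ.large.b v ρ = 1) :
    X.HQ.large.act X.Y v + v ∈ X.RV := by
  set m : X.HQ.large.V := X.HQ.large.act X.Y v + v with hm
  have hρF := X.RV_le_FF hW hρ
  have hmF : m ∈ X.FF := X.act_add_mem_FF v
  have hm0 : m ≠ 0 := by
    intro h0
    have hvF : v ∈ X.FV := by
      show X.HQ.large.act X.Y v = v
      rw [← add_eq_zero_iff' X.HQ.large]; exact h0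
    rw [X.HQ.large.b_comm, X.b_FF_FV hρF hvF] at hb
    exact zero_ne_one hb
  have hvm : X.HQ.large.b v m = 0 := by
    have h1 := q_act_add X.HQ.large X.Y v
    rw [← hm, X.q_FF hW hmF] at h1
    rw [hm, map_add, X.HQ.large.b_self, add_zero, X.HQ.large.b_comm]
    exact h1.symm
  -- a vector orthogonal to `ρ`, not to `m`
  obtain ⟨w, hwρ, hwm⟩ : ∃ w, X.HQ.large.b w ρ = 0 ∧ X.HQ.large.b w m = 1 := by
    have h1 : m ∉ Submodule.span (ZMod 2) {ρ} := by
      intro h2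
      rw [Submodule.mem_span_singleton] at h2
      obtain ⟨a, ha⟩ := h2
      rcases zmod2_cases a with rfl | rfl
      · rw [zero_smul] at ha; exact hm0 ha.symm
      · rw [one_smul] at ha
        rw [ha, hvm] at hb
        exact zero_ne_one hb
    obtain ⟨w, hw1, hw2⟩ := exists_perp_ne X.HQ.large h1
    refine ⟨w, ?_, hw2⟩
    rw [X.HQ.large.b_comm]
    exact (mem_perp _).1 hw1 ρ (Submodule.mem_span_singleton_self ρ)
  set a : X.HQ.large.V := X.HQ.large.act X.Y w + w with ha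
  have haF : a ∈ X.FF := X.act_add_mem_FF w
  have ha0 : a ≠ 0 := by
    intro h0
    have hwF : w ∈ X.FV := by
      show X.HQ.large.act X.Y w = w
      rw [← add_eq_zero_iff' X.HQ.large]; exact h0
    rw [X.HQ.large.b_comm, X.b_FF_FV hmF hwF] at hwm
    exact zero_ne_one hwm
  have hwa : X.HQ.large.b a w = 0 := by
    have h1 := q_act_add X.HQ.large X.Y w
    rw [← ha, X.q_FF hW haF] at h1
    rw [ha, map_add, LinearMap.add_apply, X.HQ.large.b_self, add_zero]
    exact h1.symm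
  have hav : X.HQ.large.b a v = 1 := by
    rw [ha, X.b_symm, ← hm]; exact hwm
  obtain ⟨cm, xm, hcm, hxm, hgm⟩ := X.exists_tv hW hm0 hm.symm
  obtain ⟨ca, xa, hca, hxa, hga⟩ := X.exists_tv hW ha0 ha.symm
  obtain ⟨d, hdy, hd⟩ := X.exists_sq hW ca cm hca hcm
  have hFm : ∀ f ∈ X.FF, X.HQ.large.act cm f = f + X.HQ.large.b f v • m := by
    intro f hf
    rw [hgm, hxm f hf, X.b_FF_FV hf (X.FF_le_FV hmF), zero_smul, add_zero]
  have hFa : ∀ f ∈ X.FF, X.HQ.large.act ca f = f + X.HQ.large.b f w • a := by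
    intro f hf
    rw [hga, hxa f hf, X.b_FF_FV hf (X.FF_le_FV haF), zero_smul, add_zero]
  have hρv : X.HQ.large.b ρ v = 1 := by rw [X.HQ.large.b_comm]; exact hb
  have hρw : X.HQ.large.b ρ w = 0 := by rw [X.HQ.large.b_comm]; exact hwρ
  have hmw : X.HQ.large.b m w = 1 := by rw [X.HQ.large.b_comm]; exact hwm
  have hmv : X.HQ.large.b m v = 0 := by rw [X.HQ.large.b_comm]; exact hvm
  have s1 : X.HQ.large.act cm ρ = ρ + m := by rw [hFm ρ hρF, hρv, one_smul]
  have s2 : X.HQ.large.act ca (ρ + m) = ρ + m + a := by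
    rw [hFa _ (X.FF.add_mem hρF hmF), map_add, LinearMap.add_apply, hρw, hmw, zero_add, one_smul]
  have s3 : X.HQ.large.act cm (ρ + m + a) = ρ + m + a := by
    rw [hFm _ (X.FF.add_mem (X.FF.add_mem hρF hmF) haF), map_add, map_add, LinearMap.add_apply,
      LinearMap.add_apply, hρv, hmv, hav, add_zero, zmod2_add_self, zero_smul, add_zero]
  have s4 : X.HQ.large.act ca (ρ + m + a) = ρ + m := by
    rw [hFa _ (X.FF.add_mem (X.FF.add_mem hρF hmF) haF), map_add, map_add, LinearMap.add_apply,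
      LinearMap.add_apply, hρw, hmw, hwa, zero_add, add_zero, one_smul, add_assoc,
      X.HQ.large.add_self, add_zero]
  have h5 : X.HQ.large.act d ρ = ρ + m := by rw [hd, s1, s2, s3, s4]
  have h6 : ρ + m ∈ X.RV := by rw [← h5]; exact X.act_RV d hdy hρ
  have h7 := X.RV.add_mem hρ h6
  rwa [← add_assoc, X.HQ.large.add_self, zero_add] at h7

/-- Type 4: `C_V(y) = [V, y]`. -/
theorem RV_eq_bot (h4 : finrank (ZMod 2) X.FV = 4) : X.RV = ⊥ := by
  have hfin := finite_V X.HQ.large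
  rw [Submodule.eq_bot_iff]
  intro ρ hρ
  by_contra hρ0
  obtain ⟨v, hv⟩ : ∃ v, X.HQ.large.b v ρ = 1 := by
    by_contra hcon
    push Not at hcon
    apply hρ0
    apply X.HQ.large.b_nondeg
    intro w
    rw [X.HQ.large.b_comm]
    exact (zmod2_cases _).resolve_right (hcon w)
  set m : X.HQ.large.V := X.HQ.large.act X.Y v + v with hm
  have hmR : m ∈ X.RV := X.mem_RV_of_beta hW hρ hv
  have hmF : m ∈ X.FF := X.RV_le_FF hW hmR
  have hvm : X.HQ.large.b v m = 0 := by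
    have h1 := q_act_add X.HQ.large X.Y v
    rw [← hm, X.q_FF hW hmF] at h1
    rw [hm, map_add, X.HQ.large.b_self, add_zero, X.HQ.large.b_comm]
    exact h1.symm
  -- a vector `u` orthogonal to `ρ, m` and not fixed by `y`
  obtain ⟨u, hu, huF⟩ : ∃ u ∈ perp X.HQ.large (Submodule.span (ZMod 2) {ρ, m}), u ∉ X.FV := by
    by_contra hcon
    push Not at hcon
    have h1 : perp X.HQ.large (Submodule.span (ZMod 2) {ρ, m}) ≤ X.FV := hcon
    have h2 := Submodule.finrank_mono h1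
    have h3 := finrank_perp X.HQ.large (Submodule.span (ZMod 2) {ρ, m})
    rw [X.HQ.finrank_V] at h3
    have h5 : finrank (ZMod 2) (Submodule.span (ZMod 2) ({ρ, m} : Set X.HQ.large.V)) ≤ 2 := by
      classical
      have h6 := finrank_span_finset_le_card (R := ZMod 2) ({ρ, m} : Finset X.HQ.large.V)
      have h7 : (({ρ, m} : Finset X.HQ.large.V) : Set X.HQ.large.V) = {ρ, m} := by simp
      rw [Set.finrank, h7] at h6
      exact h6.trans Finset.card_le_two
    omega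
  have huρ : X.HQ.large.b u ρ = 0 :=
    (mem_perp' _).1 hu ρ (Submodule.subset_span (by simp))
  have hum : X.HQ.large.b u m = 0 :=
    (mem_perp' _).1 hu m (Submodule.subset_span (by simp))
  have hvu : X.HQ.large.b (v + u) ρ = 1 := by
    rw [map_add, LinearMap.add_apply, hv, huρ, add_zero]
  have hR2 := X.mem_RV_of_beta hW hρ hvu
  set t : X.HQ.large.V := X.HQ.large.act X.Y u + u with ht
  have ht0 : t ≠ 0 := by
    intro h0
    apply huF
    show X.HQ.large.act X.Y u = u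
    rw [← add_eq_zero_iff' X.HQ.large]; exact h0
  have e1 : X.HQ.large.act X.Y (v + u) + (v + u) = m + t := by
    rw [map_add, hm, ht]; abel
  rw [e1] at hR2
  have hm0 : m ≠ 0 := by
    intro h0
    have hvF : v ∈ X.FV := by
      show X.HQ.large.act X.Y v = v
      rw [← add_eq_zero_iff' X.HQ.large]; exact h0
    rw [X.HQ.large.b_comm, X.b_FF_FV (X.RV_le_FF hW hρ) hvF] at hv
    exact zero_ne_one hv
  have hmt0 : m + t ≠ 0 := by
    intro h0
    have hvF : v + u ∈ X.FV := by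
      show X.HQ.large.act X.Y (v + u) = v + u
      rw [← add_eq_zero_iff' X.HQ.large, e1]; exact h0
    rw [X.HQ.large.b_comm, X.b_FF_FV (X.RV_le_FF hW hρ) hvF] at hvu
    exact zero_ne_one hvu
  have hne : m ≠ m + t := by
    intro h0
    apply ht0
    have := congrArg (fun w => m + w) h0
    simp only [← add_assoc, X.HQ.large.add_self, zero_add] at this
    exact this.symm
  have h8 := X.beta_RV hW hmR hR2 hm0 hmt0 hne hm.symm
  rw [map_add, hvm, zero_add, ht, ← X.b_symm, ← hm, X.HQ.large.b_comm, hum] at h8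
  exact zero_ne_one h8

/-- Type 1: the image of `Q ∩ P` is `0` or `[V, y]`. -/
theorem RV_eq_of_six (h6 : finrank (ZMod 2) X.FV = 6) : X.RV = ⊥ ∨ X.RV = X.FF := by
  have hfin := finite_V X.HQ.large
  by_cases hbot : X.RV = ⊥
  · exact Or.inl hbot
  right
  obtain ⟨ρ, hρ, hρ0⟩ := (Submodule.ne_bot_iff _).1 hbot
  obtain ⟨v, hv⟩ : ∃ v, X.HQ.large.b v ρ = 1 := by
    by_contra hcon
    push Not at hcon
    apply hρ0
    apply X.HQ.large.b_nondeg
    intro w
    rw [X.HQ.large.b_comm]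
    exact (zmod2_cases _).resolve_right (hcon w)
  set m : X.HQ.large.V := X.HQ.large.act X.Y v + v with hm
  have hmR : m ∈ X.RV := X.mem_RV_of_beta hW hρ hv
  have hmF : m ∈ X.FF := X.RV_le_FF hW hmR
  have hvm : X.HQ.large.b v m = 0 := by
    have h1 := q_act_add X.HQ.large X.Y v
    rw [← hm, X.q_FF hW hmF] at h1
    rw [hm, map_add, X.HQ.large.b_self, add_zero, X.HQ.large.b_comm]
    exact h1.symm
  have hm0 : m ≠ 0 := by
    intro h0
    have hvF : v ∈ X.FV := by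
      show X.HQ.large.act X.Y v = v
      rw [← add_eq_zero_iff' X.HQ.large]; exact h0
    rw [X.HQ.large.b_comm, X.b_FF_FV (X.RV_le_FF hW hρ) hvF] at hv
    exact zero_ne_one hv
  apply Submodule.eq_of_le_of_finrank_le (X.RV_le_FF hW)
  have h7 := X.finrank_FF
  have h8 : finrank (ZMod 2) X.FF = 2 := by omega
  rw [h8]
  -- two independent vectors
  have h9 : LinearIndependent (ZMod 2) ![(⟨ρ, hρ⟩ : X.RV), ⟨m, hmR⟩] := by
    rw [LinearIndependent.pair_iff]
    intro s t hst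
    have h10 : s • ρ + t • m = 0 := congrArg Subtype.val hst
    have h11 := congrArg (X.HQ.large.b v) h10
    rw [map_add, map_smul, map_smul, hv, hvm, map_zero, smul_zero, add_zero, smul_eq_mul,
      mul_one] at h11
    subst h11
    rw [zero_smul, zero_add] at h10
    rcases zmod2_cases t with h12 | h12
    · exact ⟨rfl, h12⟩
    · rw [h12, one_smul] at h10; exact absurd h10 hm0
  have h10 := h9.fintype_card_le_finrank
  simpa using h10

end full

end Ctx

end Cfsg.Agent.CoOneNWC
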