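import Cfsg.Agent.Co2Type.Quad

/-!
# The final count (S1677, helper978; statement and idea by helper597)

If `Q ∩ Q^g = 1`, `|C_Q(z^g)| = 32`, … for all `z^g ≠ z` commuting with `z`, then no such `z^g` exists.
-/

set_option autoImplicit false

namespace Cfsg.Agent.CoOneNWC.Count

open Subgroup Cfsg.Agent.Co2Type.Quad

variable {G : Type*} [Group G]

/-- conjugate subgroup -/
def cj (Q : Subgroup G) (k : G) : Subgroup G := Q.map (MulAut.conj k).toMonoidHom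

theorem mem_cj {Q : Subgroup G} {k x : G} : x ∈ cj Q k ↔ k⁻¹ * x * k ∈ Q := by
  constructor
  · rintro ⟨y, hy, rfl⟩
    have : k⁻¹ * (k * y * k⁻¹) * k = y := by group
    show k⁻¹ * (k * y * k⁻¹) * k ∈ Q
    rw [this]; exact hy
  · intro h
    refine ⟨_, h, ?_⟩
    show k * (k⁻¹ * x * k) * k⁻¹ = x
    group

theorem conj_mem_cj {Q : Subgroup G} {k x : G} : k * x * k⁻¹ ∈ cj Q k ↔ x ∈ Q := by
  rw [mem_cj]
  have : k⁻¹ * (k * x * k⁻¹) * k = x := by group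
  rw [this]

/-- The properties of a commuting pair of conjugates of `z`. -/
structure PP (Q : Subgroup G) (z k l : G) : Prop where
  inter : ∀ x, x ∈ cj Q k → x ∈ cj Q l → x = 1
  card : Nat.card ↥(cj Q k ⊓ centralizer ({l * z * l⁻¹} : Set G)) = 32
  comm : ∀ a ∈ cj Q k, a * (l * z * l⁻¹) = (l * z * l⁻¹) * a → ∀ b ∈ cj Q l,
    b * (k * z * k⁻¹) = (k * z * k⁻¹) * b → a * b = b * a
  comm' : ∀ x ∈ cj Q k, ∀ b ∈ cj Q l, b * (k * z * k⁻¹) = (k * z * k⁻¹) * b →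
    (b * x * b⁻¹ * x⁻¹) * (l * z * l⁻¹) = (l * z * l⁻¹) * (b * x * b⁻¹ * x⁻¹)
  sq : ∀ x ∈ cj Q k, x * (l * z * l⁻¹) = (l * z * l⁻¹) * x → x * x = 1

theorem conj_comm_iff {k x y : G} :
    (k⁻¹ * x * k) * (k⁻¹ * y * k) = (k⁻¹ * y * k) * (k⁻¹ * x * k) ↔ x * y = y * x := by
  constructor
  · intro h
    calc x * y = k * ((k⁻¹ * x * k) * (k⁻¹ * y * k)) * k⁻¹ := by group
      _ = k * ((k⁻¹ * y * k) * (k⁻¹ * x * k)) * k⁻¹ := by rw [h]
      _ = y * x := by group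
  · intro h
    calc (k⁻¹ * x * k) * (k⁻¹ * y * k) = k⁻¹ * (x * y) * k := by group
      _ = k⁻¹ * (y * x) * k := by rw [h]
      _ = _ := by group

/-- From pairs `(1, g)` to all pairs. -/
theorem pp_of {Q : Subgroup G} {z : G}
    (H : ∀ g : G, g * z * g⁻¹ ≠ z → g * z * g⁻¹ * z = z * (g * z * g⁻¹) →
      (∀ x ∈ Q, x ∈ Q.map (MulAut.conj g).toMonoidHom → x = 1) ∧
      Nat.card ↥(Q ⊓ Subgroup.centralizer ({g * z * g⁻¹} : Set G)) = 32 ∧
      (∀ a ∈ Q, a * (g * z * g⁻¹) = g * z * g⁻¹ * a → ∀ b ∈ Q.map (MulAut.conj g).toMonoidHom,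
        b * z = z * b → a * b = b * a) ∧
      (∀ x ∈ Q, ∀ b ∈ Q.map (MulAut.conj g).toMonoidHom, b * z = z * b →
        (b * x * b⁻¹ * x⁻¹) * (g * z * g⁻¹) = (g * z * g⁻¹) * (b * x * b⁻¹ * x⁻¹)) ∧
      (∀ x ∈ Q, x * (g * z * g⁻¹) = g * z * g⁻¹ * x → x * x = 1))
    {k l : G} (hne : k * z * k⁻¹ ≠ l * z * l⁻¹)
    (hc : (k * z * k⁻¹) * (l * z * l⁻¹) = (l * z * l⁻¹) * (k * z * k⁻¹)) : PP Q z k l := by
  have ezl : (k⁻¹ * l) * z * (k⁻¹ * l)⁻¹ = k⁻¹ * (l * z * l⁻¹) * k := by group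
  have ez : k⁻¹ * (k * z * k⁻¹) * k = z := by group
  have h1 : (k⁻¹ * l) * z * (k⁻¹ * l)⁻¹ ≠ z := by
    rw [ezl]
    intro h
    apply hne
    calc k * z * k⁻¹ = k * (k⁻¹ * (l * z * l⁻¹) * k) * k⁻¹ := by rw [h]
      _ = l * z * l⁻¹ := by group
  have h2 : (k⁻¹ * l) * z * (k⁻¹ * l)⁻¹ * z = z * ((k⁻¹ * l) * z * (k⁻¹ * l)⁻¹) := by
    rw [ezl]
    have := (conj_comm_iff (k := k)).2 hc
    rw [ez] at this
    exact this.symm
  obtain ⟨c1, c2, c3, c4, c5⟩ := H (k⁻¹ * l) h1 h2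
  have hmem : ∀ x, x ∈ cj Q l → k⁻¹ * x * k ∈ Q.map (MulAut.conj (k⁻¹ * l)).toMonoidHom := by
    intro x hx
    have h3 : k⁻¹ * x * k ∈ cj Q (k⁻¹ * l) := by
      rw [mem_cj] at hx ⊢
      have : (k⁻¹ * l)⁻¹ * (k⁻¹ * x * k) * (k⁻¹ * l) = l⁻¹ * x * l := by group
      rw [this]; exact hx
    exact h3
  have hzc : ∀ b : G, b * (k * z * k⁻¹) = (k * z * k⁻¹) * b →
      (k⁻¹ * b * k) * z = z * (k⁻¹ * b * k) := by
    intro b hb
    have := (conj_comm_iff (k := k)).2 hb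
    rwa [ez] at this
  refine ⟨?_, ?_, ?_, ?_, ?_⟩
  · intro x hx hx'
    have h3 := c1 _ (mem_cj.1 hx) (hmem x hx')
    calc x = k * (k⁻¹ * x * k) * k⁻¹ := by group
      _ = 1 := by rw [h3]; group
  · have h3 : cj Q k ⊓ centralizer ({l * z * l⁻¹} : Set G) =
        (Q ⊓ centralizer ({(k⁻¹ * l) * z * (k⁻¹ * l)⁻¹} : Set G)).map
          (MulAut.conj k).toMonoidHom := by
      ext x
      show x ∈ _ ↔ x ∈ cj _ k
      rw [mem_cj, mem_inf, mem_inf, mem_cj, mem_centralizer_singleton_iff,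
        mem_centralizer_singleton_iff, ezl, conj_comm_iff]
    rw [h3, Subgroup.card_map_of_injective (MulAut.conj k).injective]
    exact c2
  · intro a ha hac b hb hbc
    rw [← conj_comm_iff (k := k)]
    exact c3 _ (mem_cj.1 ha) (by rw [ezl, conj_comm_iff]; exact hac) _ (hmem b hb) (hzc b hbc)
  · intro x hx b hb hbc
    rw [← conj_comm_iff (k := k)]
    have h3 := c4 _ (mem_cj.1 hx) _ (hmem b hb) (hzc b hbc)
    have h4 : (k⁻¹ * b * k) * (k⁻¹ * x * k) * (k⁻¹ * b * k)⁻¹ * (k⁻¹ * x * k)⁻¹ =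
        k⁻¹ * (b * x * b⁻¹ * x⁻¹) * k := by group
    rw [h4, ezl] at h3
    exact h3
  · intro x hx hxc
    have h3 := c5 _ (mem_cj.1 hx) (by rw [ezl, conj_comm_iff]; exact hxc)
    have h4 : (k⁻¹ * x * k) * (k⁻¹ * x * k) = k⁻¹ * (x * x) * k := by group
    rw [h4] at h3
    calc x * x = k * (k⁻¹ * (x * x) * k) * k⁻¹ := by group
      _ = 1 := by rw [h3]; group

/-- orbit-stabiliser for conjugation -/
theorem card_orbit [Finite G] (K : Subgroup G) (w : G) :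
    Nat.card {u : G // ∃ x ∈ K, x * w * x⁻¹ = u} *
      Nat.card ↥(K ⊓ centralizer ({w} : Set G)) = Nat.card K := by
  classical
  rw [← Nat.card_prod]
  symm
  let f : K → {u : G // ∃ x ∈ K, x * w * x⁻¹ = u} := fun x => ⟨x * w * (x : G)⁻¹, x, x.2, rfl⟩
  have hs : ∀ u : {u : G // ∃ x ∈ K, x * w * x⁻¹ = u}, ∃ x : K, f x = u := by
    rintro ⟨u, x, hx, hxu⟩
    exact ⟨⟨x, hx⟩, Subtype.ext hxu⟩
  choose s hs using hs
  have hmem : ∀ x : K, ((s (f x) : G)⁻¹ * x) ∈ K ⊓ centralizer ({w} : Set G) := by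
    intro x
    refine mem_inf.2 ⟨K.mul_mem (K.inv_mem (s (f x)).2) x.2, ?_⟩
    rw [mem_centralizer_singleton_iff]
    have h1 : (s (f x) : G) * w * (s (f x) : G)⁻¹ = x * w * (x : G)⁻¹ :=
      congrArg Subtype.val (hs (f x))
    calc ((s (f x) : G)⁻¹ * x) * w = (s (f x) : G)⁻¹ * (x * w * (x : G)⁻¹) * x := by group
      _ = (s (f x) : G)⁻¹ * ((s (f x) : G) * w * (s (f x) : G)⁻¹) * x := by rw [h1]
      _ = w * ((s (f x) : G)⁻¹ * x) := by group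
  refine Nat.card_congr
    { toFun := fun x => (f x, ⟨(s (f x) : G)⁻¹ * x, hmem x⟩)
      invFun := fun p => s p.1 * ⟨p.2.1, (mem_inf.1 p.2.2).1⟩
      left_inv := fun x => ?_
      right_inv := fun p => ?_ }
  · apply Subtype.ext
    show (s (f x) : G) * ((s (f x) : G)⁻¹ * x) = x
    group
  · have h1 : f (s p.1 * ⟨p.2.1, (mem_inf.1 p.2.2).1⟩) = p.1 := by
      rw [← hs p.1]
      apply Subtype.ext
      have h2 := mem_centralizer_singleton_iff.1 (mem_inf.1 p.2.2).2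
      show ((s (f (s p.1)) : G) * p.2.1) * w * ((s (f (s p.1)) : G) * p.2.1)⁻¹ = s p.1 * w * (s p.1 : G)⁻¹
      have h3 : s (f (s p.1)) = s p.1 := by rw [hs p.1]
      rw [h3]
      calc ((s p.1 : G) * p.2.1) * w * ((s p.1 : G) * p.2.1)⁻¹
          = s p.1 * (p.2.1 * w) * (p.2.1)⁻¹ * (s p.1 : G)⁻¹ := by group
        _ = s p.1 * (w * p.2.1) * (p.2.1)⁻¹ * (s p.1 : G)⁻¹ := by rw [h2]
        _ = _ := by group
    refine Prod.ext h1 ?_
    apply Subtype.ext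
    show (s (f (s p.1 * ⟨p.2.1, _⟩)) : G)⁻¹ * (s p.1 * p.2.1) = p.2.1
    rw [h1]; group

/-- The data of a pair. -/
structure Dat (Q P : Subgroup G) (z y : G) : Prop where
  hz : Large Q z
  hy : Large P y
  zy : z * y = y * z
  inter : ∀ x, x ∈ Q → x ∈ P → x = 1
  comm : ∀ a ∈ Q, a * y = y * a → ∀ b ∈ P, b * z = z * b → a * b = b * a
  comm' : ∀ x ∈ Q, ∀ b ∈ P, b * z = z * b → (b * x * b⁻¹ * x⁻¹) * y = y * (b * x * b⁻¹ * x⁻¹)
  comm'' : ∀ x ∈ P, ∀ b ∈ Q, b * y = y * b → (b * x * b⁻¹ * x⁻¹) * z = z * (b * x * b⁻¹ * x⁻¹)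
  sq : ∀ x ∈ Q, x * y = y * x → x * x = 1
  sq' : ∀ x ∈ P, x * z = z * x → x * x = 1

theorem Dat.symm {Q P : Subgroup G} {z y : G} (D : Dat Q P z y) : Dat P Q y z where
  hz := D.hy
  hy := D.hz
  zy := D.zy.symm
  inter := fun x h1 h2 => D.inter x h2 h1
  comm := fun a ha h1 b hb h2 => (D.comm b hb h2 a ha h1).symm
  comm' := D.comm''
  comm'' := D.comm'
  sq := D.sq'
  sq' := D.sq

theorem comm_of_sq {S : Subgroup G} (h : ∀ x ∈ S, x * x = 1) {a b : G} (ha : a ∈ S) (hb : b ∈ S) :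
    a * b = b * a := by
  have h1 := h a ha
  have h2 := h b hb
  have h3 := h _ (S.mul_mem ha hb)
  calc a * b = a * ((a * b) * (a * b)) * b := by rw [h3]; group
    _ = (a * a) * (b * a) * (b * b) := by group
    _ = b * a := by rw [h1, h2]; group

/-- `H₀ = C_Q(y) C_P(z)` -/
def Dat.H0 {Q P : Subgroup G} {z y : G} (D : Dat Q P z y) : Subgroup G where
  carrier := {x | ∃ a ∈ Q, a * y = y * a ∧ ∃ b ∈ P, b * z = z * b ∧ x = a * b}
  one_mem' := ⟨1, Q.one_mem, by group, 1, P.one_mem, by group, by group⟩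
  mul_mem' := by
    rintro _ _ ⟨a, ha, ha', b, hb, hb', rfl⟩ ⟨c, hc, hc', d, hd, hd', rfl⟩
    refine ⟨a * c, Q.mul_mem ha hc, ?_, b * d, P.mul_mem hb hd, ?_, ?_⟩
    · rw [mul_assoc, hc', ← mul_assoc, ha', mul_assoc]
    · rw [mul_assoc, hd', ← mul_assoc, hb', mul_assoc]
    · have := D.comm c hc hc' b hb hb'
      rw [mul_assoc a b, ← mul_assoc b c, ← this]; simp only [mul_assoc]
  inv_mem' := by
    rintro _ ⟨a, ha, ha', b, hb, hb', rfl⟩
    refine ⟨a⁻¹, Q.inv_mem ha, ?_, b⁻¹, P.inv_mem hb, ?_, ?_⟩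
    · have : Commute a y := ha'
      exact this.inv_left.eq
    · have : Commute b z := hb'
      exact this.inv_left.eq
    · rw [D.comm a ha ha' b hb hb', mul_inv_rev]

theorem Dat.mem_H0 {Q P : Subgroup G} {z y : G} (D : Dat Q P z y) {x : G} :
    x ∈ D.H0 ↔ ∃ a ∈ Q, a * y = y * a ∧ ∃ b ∈ P, b * z = z * b ∧ x = a * b := Iff.rfl

theorem Dat.H0_symm {Q P : Subgroup G} {z y : G} (D : Dat Q P z y) : D.symm.H0 = D.H0 := by
  ext x
  rw [D.symm.mem_H0, D.mem_H0]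
  constructor
  · rintro ⟨a, ha, ha', b, hb, hb', rfl⟩
    exact ⟨b, hb, hb', a, ha, ha', (D.comm b hb hb' a ha ha').symm⟩
  · rintro ⟨a, ha, ha', b, hb, hb', rfl⟩
    exact ⟨b, hb, hb', a, ha, ha', D.comm a ha ha' b hb hb'⟩

theorem Dat.A_mem {Q P : Subgroup G} {z y : G} (D : Dat Q P z y) {a : G} (ha : a ∈ Q)
    (ha' : a * y = y * a) : a ∈ D.H0 := ⟨a, ha, ha', 1, P.one_mem, by group, by group⟩

theorem Dat.B_mem {Q P : Subgroup G} {z y : G} (D : Dat Q P z y) {b : G} (hb : b ∈ P)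
    (hb' : b * z = z * b) : b ∈ D.H0 := ⟨1, Q.one_mem, by group, b, hb, hb', by group⟩

theorem Dat.z_mem {Q P : Subgroup G} {z y : G} (D : Dat Q P z y) : z ∈ D.H0 :=
  D.A_mem D.hz.z_mem D.zy

theorem Dat.H0_comm {Q P : Subgroup G} {z y : G} (D : Dat Q P z y) {u w : G} (hu : u ∈ D.H0)
    (hw : w ∈ D.H0) : u * w = w * u := by
  refine comm_of_sq (S := D.H0) ?_ hu hw
  rintro _ ⟨a, ha, ha', b, hb, hb', rfl⟩
  have h1 := D.sq a ha ha'
  have h2 := D.sq' b hb hb'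
  have h3 := D.comm a ha ha' b hb hb'
  calc a * b * (a * b) = a * (b * a) * b := by group
    _ = a * (a * b) * b := by rw [h3]
    _ = (a * a) * (b * b) := by group
    _ = 1 := by rw [h1, h2, mul_one]

theorem Dat.mem_A {Q P : Subgroup G} {z y : G} (D : Dat Q P z y) {x : G} (hx : x ∈ D.H0)
    (hQ : x ∈ Q) : x * y = y * x := by
  obtain ⟨a, ha, ha', b, hb, hb', rfl⟩ := hx
  have h1 : b ∈ Q := by
    have := Q.mul_mem (Q.inv_mem ha) hQ
    rwa [inv_mul_cancel_left] at this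
  rw [D.inter b h1 hb, mul_one]
  exact ha'

/-- `Q` normalises `H₀` -/
theorem Dat.conj_H0 {Q P : Subgroup G} {z y : G} (D : Dat Q P z y) {x : G} (hx : x ∈ Q) {u : G}
    (hu : u ∈ D.H0) : x * u * x⁻¹ ∈ D.H0 := by
  obtain ⟨a, ha, ha', b, hb, hb', rfl⟩ := hu
  have h1 : x * a * x⁻¹ ∈ D.H0 := by
    rcases D.hz.comm x hx a ha with h | h
    · have : x * a * x⁻¹ = a := by rw [h]; group
      rw [this]; exact D.A_mem ha ha'
    · have : x * a * x⁻¹ = a * z := by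
        rw [h, mul_assoc _ z, ← (D.hz.commz hx).inv_left.eq]; group
      rw [this]; exact D.H0.mul_mem (D.A_mem ha ha') D.z_mem
  have h2 : x * b * x⁻¹ ∈ D.H0 := by
    have h3 := D.comm' x hx b hb hb'
    have h4 : x * b * x⁻¹ = (b * x * b⁻¹ * x⁻¹)⁻¹ * b := by group
    rw [h4]
    refine D.H0.mul_mem (D.H0.inv_mem (D.A_mem ?_ h3)) (D.B_mem hb hb')
    exact Q.mul_mem (D.hz.conj_mem b hb' x hx) (Q.inv_mem hx)
  have h3 : x * (a * b) * x⁻¹ = (x * a * x⁻¹) * (x * b * x⁻¹) := by group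
  rw [h3]
  exact D.H0.mul_mem h1 h2

theorem Dat.conj_H0' {Q P : Subgroup G} {z y : G} (D : Dat Q P z y) {x : G} (hx : x ∈ P) {u : G}
    (hu : u ∈ D.H0) : x * u * x⁻¹ ∈ D.H0 := by
  rw [← D.H0_symm] at hu ⊢
  exact D.symm.conj_H0 hx hu

theorem Dat.card_H0 [Finite G] {Q P : Subgroup G} {z y : G} (D : Dat Q P z y)
    (hA : Nat.card ↥(Q ⊓ centralizer ({y} : Set G)) = 32)
    (hB : Nat.card ↥(P ⊓ centralizer ({z} : Set G)) = 32) : Nat.card D.H0 = 1024 := by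
  have e : (↥(Q ⊓ centralizer ({y} : Set G)) × ↥(P ⊓ centralizer ({z} : Set G))) ≃ D.H0 := by
    refine Equiv.ofBijective (fun p => ⟨p.1 * p.2, ?_⟩) ⟨?_, ?_⟩
    · exact ⟨p.1, (mem_inf.1 p.1.2).1, mem_centralizer_singleton_iff.1 (mem_inf.1 p.1.2).2,
        p.2, (mem_inf.1 p.2.2).1, mem_centralizer_singleton_iff.1 (mem_inf.1 p.2.2).2, rfl⟩
    · rintro ⟨a, b⟩ ⟨c, d⟩ h
      have h1 : (a : G) * b = c * d := congrArg Subtype.val h
      have h2 : (c : G)⁻¹ * a = d * (b : G)⁻¹ := by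
        rw [inv_mul_eq_iff_eq_mul, ← mul_assoc, ← h1, mul_inv_cancel_right]
      have h3 : (c : G)⁻¹ * a ∈ Q := Q.mul_mem (Q.inv_mem (mem_inf.1 c.2).1) (mem_inf.1 a.2).1
      have h4 : (c : G)⁻¹ * a ∈ P := by
        rw [h2]; exact P.mul_mem (mem_inf.1 d.2).1 (P.inv_mem (mem_inf.1 b.2).1)
      have h5 := D.inter _ h3 h4
      rw [h5] at h2
      refine Prod.ext (Subtype.ext ?_) (Subtype.ext ?_)
      · exact (inv_mul_eq_one.1 h5).symm
      · exact (mul_inv_eq_one.1 h2.symm).symm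
    · rintro ⟨_, a, ha, ha', b, hb, hb', rfl⟩
      exact ⟨(⟨a, mem_inf.2 ⟨ha, mem_centralizer_singleton_iff.2 ha'⟩⟩,
        ⟨b, mem_inf.2 ⟨hb, mem_centralizer_singleton_iff.2 hb'⟩⟩), rfl⟩
  rw [← Nat.card_congr e, Nat.card_prod, hA, hB]

/-- the set `Π` -/
def Dat.Pi {Q P : Subgroup G} {z y : G} (D : Dat Q P z y) : Set G :=
  {u | u ∈ D.H0 ∧ ∃ k, k * z * k⁻¹ = u ∧ 32 ≤ Nat.card ↥(cj Q k ⊓ D.H0)}

theorem cj_inf_map {Q H : Subgroup G} {n k : G} (hn : ∀ u ∈ H, n * u * n⁻¹ ∈ H)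
    (hn' : ∀ u ∈ H, n⁻¹ * u * n ∈ H) :
    (cj Q k ⊓ H).map (MulAut.conj n).toMonoidHom = cj Q (n * k) ⊓ H := by
  ext x
  constructor
  · rintro ⟨u, hu, rfl⟩
    have hu1 := mem_cj.1 (mem_inf.1 hu).1
    refine mem_inf.2 ⟨mem_cj.2 ?_, hn u (mem_inf.1 hu).2⟩
    show (n * k)⁻¹ * (n * u * n⁻¹) * (n * k) ∈ Q
    have : (n * k)⁻¹ * (n * u * n⁻¹) * (n * k) = k⁻¹ * u * k := by group
    rw [this]; exact hu1
  · intro hx
    have hx1 := mem_cj.1 (mem_inf.1 hx).1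
    refine ⟨n⁻¹ * x * n, mem_inf.2 ⟨mem_cj.2 ?_, hn' x (mem_inf.1 hx).2⟩, ?_⟩
    · have : k⁻¹ * (n⁻¹ * x * n) * k = (n * k)⁻¹ * x * (n * k) := by group
      rw [this]; exact hx1
    · show n * (n⁻¹ * x * n) * n⁻¹ = x
      group

theorem Dat.conj_Pi [Finite G] {Q P : Subgroup G} {z y : G} (D : Dat Q P z y) {n : G}
    (hn : ∀ u ∈ D.H0, n * u * n⁻¹ ∈ D.H0) (hn' : ∀ u ∈ D.H0, n⁻¹ * u * n ∈ D.H0) {u : G}
    (hu : u ∈ D.Pi) : n * u * n⁻¹ ∈ D.Pi := by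
  obtain ⟨h1, k, rfl, h2⟩ := hu
  refine ⟨hn _ h1, n * k, by group, ?_⟩
  rw [← cj_inf_map hn hn', Subgroup.card_map_of_injective (MulAut.conj n).injective]
  exact h2

open Classical in
/-- upper bound -/
theorem Dat.Pi_le [Finite G] {Q P : Subgroup G} {z y : G} (D : Dat Q P z y)
    (hpp : ∀ k l : G, k * z * k⁻¹ ≠ l * z * l⁻¹ →
      (k * z * k⁻¹) * (l * z * l⁻¹) = (l * z * l⁻¹) * (k * z * k⁻¹) → PP Q z k l)
    (hc : Nat.card D.H0 = 1024) (S : Finset G) (hS : ∀ u ∈ S, u ∈ D.Pi) : S.card * 31 ≤ 1023 := by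
  have : Fintype G := Fintype.ofFinite G
  have hk : ∀ u : S, ∃ k, k * z * k⁻¹ = u ∧ 32 ≤ Nat.card ↥(cj Q k ⊓ D.H0) := fun u =>
    (hS u u.2).2
  choose k hk1 hk2 using hk
  let T : S → Finset G := fun u => ((cj Q (k u) ⊓ D.H0 : Subgroup G) : Set G).toFinset.erase 1
  have hT : ∀ u, 31 ≤ (T u).card := by
    intro u
    have h1 : (1 : G) ∈ ((cj Q (k u) ⊓ D.H0 : Subgroup G) : Set G).toFinset := by
      rw [Set.mem_toFinset]; exact Subgroup.one_mem _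
    have h2 : (((cj Q (k u) ⊓ D.H0 : Subgroup G) : Set G).toFinset).card =
        Nat.card ↥(cj Q (k u) ⊓ D.H0) := by
      rw [Set.toFinset_card, Nat.card_eq_fintype_card]
      exact Fintype.card_congr (Equiv.refl _)
    show 31 ≤ (Finset.erase _ 1).card
    rw [Finset.card_erase_of_mem h1, h2]
    have := hk2 u
    omega
  have hdisj : ∀ u ∈ (Finset.univ : Finset S), ∀ w ∈ (Finset.univ : Finset S), u ≠ w →
      Disjoint (T u) (T w) := by
    intro u _ w _ huw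
    rw [Finset.disjoint_left]
    intro x hx hx'
    have h1 := Finset.mem_erase.1 hx
    have h2 := Finset.mem_erase.1 hx'
    have h3 := (mem_inf.1 (Set.mem_toFinset.1 h1.2)).1
    have h4 := (mem_inf.1 (Set.mem_toFinset.1 h2.2)).1
    apply h1.1
    refine (hpp (k u) (k w) ?_ ?_).inter x h3 h4
    · rw [hk1, hk1]
      intro h
      exact huw (Subtype.ext h)
    · rw [hk1, hk1]
      exact D.H0_comm (hS u u.2).1 (hS w w.2).1
  have hsub : (Finset.univ.biUnion T) ⊆ ((D.H0 : Set G).toFinset.erase 1) := by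
    intro x hx
    obtain ⟨u, _, hu⟩ := Finset.mem_biUnion.1 hx
    have h1 := Finset.mem_erase.1 hu
    rw [Finset.mem_erase, Set.mem_toFinset]
    exact ⟨h1.1, (mem_inf.1 (Set.mem_toFinset.1 h1.2)).2⟩
  have h1 := Finset.card_le_card hsub
  rw [Finset.card_biUnion hdisj] at h1
  have h2 : ((D.H0 : Set G).toFinset.erase 1).card = 1023 := by
    have h3 : (1 : G) ∈ (D.H0 : Set G).toFinset := by
      rw [Set.mem_toFinset]; exact Subgroup.one_mem _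
    rw [Finset.card_erase_of_mem h3, Set.toFinset_card]
    have : Fintype.card (D.H0 : Set G) = Nat.card D.H0 := by
      rw [Nat.card_eq_fintype_card]
      exact Fintype.card_congr (Equiv.refl _)
    rw [this, hc]
  rw [h2] at h1
  have h3 : (Finset.univ : Finset S).card * 31 ≤ ∑ u : S, (T u).card := by
    rw [← smul_eq_mul]
    exact Finset.card_nsmul_le_sum _ _ _ fun u _ => hT u
  have h4 : (Finset.univ : Finset S).card = S.card := by simp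
  rw [h4] at h3
  omega

/-- the final count -/
theorem count_false [Finite G] {Q : Subgroup G} {z : G} (h : Large Q z)
    (hcard : Nat.card Q = 2 ^ 9)
    (H : ∀ g : G, g * z * g⁻¹ ≠ z → g * z * g⁻¹ * z = z * (g * z * g⁻¹) →
      (∀ x ∈ Q, x ∈ Q.map (MulAut.conj g).toMonoidHom → x = 1) ∧
      Nat.card ↥(Q ⊓ Subgroup.centralizer ({g * z * g⁻¹} : Set G)) = 32 ∧
      (∀ a ∈ Q, a * (g * z * g⁻¹) = g * z * g⁻¹ * a → ∀ b ∈ Q.map (MulAut.conj g).toMonoidHom,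
        b * z = z * b → a * b = b * a) ∧
      (∀ x ∈ Q, ∀ b ∈ Q.map (MulAut.conj g).toMonoidHom, b * z = z * b →
        (b * x * b⁻¹ * x⁻¹) * (g * z * g⁻¹) = (g * z * g⁻¹) * (b * x * b⁻¹ * x⁻¹)) ∧
      (∀ x ∈ Q, x * (g * z * g⁻¹) = g * z * g⁻¹ * x → x * x = 1))
    (g : G) (hne : g * z * g⁻¹ ≠ z) (hc : g * z * g⁻¹ * z = z * (g * z * g⁻¹)) : False := by
  classical
  have hfin : Fintype G := Fintype.ofFinite G
  have hpp : ∀ k l : G, k * z * k⁻¹ ≠ l * z * l⁻¹ →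
      (k * z * k⁻¹) * (l * z * l⁻¹) = (l * z * l⁻¹) * (k * z * k⁻¹) → PP Q z k l :=
    fun k l => pp_of H
  have e1 : (1 : G) * z * 1⁻¹ = z := by group
  have hcj1 : cj Q 1 = Q := by
    ext x
    rw [mem_cj]
    have : (1 : G)⁻¹ * x * 1 = x := by group
    rw [this]
  obtain ⟨y, hy⟩ : ∃ y, y = g * z * g⁻¹ := ⟨_, rfl⟩
  have P1 : PP Q z 1 g := hpp 1 g (by rw [e1]; exact hne.symm) (by rw [e1]; exact hc.symm)
  have P2 : PP Q z g 1 := hpp g 1 (by rw [e1]; exact hne) (by rw [e1]; exact hc)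
  obtain ⟨P, hP⟩ : ∃ P, P = cj Q g := ⟨_, rfl⟩
  have hyL : Large P y := by rw [hP, hy]; exact h.conj g
  have hyz : y ≠ z := by rw [hy]; exact hne
  have zy : z * y = y * z := by rw [hy]; exact hc.symm
  have hcardP : Nat.card P = 2 ^ 9 := by
    rw [hP, cj, Subgroup.card_map_of_injective (MulAut.conj g).injective]
    exact hcard
  have a1 := P1.inter
  have a2 := P1.card
  have a3 := P1.comm
  have a4 := P1.comm'
  have a5 := P1.sq
  have b2 := P2.card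
  have b4 := P2.comm'
  have b5 := P2.sq
  rw [hcj1, ← hP] at a1
  rw [hcj1, ← hy] at a2
  rw [hcj1, e1, ← hP, ← hy] at a3
  rw [hcj1, e1, ← hP, ← hy] at a4
  rw [hcj1, ← hy] at a5
  rw [e1, ← hP] at b2
  rw [hcj1, e1, ← hP, ← hy] at b4
  rw [e1, ← hP] at b5
  have D : Dat Q P z y :=
    { hz := h
      hy := hyL
      zy := zy
      inter := a1
      comm := a3
      comm' := a4
      comm'' := b4
      sq := a5
      sq' := b5 }
  have hc0 := D.card_H0 a2 b2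
  -- `z ∈ Π`
  have hzPi : z ∈ D.Pi := by
    refine ⟨D.z_mem, 1, e1, ?_⟩
    rw [hcj1, ← a2]
    apply Nat.card_mono (Set.toFinite _)
    intro x hx
    have hx' := mem_inf.1 hx
    exact mem_inf.2 ⟨hx'.1, D.A_mem hx'.1 (mem_centralizer_singleton_iff.1 hx'.2)⟩
  have hQn : ∀ x ∈ Q, ∀ u ∈ D.Pi, x * u * x⁻¹ ∈ D.Pi := by
    intro x hx u hu
    refine D.conj_Pi (fun v hv => D.conj_H0 hx hv) (fun v hv => ?_) hu
    have := D.conj_H0 (Q.inv_mem hx) hv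
    rwa [inv_inv] at this
  have hPn : ∀ x ∈ P, ∀ u ∈ D.Pi, x * u * x⁻¹ ∈ D.Pi := by
    intro x hx u hu
    refine D.conj_Pi (fun v hv => D.conj_H0' hx hv) (fun v hv => ?_) hu
    have := D.conj_H0' (P.inv_mem hx) hv
    rwa [inv_inv] at this
  -- the orbit of `z` under `P`
  let O : Finset G := Finset.univ.filter fun u => ∃ x ∈ P, x * z * x⁻¹ = u
  have hO : O.card = 16 := by
    have h1 := card_orbit P z
    rw [b2, hcardP, Nat.card_eq_fintype_card, Fintype.card_subtype] at h1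
    have h2 : O.card * 32 = 2 ^ 9 := by convert h1
    omega
  let S : G → Finset G := fun w => Finset.univ.filter fun u => ∃ x ∈ Q, x * w * x⁻¹ = u
  have hzO : z ∈ O := by
    rw [Finset.mem_filter]
    exact ⟨Finset.mem_univ _, 1, P.one_mem, e1⟩
  have hOPi : ∀ w ∈ O, w ∈ D.Pi := by
    intro w hw
    obtain ⟨x, hx, rfl⟩ := (Finset.mem_filter.1 hw).2
    exact hPn x hx z hzPi
  have hS : ∀ w ∈ O.erase z, (S w).card = 16 := by
    intro w hw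
    obtain ⟨hwz, hwO⟩ := Finset.mem_erase.1 hw
    obtain ⟨hw0, k, hk, -⟩ := hOPi w hwO
    have hpk : PP Q z 1 k := hpp 1 k (by rw [e1, hk]; exact hwz.symm)
      (by rw [e1, hk]; exact D.H0_comm D.z_mem hw0)
    have h3 := hpk.card
    rw [hcj1, hk] at h3
    have h1 := card_orbit Q w
    rw [h3, hcard, Nat.card_eq_fintype_card, Fintype.card_subtype] at h1
    have h2 : (S w).card * 32 = 2 ^ 9 := by convert h1
    omega
  have hSPi : ∀ w ∈ O.erase z, ∀ u ∈ S w, u ∈ D.Pi := by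
    intro w hw u hu
    obtain ⟨x, hx, rfl⟩ := (Finset.mem_filter.1 hu).2
    exact hQn x hx w (hOPi w (Finset.mem_erase.1 hw).2)
  have hdis : ∀ w ∈ O.erase z, ∀ w' ∈ O.erase z, w ≠ w' → Disjoint (S w) (S w') := by
    intro w hw w' hw' hww
    rw [Finset.disjoint_left]
    intro u hu hu'
    obtain ⟨x, hx, hxu⟩ := (Finset.mem_filter.1 hu).2
    obtain ⟨x', hx', hxu'⟩ := (Finset.mem_filter.1 hu').2
    apply hww
    have hq : ∀ w₁ ∈ O, ∀ x₁ ∈ Q, x₁ * w₁ * x₁⁻¹ * w₁⁻¹ ∈ Q := by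
      intro w₁ hw₁ x₁ hx₁
      have hw0 := (hOPi w₁ hw₁).1
      have hwz : w₁ * z = z * w₁ := D.H0_comm hw0 D.z_mem
      have e2 : x₁ * w₁ * x₁⁻¹ * w₁⁻¹ = x₁ * (w₁ * x₁⁻¹ * w₁⁻¹) := by group
      rw [e2]
      exact Q.mul_mem hx₁ (D.hz.conj_mem w₁ hwz _ (Q.inv_mem hx₁))
    have hp : ∀ w₁ ∈ O, w₁ * z⁻¹ ∈ P := by
      intro w₁ hw₁
      obtain ⟨p, hp, rfl⟩ := (Finset.mem_filter.1 hw₁).2
      have e2 : p * z * p⁻¹ * z⁻¹ = p * (z * p⁻¹ * z⁻¹) := by group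
      rw [e2]
      exact P.mul_mem hp (D.hy.conj_mem z zy _ (P.inv_mem hp))
    have h1 := hq w (Finset.mem_erase.1 hw).2 x hx
    have h2 := hq w' (Finset.mem_erase.1 hw').2 x' hx'
    rw [hxu] at h1
    rw [hxu'] at h2
    have h3 : w * w'⁻¹ ∈ Q := by
      have := Q.mul_mem (Q.inv_mem h1) h2
      have e2 : (u * w⁻¹)⁻¹ * (u * w'⁻¹) = w * w'⁻¹ := by group
      rwa [e2] at this
    have h4 : w * w'⁻¹ ∈ P := by
      have := P.mul_mem (hp w (Finset.mem_erase.1 hw).2)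
        (P.inv_mem (hp w' (Finset.mem_erase.1 hw').2))
      have e2 : (w * z⁻¹) * (w' * z⁻¹)⁻¹ = w * w'⁻¹ := by group
      rwa [e2] at this
    exact mul_inv_eq_one.1 (a1 _ h3 h4)
  have hfinal := D.Pi_le hpp hc0 ((O.erase z).biUnion S) (by
    intro u hu
    obtain ⟨w, hw, hwu⟩ := Finset.mem_biUnion.1 hu
    exact hSPi w hw u hwu)
  rw [Finset.card_biUnion hdis, Finset.sum_congr rfl hS, Finset.sum_const,
    Finset.card_erase_of_mem hzO, hO] at hfinal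
  norm_num at hfinal

end Cfsg.Agent.CoOneNWC.Count
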