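import Mathlib
import Cfsg.Agent.CoOneNWC.Closure

/-!
# Subgroups of `C_G(z)` acting trivially on the orthogonal complement of a totally isotropic subspace
-/

set_option autoImplicit false

namespace Cfsg.Agent.CoOneNWC

open Cfsg.Agent.Co2Type.Quad Module

section

variable {G : Type*} [Group G] {Q : Subgroup G} {z : G} (h : Large Q z)

/-- `|{x ∈ Q : x ⟨z⟩ ∈ W}| = 2 |W|`. -/
theorem card_preimage (W : Submodule (ZMod 2) h.V) :
    Nat.card {x : Q // h.pr x ∈ W} = 2 * Nat.card W := by
  classical
  obtain ⟨s, hs'⟩ := h.pr_surjective.hasRightInverse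
  have hs : ∀ v, h.pr (s v) = v := hs'
  have hsz : ∀ v, (s v : G) * z ∈ Q := fun v => Q.mul_mem (s v).2 h.z_mem
  have hprz : ∀ x : Q, h.pr ⟨(x : G) * z, Q.mul_mem x.2 h.z_mem⟩ = h.pr x := by
    intro x
    rw [h.pr_eq_pr]; exact Or.inr rfl
  have e : {x : Q // h.pr x ∈ W} ≃ Bool × W :=
    { toFun := fun x => (decide ((x.1 : G) = s (h.pr x.1)), ⟨h.pr x.1, x.2⟩)
      invFun := fun p => if p.1 then ⟨s p.2.1, by rw [hs]; exact p.2.2⟩ else
        ⟨⟨(s p.2.1 : G) * z, hsz _⟩, by rw [hprz, hs]; exact p.2.2⟩
      left_inv := by
        rintro ⟨x, hx⟩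
        have h1 : h.pr x = h.pr (s (h.pr x)) := (hs _).symm
        rcases h.pr_eq_pr.1 h1 with h2 | h2
        · simp only [← h2, decide_true, if_true]
          apply Subtype.ext
          apply Subtype.ext
          exact h2.symm
        · have h3 : (x : G) ≠ s (h.pr x) := by
            intro h3
            apply h.z_ne
            rw [h3] at h2
            have := mul_left_cancel ((mul_one _).trans h2)
            exact this.symm
          simp only [h3, decide_false, Bool.false_eq_true, if_false]
          apply Subtype.ext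
          apply Subtype.ext
          exact h2.symm
      right_inv := by
        rintro ⟨b, v, hv⟩
        cases b
        · have h3 : (s v : G) * z ≠ s v := by
            intro h3
            exact h.z_ne (mul_left_cancel (h3.trans (mul_one _).symm))
          simp only [Bool.false_eq_true, if_false, hprz, hs, h3, decide_false]
        · simp only [if_true, hs, decide_true] }
  rw [Nat.card_congr e, Nat.card_prod, Nat.card_eq_fintype_card, Fintype.card_bool]

/-- One step: `b ↦ b v₀ + v₀` is a homomorphism of `B` when it takes values in a subspace `N` fixed by `B`. -/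
theorem card_le_step [Finite G] (B : Subgroup (Subgroup.centralizer ({z} : Set G)))
    (N : Submodule (ZMod 2) h.V) (v₀ : h.V) (h1 : ∀ b ∈ B, h.act b v₀ + v₀ ∈ N)
    (h2 : ∀ b ∈ B, ∀ n ∈ N, h.act b n = n)
    (B₁ : Subgroup (Subgroup.centralizer ({z} : Set G)))
    (hB₁ : ∀ b, b ∈ B → h.act b v₀ = v₀ → b ∈ B₁) :
    Nat.card B ≤ Nat.card N * Nat.card B₁ := by
  have hfin := finite_V h
  let f : B →* Multiplicative N :=
    { toFun := fun b => Multiplicative.ofAdd ⟨h.act b v₀ + v₀, h1 b b.2⟩
      map_one' := by
        rw [← ofAdd_zero]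
        congr 1
        apply Subtype.ext
        show h.act ((1 : B) : Subgroup.centralizer ({z} : Set G)) v₀ + v₀ = 0
        rw [Subgroup.coe_one, act_one, h.add_self]
      map_mul' := by
        intro a b
        rw [← ofAdd_add]
        congr 1
        apply Subtype.ext
        show h.act ((a * b : B) : Subgroup.centralizer ({z} : Set G)) v₀ + v₀ =
          (h.act a v₀ + v₀) + (h.act b v₀ + v₀)
        have h3 : h.act a (h.act b v₀ + v₀) = h.act b v₀ + v₀ := h2 a a.2 _ (h1 b b.2)
        rw [Subgroup.coe_mul, ← act_act, ← h3, map_add]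
        have : h.act (a : Subgroup.centralizer ({z} : Set G)) v₀ + v₀ +
            (h.act a (h.act b v₀) + h.act a v₀) =
            (h.act a (h.act b v₀) + v₀) + (h.act a v₀ + h.act a v₀) := by abel
        rw [this, h.add_self, add_zero] }
  have h3 : Nat.card f.ker ≤ Nat.card B₁ := by
    refine Nat.card_le_card_of_injective (fun b : f.ker => (⟨b.1.1, ?_⟩ : B₁)) ?_
    · apply hB₁ _ b.1.2
      have h4 : f b.1 = 1 := b.2
      have h5 : h.act (b.1 : Subgroup.centralizer ({z} : Set G)) v₀ + v₀ = 0 := by
        have h6 := congrArg (fun t => ((Multiplicative.toAdd t : N) : h.V)) h4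
        exact h6
      rwa [add_eq_zero_iff'] at h5
    · intro a b hab
      apply Subtype.ext
      apply Subtype.ext
      have := congrArg Subtype.val hab
      exact this
  have h4 : Nat.card f.range ≤ Nat.card N := by
    have : Nat.card f.range ≤ Nat.card (Multiplicative N) :=
      Nat.card_le_card_of_injective (fun t : f.range => (t : Multiplicative N))
        Subtype.val_injective
    exact this
  have h5 := f.ker.card_mul_index
  rw [Subgroup.index_ker] at h5
  rw [← h5, mul_comm]
  exact Nat.mul_le_mul h4 h3

end

/-- A group of elements of `C_G(z)` acting trivially on `F^⊥`, `F` totally isotropic of dimension `d`,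
induces at most `2 ^ (d (d - 1) / 2)` elements. -/
theorem Hyp.card_le_of_trivial {G : Type*} [Group G] [Finite G] {Q : Subgroup G} {z : G}
    (H : Hyp Q z) (d : ℕ) : ∀ (F : Submodule (ZMod 2) H.large.V), finrank (ZMod 2) F = d →
    F ≤ perp H.large F → ∀ B : Subgroup (Subgroup.centralizer ({z} : Set G)),
    (∀ b ∈ B, ∀ v ∈ perp H.large F, H.large.act b v = v) →
    Nat.card B ≤ (∏ i ∈ Finset.range d, 2 ^ i) *
      Nat.card ↥(B ⊓ Q.subgroupOf (Subgroup.centralizer ({z} : Set G))) := by
  have hfin := finite_V H.large
  -- elements with trivial action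
  have hact : ∀ b : Subgroup.centralizer ({z} : Set G), (∀ v, H.large.act b v = v) →
      b ∈ Q.subgroupOf (Subgroup.centralizer ({z} : Set G)) := by
    intro b hb
    rw [Subgroup.mem_subgroupOf]
    apply H.large.mem_of_act
    apply LinearEquiv.ext
    intro v; exact hb v
  have hbase : ∀ B : Subgroup (Subgroup.centralizer ({z} : Set G)),
      (∀ b ∈ B, ∀ v, H.large.act b v = v) →
      Nat.card B ≤ 1 * Nat.card ↥(B ⊓ Q.subgroupOf (Subgroup.centralizer ({z} : Set G))) := by
    intro B hB
    have : B ⊓ Q.subgroupOf (Subgroup.centralizer ({z} : Set G)) = B :=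
      inf_eq_left.2 fun b hb => hact b (hB b hb)
    rw [this, one_mul]
  induction d with
  | zero =>
    intro F hF _ B hB
    have hF0 : F = ⊥ := Submodule.finrank_eq_zero.1 hF
    rw [Finset.prod_range_zero]
    apply hbase
    intro b hb v
    apply hB b hb
    rw [mem_perp, hF0]
    intro w hw
    rw [(Submodule.mem_bot _).1 hw, map_zero, LinearMap.zero_apply]
  | succ d ih =>
    intro F hF hiso B hB
    rw [Finset.prod_range_succ]
    rcases Nat.eq_zero_or_pos d with rfl | hd
    · -- dimension one: parity
      rw [Finset.prod_range_zero, pow_zero, mul_one]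
      apply hbase
      intro b hb v
      have h1 : perp H.large F ≤ fixV H.large b := fun v hv => hB b hb v hv
      have h2 := Submodule.finrank_mono h1
      have h3 := finrank_perp H.large F
      rw [H.finrank_V, hF] at h3
      have h4 := H.even_fix b
      have h5 := Submodule.finrank_le (fixV H.large b)
      rw [H.finrank_V] at h5
      obtain ⟨k, hk⟩ := h4
      have h6 : finrank (ZMod 2) (fixV H.large b) = 8 := by omega
      have h7 : fixV H.large b = ⊤ := by
        apply Submodule.eq_top_of_finrank_eq
        rw [h6, H.finrank_V]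
      have h8 : v ∈ fixV H.large b := by rw [h7]; exact Submodule.mem_top
      exact h8
    · -- choose `v₀`
      obtain ⟨v₀, f₀, hf₀, hvf₀, f₁, hf₁, hvf₁⟩ : ∃ v₀ : H.large.V, ∃ f₀ ∈ F,
          H.large.b v₀ f₀ = 1 ∧ ∃ f₁ ∈ F, H.large.b v₀ f₁ ≠ H.large.q f₁ := by
        have hne : F ≠ ⊥ := by
          intro h0
          rw [h0, finrank_bot] at hF
          omega
        obtain ⟨f₁, hf₁, hf₁0⟩ := (Submodule.ne_bot_iff _).1 hne
        obtain ⟨f₂, hf₂, hf₂0⟩ : ∃ f₂ ∈ F, f₂ ∉ Submodule.span (ZMod 2) {f₁} := by
          by_contra hcon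
          push Not at hcon
          have h1 : F ≤ Submodule.span (ZMod 2) {f₁} := hcon
          have h2 := Submodule.finrank_mono h1
          rw [finrank_span_singleton hf₁0] at h2
          omega
        have hf₁' : f₁ ∉ Submodule.span (ZMod 2) {f₂} := by
          intro h1
          obtain ⟨a, ha⟩ := Submodule.mem_span_singleton.1 h1
          rcases zmod2_cases a with rfl | rfl
          · rw [zero_smul] at ha; exact hf₁0 ha.symm
          · rw [one_smul] at ha
            exact hf₂0 (ha ▸ Submodule.mem_span_singleton_self f₂)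
        obtain ⟨v₁, hv₁, hb₁⟩ := exists_perp_ne H.large hf₁'
        obtain ⟨v₂, hv₂, hb₂⟩ := exists_perp_ne H.large hf₂0
        have hv₂' : H.large.b v₂ f₁ = 0 :=
          (mem_perp' _).1 hv₂ f₁ (Submodule.mem_span_singleton_self f₁)
        by_cases hq : H.large.b v₁ f₁ = H.large.q f₁
        · refine ⟨v₂, f₂, hf₂, hb₂, f₁, hf₁, ?_⟩
          rw [hv₂', ← hq, hb₁]
          exact zero_ne_one
        · exact ⟨v₁, f₁, hf₁, hb₁, f₁, hf₁, hq⟩
      -- `F' = {f ∈ F : b v₀ f = q f}`
      let F' : Submodule (ZMod 2) H.large.V :=
        { carrier := {f | f ∈ F ∧ H.large.b v₀ f = H.large.q f}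
          add_mem' := by
            rintro a b ⟨ha, ha'⟩ ⟨hb, hb'⟩
            refine ⟨F.add_mem ha hb, ?_⟩
            have hab : H.large.b a b = 0 := (mem_perp' _).1 (hiso ha) b hb
            rw [map_add, ha', hb', H.large.q_add', hab, add_zero]
          zero_mem' := ⟨F.zero_mem, by rw [map_zero, H.large.q_zero]⟩
          smul_mem' := by
            rintro c a ⟨ha, ha'⟩
            rcases zmod2_cases c with rfl | rfl
            · rw [zero_smul]; exact ⟨F.zero_mem, by rw [map_zero, H.large.q_zero]⟩
            · rw [one_smul]; exact ⟨ha, ha'⟩ }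
      have hF'le : F' ≤ F := fun f hf => hf.1
      have hF'card : Nat.card F' ≤ 2 ^ d := by
        rw [card_sub]
        apply Nat.pow_le_pow_right (by norm_num)
        have h1 : F' ≠ F := by
          intro h1
          have : f₁ ∈ F' := by rw [h1]; exact hf₁
          exact hvf₁ this.2
        have h2 := Submodule.finrank_lt_finrank_of_lt (lt_of_le_of_ne hF'le h1)
        omega
      -- `F₁ = F ∩ v₀^⊥`
      set F₁ : Submodule (ZMod 2) H.large.V := F ⊓ perp H.large (Submodule.span (ZMod 2) {v₀})
        with hF₁
      have hv₀perp : ∀ f, f ∈ perp H.large (Submodule.span (ZMod 2) {v₀}) ↔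
          H.large.b v₀ f = 0 := by
        intro f
        rw [mem_perp]
        constructor
        · intro hf; exact hf v₀ (Submodule.mem_span_singleton_self v₀)
        · intro hf w hw
          obtain ⟨a, rfl⟩ := Submodule.mem_span_singleton.1 hw
          rw [map_smul, LinearMap.smul_apply, hf, smul_zero]
      have hmemF₁ : ∀ f, f ∈ F₁ ↔ f ∈ F ∧ H.large.b v₀ f = 0 := by
        intro f
        rw [hF₁, Submodule.mem_inf, hv₀perp]
      have hsplit : ∀ f ∈ F, f ∈ F₁ ∨ f + f₀ ∈ F₁ := by
        intro f hf
        rcases zmod2_cases (H.large.b v₀ f) with h1 | h1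
        · left; rw [hmemF₁]; exact ⟨hf, h1⟩
        · right
          rw [hmemF₁]
          refine ⟨F.add_mem hf hf₀, ?_⟩
          rw [map_add, h1, hvf₀]; decide
      have hF₁rank : finrank (ZMod 2) F₁ = d := by
        have h1 : F₁ < F := by
          refine lt_of_le_of_ne (fun f hf => ((hmemF₁ f).1 hf).1) ?_
          intro h1
          have : f₀ ∈ F₁ := by rw [h1]; exact hf₀
          rw [((hmemF₁ _).1 this).2] at hvf₀
          exact zero_ne_one hvf₀
        have h2 := Submodule.finrank_lt_finrank_of_lt h1
        have h3 : F ≤ F₁ ⊔ Submodule.span (ZMod 2) {f₀} := by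
          intro f hf
          rcases hsplit f hf with h4 | h4
          · exact Submodule.mem_sup_left h4
          · rw [Submodule.mem_sup]
            refine ⟨f + f₀, h4, f₀, Submodule.mem_span_singleton_self f₀, ?_⟩
            rw [add_assoc, H.large.add_self, add_zero]
        have h4 := Submodule.finrank_mono h3
        have h5 := Submodule.finrank_add_le_finrank_add_finrank F₁ (Submodule.span (ZMod 2) {f₀})
        have h6 : finrank (ZMod 2) (Submodule.span (ZMod 2) ({f₀} : Set H.large.V)) ≤ 1 := by
          by_cases hf₀0 : f₀ = 0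
          · rw [hf₀0, Submodule.span_zero_singleton, finrank_bot]; exact Nat.zero_le _
          · rw [finrank_span_singleton hf₀0]
        omega
      have hF₁iso : F₁ ≤ perp H.large F₁ := by
        intro f hf
        rw [mem_perp']
        intro f' hf'
        exact (mem_perp' _).1 (hiso ((hmemF₁ f).1 hf).1) f' ((hmemF₁ f').1 hf').1
      -- the stabiliser
      let B₁ : Subgroup (Subgroup.centralizer ({z} : Set G)) :=
        { carrier := {b | b ∈ B ∧ H.large.act b v₀ = v₀}
          mul_mem' := by
            rintro a b ⟨ha, ha'⟩ ⟨hb, hb'⟩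
            exact ⟨B.mul_mem ha hb, by rw [← act_act, hb', ha']⟩
          one_mem' := ⟨B.one_mem, act_one _ _⟩
          inv_mem' := by
            rintro a ⟨ha, ha'⟩
            refine ⟨B.inv_mem ha, ?_⟩
            conv_lhs => rw [← ha']
            exact act_inv_act _ _ _ }
      have hB₁act : ∀ b ∈ B₁, ∀ v ∈ perp H.large F₁, H.large.act b v = v := by
        rintro b ⟨hb, hb'⟩ v hv
        rcases zmod2_cases (H.large.b v f₀) with h1 | h1
        · apply hB b hb
          rw [mem_perp']
          intro f hf
          rcases hsplit f hf with h2 | h2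
          · exact (mem_perp' _).1 hv f h2
          · have h3 := (mem_perp' _).1 hv _ h2
            rwa [map_add, h1, add_zero] at h3
        · have h4 : H.large.act b (v + v₀) = v + v₀ := by
            apply hB b hb
            rw [mem_perp']
            intro f hf
            have h5 : ∀ f' ∈ F₁, H.large.b (v + v₀) f' = 0 := by
              intro f' hf'
              rw [map_add, LinearMap.add_apply, (mem_perp' _).1 hv f' hf', ((hmemF₁ f').1 hf').2,
                add_zero]
            have h6 : H.large.b (v + v₀) f₀ = 0 := by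
              rw [map_add, LinearMap.add_apply, h1, hvf₀]; decide
            rcases hsplit f hf with h2 | h2
            · exact h5 f h2
            · have h3 := h5 _ h2
              rwa [map_add, h6, add_zero] at h3
          rw [map_add, hb'] at h4
          exact add_right_cancel h4
      have h1 := ih F₁ hF₁rank hF₁iso B₁ hB₁act
      have h2 : Nat.card B ≤ Nat.card F' * Nat.card B₁ := by
        apply card_le_step H.large B F' v₀ _ _ B₁ (fun b hb hb' => ⟨hb, hb'⟩)
        · intro b hb
          have h3 : H.large.act b v₀ + v₀ ∈ F := by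
            rw [← perp_perp H.large F, mem_perp']
            intro w hw
            have h4 : H.large.act b⁻¹ w = w := hB _ (B.inv_mem hb) w hw
            rw [map_add, LinearMap.add_apply, b_act_left, h4, zmod2_add_self]
          refine ⟨h3, ?_⟩
          rw [q_act_add, map_add, H.large.b_self, add_zero, H.large.b_comm]
        · intro b hb n hn
          exact hB b hb n (hiso hn.1)
      have h3 : Nat.card ↥(B₁ ⊓ Q.subgroupOf (Subgroup.centralizer ({z} : Set G))) ≤
          Nat.card ↥(B ⊓ Q.subgroupOf (Subgroup.centralizer ({z} : Set G))) := by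
        have hle : B₁ ≤ B := fun b hb => hb.1
        apply Nat.card_le_card_of_injective
          (Subgroup.inclusion (inf_le_inf_right
            (Q.subgroupOf (Subgroup.centralizer ({z} : Set G))) hle))
        exact Subgroup.inclusion_injective _
      calc Nat.card B ≤ Nat.card F' * Nat.card B₁ := h2
        _ ≤ 2 ^ d * ((∏ i ∈ Finset.range d, 2 ^ i) *
            Nat.card ↥(B₁ ⊓ Q.subgroupOf (Subgroup.centralizer ({z} : Set G)))) :=
          Nat.mul_le_mul hF'card h1
        _ ≤ 2 ^ d * ((∏ i ∈ Finset.range d, 2 ^ i) *
            Nat.card ↥(B ⊓ Q.subgroupOf (Subgroup.centralizer ({z} : Set G)))) :=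
          Nat.mul_le_mul_left _ (Nat.mul_le_mul_left _ h3)
        _ = _ := by ring

end Cfsg.Agent.CoOneNWC
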