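import Mathlib
import Cfsg.Agent.CoOneNWC.Trivial

/-!
# Pairs with `dim [V, y] = 2`, except the case `Q ∩ P` covers `[V, y]`
-/

set_option autoImplicit false

namespace Cfsg.Agent.CoOneNWC

open Cfsg.Agent.Co2Type.Quad Module

namespace Ctx

variable {G : Type*} [Group G] {Q P : Subgroup G} {z y : G}

/-- `B = C_P(z)` -/
def B (_ : Ctx Q P z y) : Subgroup (Subgroup.centralizer ({z} : Set G)) :=
  P.subgroupOf (Subgroup.centralizer ({z} : Set G))

theorem mem_B (X : Ctx Q P z y) {b : Subgroup.centralizer ({z} : Set G)} : b ∈ X.B ↔ (b : G) ∈ P :=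
  Subgroup.mem_subgroupOf

theorem comm_cent {z : G} (c : Subgroup.centralizer ({z} : Set G)) : (c : G) * z = z * c :=
  Subgroup.mem_centralizer_singleton_iff.1 c.2

theorem Y_mem_B (X : Ctx Q P z y) : X.Y ∈ X.B := X.mem_B.2 X.HP.large.z_mem

/-- `[A, B] ≤ Q ∩ P` -/
theorem act_B_WA (X : Ctx Q P z y) {b : Subgroup.centralizer ({z} : Set G)} (hb : b ∈ X.B)
    {w : X.HQ.large.V} (hw : w ∈ X.WA) : X.HQ.large.act b w + w ∈ X.RV := by
  obtain ⟨x, rfl, hx⟩ := hw
  have h1 := X.comm_AB x.2 hx (X.mem_B.1 hb) (comm_cent b)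
  refine ⟨⟨_, h1.1⟩, ?_, h1.2⟩
  rw [X.HQ.large.act_pr, ← X.HQ.large.neg_eq (X.HQ.large.pr x), ← X.HQ.large.pr_inv,
    ← X.HQ.large.pr_mul]
  rfl

theorem act_B_RV (X : Ctx Q P z y) {b : Subgroup.centralizer ({z} : Set G)} (hb : b ∈ X.B)
    {w : X.HQ.large.V} (hw : w ∈ X.RV) : X.HQ.large.act b w = w := by
  obtain ⟨r, rfl, hr⟩ := hw
  rw [X.HQ.large.act_pr]
  congr 1
  apply Subtype.ext
  rw [X.HQ.large.conjQ_coe]
  have h1 := X.symm.comm_R (X.mem_B.1 hb) (comm_cent b) hr r.2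
  rw [h1, mul_inv_cancel_right]

theorem act_B_Y (X : Ctx Q P z y) {b : Subgroup.centralizer ({z} : Set G)} (hb : b ∈ X.B)
    (v : X.HQ.large.V) :
    X.HQ.large.act b (X.HQ.large.act X.Y v) = X.HQ.large.act X.Y (X.HQ.large.act b v) := by
  rw [act_act, act_act]
  congr 2
  apply Subtype.ext
  exact X.HP.large.comm_z _ (X.mem_B.1 hb)

theorem act_B_FV (X : Ctx Q P z y) {b : Subgroup.centralizer ({z} : Set G)} (hb : b ∈ X.B)
    {v : X.HQ.large.V} (hv : v ∈ X.FV) : X.HQ.large.act b v ∈ X.FV := by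
  show X.HQ.large.act X.Y _ = _
  rw [← X.act_B_Y hb]
  congr 1

theorem pr_inj_P (X : Ctx Q P z y) {r s : Q} (hr : (r : G) ∈ P) (hs : (s : G) ∈ P)
    (h1 : X.HQ.large.pr r = X.HQ.large.pr s) : r = s := by
  rcases X.HQ.large.pr_eq_pr.1 h1 with h2 | h2
  · exact Subtype.ext h2
  · exfalso
    apply X.z_notMem
    have h3 := P.mul_mem (P.inv_mem hs) hr
    rwa [h2, inv_mul_cancel_left] at h3

theorem card_RV (X : Ctx Q P z y) : Nat.card X.RV = Nat.card ↥(Q ⊓ P) := by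
  symm
  refine Nat.card_eq_of_bijective (fun g : ↥(Q ⊓ P) =>
    (⟨X.HQ.large.pr ⟨g.1, g.2.1⟩, ⟨⟨g.1, g.2.1⟩, rfl, g.2.2⟩⟩ : X.RV)) ⟨?_, ?_⟩
  · intro a b hab
    have h1 := X.pr_inj_P (r := ⟨a.1, a.2.1⟩) (s := ⟨b.1, b.2.1⟩) a.2.2 b.2.2
      (congrArg Subtype.val hab)
    apply Subtype.ext
    have := congrArg Subtype.val h1
    exact this
  · rintro ⟨_, r, rfl, hr⟩
    exact ⟨⟨r, r.2, hr⟩, rfl⟩

theorem card_RV_symm (X : Ctx Q P z y) : Nat.card X.symm.RV = Nat.card X.RV := by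
  rw [X.card_RV, X.symm.card_RV, inf_comm]

theorem card_BQ (X : Ctx Q P z y) :
    Nat.card ↥(X.B ⊓ Q.subgroupOf (Subgroup.centralizer ({z} : Set G))) = Nat.card X.RV := by
  rw [X.card_RV]
  refine Nat.card_eq_of_bijective (fun g => (⟨g.1.1, g.2.2, g.2.1⟩ : ↥(Q ⊓ P))) ⟨?_, ?_⟩
  · intro a b hab
    apply Subtype.ext
    apply Subtype.ext
    have := congrArg Subtype.val hab
    exact this
  · rintro ⟨g, hg1, hg2⟩
    exact ⟨⟨⟨g, Subgroup.mem_centralizer_singleton_iff.2 (X.HQ.large.comm_z g hg1)⟩, hg2, hg1⟩, rfl⟩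

variable [Finite G]

omit [Finite G] in
theorem card_B (X : Ctx Q P z y) : Nat.card X.B = 2 * Nat.card X.symm.WA := by
  rw [← card_preimage X.HP.large X.symm.WA]
  refine Nat.card_eq_of_bijective (fun g => (⟨⟨g.1.1, X.mem_B.1 g.2⟩, ?_⟩ :
    {x : P // X.HP.large.pr x ∈ X.symm.WA})) ⟨?_, ?_⟩
  · exact (X.symm.pr_mem_WA _).2 (comm_cent g.1)
  · intro a b hab
    apply Subtype.ext
    apply Subtype.ext
    have := congrArg (fun t => ((t.1 : P) : G)) hab
    exact this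
  · rintro ⟨x, hx⟩
    have h1 := (X.symm.pr_mem_WA x).1 hx
    exact ⟨⟨⟨x, Subgroup.mem_centralizer_singleton_iff.2 h1⟩, X.mem_B.2 x.2⟩, rfl⟩

theorem finrank_WA (X : Ctx Q P z y) (hne : X.WA ≠ X.FV) :
    finrank (ZMod 2) X.WA + 1 = finrank (ZMod 2) X.FV := by
  have hfin := finite_V X.HQ.large
  have h1 := Submodule.finrank_lt_finrank_of_lt (lt_of_le_of_ne X.WA_le hne)
  obtain ⟨v, hv, hv'⟩ : ∃ v ∈ X.FV, v ∉ X.WA := by
    by_contra hcon
    push Not at hcon
    exact hne (le_antisymm X.WA_le hcon)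
  have h3 : X.FV ≤ X.WA ⊔ Submodule.span (ZMod 2) {v} := by
    intro w hw
    by_cases h4 : w ∈ X.WA
    · exact Submodule.mem_sup_left h4
    · rw [Submodule.mem_sup]
      refine ⟨w + v, X.WA_index hw hv h4 hv', v, Submodule.mem_span_singleton_self v, ?_⟩
      rw [add_assoc, X.HQ.large.add_self, add_zero]
  have h4 := Submodule.finrank_mono h3
  have h5 := Submodule.finrank_add_le_finrank_add_finrank X.WA (Submodule.span (ZMod 2) {v})
  have h6 : finrank (ZMod 2) (Submodule.span (ZMod 2) ({v} : Set X.HQ.large.V)) ≤ 1 := by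
    by_cases hv0 : v = 0
    · rw [hv0, Submodule.span_zero_singleton, finrank_bot]; exact Nat.zero_le _
    · rw [finrank_span_singleton hv0]
  omega

theorem finrank_WA_ge (X : Ctx Q P z y) : 3 ≤ finrank (ZMod 2) X.WA := by
  rcases X.finrank_FV with h | h
  · by_cases hne : X.WA = X.FV
    · rw [hne]; omega
    · have := X.finrank_WA hne; omega
  · by_cases hne : X.WA = X.FV
    · rw [hne]; omega
    · have := X.finrank_WA hne; omega

theorem sixteen_le_card_B (X : Ctx Q P z y) : 16 ≤ Nat.card X.B := by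
  rw [X.card_B, card_sub]
  have h1 := Nat.pow_le_pow_right (n := 2) (by norm_num) X.symm.finrank_WA_ge
  omega

theorem card_B_le (X : Ctx Q P z y) : Nat.card X.B ≤ 128 := by
  rw [X.card_B, card_sub]
  have hfin := finite_V X.HP.large
  have h1 : finrank (ZMod 2) X.symm.WA ≤ 6 := by
    have h2 := Submodule.finrank_mono X.symm.WA_le
    have h3 := X.symm.finrank_FV
    omega
  have h2 := Nat.pow_le_pow_right (n := 2) (by norm_num) h1
  omega

theorem card_FF (X : Ctx Q P z y) (h6 : finrank (ZMod 2) X.FV = 6) : Nat.card X.FF = 4 := by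
  rw [card_sub]
  have := X.finrank_FF
  have h2 : finrank (ZMod 2) X.FF = 2 := by omega
  rw [h2]; norm_num

omit [Finite G] in
theorem comm_lift (X : Ctx Q P z y) {x : Q} {r : X.HQ.large.V} (hr : r ∈ X.RV)
    (h1 : X.HQ.large.act X.Y (X.HQ.large.pr x) + X.HQ.large.pr x = r) :
    r = 0 ∨ ∃ s : G, s ∈ Q ∧ s ∈ P ∧ x * y * (x : G)⁻¹ * y⁻¹ = s * z := by
  obtain ⟨r, rfl, hrP⟩ := hr
  rw [← X.pr_comm', X.HQ.large.pr_eq_pr] at h1
  rcases h1 with h1 | h1
  · left
    have h3 : (x : G) * y = y * x := X.comm_of_mem (by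
      have : (x : G) * y * (x : G)⁻¹ * y⁻¹ = r := h1
      rw [this]; exact hrP)
    have h4 : (r : G) = 1 := by
      rw [← h1]
      show (x : G) * y * (x : G)⁻¹ * y⁻¹ = 1
      rw [h3]; group
    rw [X.HQ.large.pr_eq_zero]; exact Or.inl h4
  · exact Or.inr ⟨r, r.2, hrP, h1⟩

/-- If `C_Q(y)` does not cover `C_V(y)` then `Q ∩ P` meets `[V, y]` trivially. -/
theorem RV_inf_FF (X : Ctx Q P z y) (hne : X.WA ≠ X.FV) {r : X.HQ.large.V} (hr : r ∈ X.RV)
    (hr' : r ∈ X.FF) : r = 0 := by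
  obtain ⟨w, hw⟩ := (X.mem_FF r).1 hr'
  obtain ⟨x, rfl⟩ := X.HQ.large.pr_surjective w
  rcases X.comm_lift hr hw.symm with h1 | ⟨s, hsQ, hsP, hs⟩
  · exact h1
  obtain ⟨v, hv, hv'⟩ : ∃ v ∈ X.FV, v ∉ X.WA := by
    by_contra hcon
    push Not at hcon
    exact hne (le_antisymm X.WA_le hcon)
  obtain ⟨x', rfl⟩ := X.HQ.large.pr_surjective v
  have h2 := X.conj_of_notMem_WA hv hv'
  have hx'z := X.HQ.large.comm_z x' x'.2
  have hxz := X.HQ.large.comm_z x x.2
  have hsz := X.HQ.large.comm_z s hsQ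
  -- `[x', y] = z`
  have h3 : (x' : G) * y * (x' : G)⁻¹ * y⁻¹ = z := by
    have e : (x' : G) * y * (x' : G)⁻¹ * y⁻¹ = x' * (y * x' * y⁻¹)⁻¹ := by group
    rw [e, h2, mul_inv_rev, X.z_inv, ← mul_assoc, hx'z, mul_inv_cancel_right]
  have h4 : ((x : G) * x') * y * ((x : G) * x')⁻¹ * y⁻¹ = s := by
    calc ((x : G) * x') * y * ((x : G) * x')⁻¹ * y⁻¹
        = x * (x' * y * (x' : G)⁻¹ * y⁻¹) * (x : G)⁻¹ * (x * y * (x : G)⁻¹ * y⁻¹) := by group
      _ = x * z * (x : G)⁻¹ * (s * z) := by rw [h3, hs]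
      _ = z * (s * z) := by rw [hxz, mul_inv_cancel_right]
      _ = s * (z * z) := by rw [← mul_assoc, ← hsz, mul_assoc]
      _ = s := by rw [X.zz, mul_one]
  have h5 : ((x : G) * x') * y = y * ((x : G) * x') := X.comm_of_mem (by rw [h4]; exact hsP)
  have h6 : s = 1 := by rw [← h4, h5]; group
  rw [h6, one_mul] at hs
  rw [hw, ← X.pr_comm', X.HQ.large.pr_eq_zero]
  exact Or.inr hs

/-- If `q ≠ 0` on `[V, y]` then `Q ∩ P = 1`. -/
theorem RV_eq_bot_of_q (X : Ctx Q P z y) {f : X.HQ.large.V} (hf : f ∈ X.FF)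
    (hq : X.HQ.large.q f ≠ 0) : X.RV = ⊥ := by
  have hfW : f ∉ X.WA := by rwa [X.mem_WA_iff hf]
  have hfV : f ∈ X.FV := X.FF_le_FV hf
  have hne : X.WA ≠ X.FV := by
    intro h1
    exact hfW (h1 ▸ hfV)
  rw [Submodule.eq_bot_iff]
  intro r hr
  apply X.RV_inf_FF hne hr
  show r ∈ perp X.HQ.large X.FV
  rw [mem_perp']
  intro w hw
  have hrf : X.HQ.large.b r f = 0 := by
    rw [X.HQ.large.b_comm]
    exact X.b_FF_FV hf (X.WA_le (X.RV_le hr))
  by_cases hw' : w ∈ X.WA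
  · exact X.b_RV_WA hr hw'
  · have h2 := X.b_RV_WA hr (X.WA_index hw hfV hw' hfW)
    rwa [map_add, hrf, add_zero] at h2

/-- Type 5: `Q ∩ P = 1`. -/
theorem RV_eq_bot_of_four (X : Ctx Q P z y) (h4 : finrank (ZMod 2) X.FV = 4)
    (hne : X.WA ≠ X.FV) : X.RV = ⊥ := by
  have hfin := finite_V X.HQ.large
  have h1 : X.FF = X.FV := by
    apply Submodule.eq_of_le_of_finrank_le X.FF_le_FV
    have := X.finrank_FF
    omega
  obtain ⟨v, hv, hv'⟩ : ∃ v ∈ X.FV, v ∉ X.WA := by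
    by_contra hcon
    push Not at hcon
    exact hne (le_antisymm X.WA_le hcon)
  rw [← h1] at hv
  refine X.RV_eq_bot_of_q hv ?_
  rwa [Ne, ← X.mem_WA_iff hv]

/-- Types 4 and 5: `Q ∩ P = 1`. -/
theorem RV_eq_bot_four (X : Ctx Q P z y) (h4 : finrank (ZMod 2) X.FV = 4) : X.RV = ⊥ := by
  by_cases hW : X.WA = X.FV
  · exact X.RV_eq_bot hW h4
  · exact X.RV_eq_bot_of_four h4 hW

omit [Finite G] in
theorem act_B_WA_of_bot (X : Ctx Q P z y) (h0 : X.RV = ⊥)
    {b : Subgroup.centralizer ({z} : Set G)} (hb : b ∈ X.B)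
    {w : X.HQ.large.V} (hw : w ∈ X.WA) : X.HQ.large.act b w = w := by
  have h1 := X.act_B_WA hb hw
  rw [h0, Submodule.mem_bot, add_eq_zero_iff'] at h1
  exact h1

omit [Finite G] in
theorem card_BQ_of_bot (X : Ctx Q P z y) (h0 : X.RV = ⊥) :
    Nat.card ↥(X.B ⊓ Q.subgroupOf (Subgroup.centralizer ({z} : Set G))) = 1 := by
  rw [X.card_BQ, h0]
  exact Nat.card_unique

/-- `[V, y]` is totally isotropic. -/
theorem FF_le_perp (X : Ctx Q P z y) : X.FF ≤ perp X.HQ.large X.FF := by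
  rw [X.perp_FF]; exact X.FF_le_FV

/-- Type 1 with `Q ∩ P = 1` does not occur. -/
theorem not_type1_bot (X : Ctx Q P z y) (h6 : finrank (ZMod 2) X.FV = 6) (hW : X.WA = X.FV)
    (h0 : X.RV = ⊥) : False := by
  have h1 := X.HQ.card_le_of_trivial 2 X.FF (by have := X.finrank_FF; omega) X.FF_le_perp X.B
    (fun b hb v hv => by
      rw [X.perp_FF, ← hW] at hv
      exact X.act_B_WA_of_bot h0 hb hv)
  rw [X.card_BQ_of_bot h0] at h1
  have h2 := X.sixteen_le_card_B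
  have h3 : (∏ i ∈ Finset.range 2, 2 ^ i) = 2 := by decide
  rw [h3] at h1
  omega

/-- Type 3 does not occur. -/
theorem not_type3 (X : Ctx Q P z y) (h6 : finrank (ZMod 2) X.FV = 6) {f : X.HQ.large.V}
    (hf : f ∈ X.FF) (hq : X.HQ.large.q f ≠ 0) : False := by
  have hfin := finite_V X.HQ.large
  have h0 := X.RV_eq_bot_of_q hf hq
  have hfW : f ∉ X.WA := by rwa [X.mem_WA_iff hf]
  have hfV : f ∈ X.FV := X.FF_le_FV hf
  -- the stabiliser of `f` in `B`
  let B₁ : Subgroup (Subgroup.centralizer ({z} : Set G)) :=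
    { carrier := {b | b ∈ X.B ∧ X.HQ.large.act b f = f}
      mul_mem' := by
        rintro a b ⟨ha, ha'⟩ ⟨hb, hb'⟩
        exact ⟨X.B.mul_mem ha hb, by rw [← act_act, hb', ha']⟩
      one_mem' := ⟨X.B.one_mem, act_one _ _⟩
      inv_mem' := by
        rintro a ⟨ha, ha'⟩
        refine ⟨X.B.inv_mem ha, ?_⟩
        conv_lhs => rw [← ha']
        exact act_inv_act _ _ _ }
  have h1 := X.HQ.card_le_of_trivial 2 X.FF (by have := X.finrank_FF; omega) X.FF_le_perp B₁
    (fun b hb v hv => by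
      rw [X.perp_FF] at hv
      by_cases hv' : v ∈ X.WA
      · exact X.act_B_WA_of_bot h0 hb.1 hv'
      · have h2 := X.act_B_WA_of_bot h0 hb.1 (X.WA_index hv hfV hv' hfW)
        rw [map_add, hb.2] at h2
        exact add_right_cancel h2)
  have h2 : Nat.card ↥(B₁ ⊓ Q.subgroupOf (Subgroup.centralizer ({z} : Set G))) ≤ 1 := by
    rw [← X.card_BQ_of_bot h0]
    have hle : B₁ ≤ X.B := fun b hb => hb.1
    apply Nat.card_le_card_of_injective
      (Subgroup.inclusion (inf_le_inf_right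
        (Q.subgroupOf (Subgroup.centralizer ({z} : Set G))) hle))
    exact Subgroup.inclusion_injective _
  have h3 : (∏ i ∈ Finset.range 2, 2 ^ i) = 2 := by decide
  rw [h3] at h1
  have h4 : Nat.card X.B ≤ Nat.card ↥(X.FF ⊓ X.WA) * Nat.card B₁ := by
    apply card_le_step X.HQ.large X.B (X.FF ⊓ X.WA) f _ _ B₁ (fun b hb hb' => ⟨hb, hb'⟩)
    · intro b hb
      have hbF : X.HQ.large.act b f ∈ X.FF := by
        rw [X.mem_FF] at hf ⊢
        obtain ⟨w, rfl⟩ := hf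
        refine ⟨X.HQ.large.act b w, ?_⟩
        rw [map_add, X.act_B_Y hb]
      have h5 : X.HQ.large.act b f + f ∈ X.FF := X.FF.add_mem hbF hf
      refine ⟨h5, (X.mem_WA_iff h5).2 ?_⟩
      rw [q_act_add]
      exact X.b_FF_FV hbF hfV
    · intro b hb n hn
      exact X.act_B_WA_of_bot h0 hb hn.2
  have h5 : Nat.card ↥(X.FF ⊓ X.WA) ≤ 2 := by
    rw [card_sub]
    have h6 : finrank (ZMod 2) ↥(X.FF ⊓ X.WA) < finrank (ZMod 2) X.FF := by
      apply Submodule.finrank_lt_finrank_of_lt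
      refine lt_of_le_of_ne inf_le_left ?_
      intro h7
      have : f ∈ X.FF ⊓ X.WA := by rw [h7]; exact hf
      exact hfW this.2
    have h7 := X.finrank_FF
    have h8 : finrank (ZMod 2) ↥(X.FF ⊓ X.WA) ≤ 1 := by omega
    exact (Nat.pow_le_pow_right (n := 2) (by norm_num) h8).trans (by norm_num)
  have h6 := X.sixteen_le_card_B
  have h7 : Nat.card B₁ ≤ 2 := by omega
  have h8 := Nat.mul_le_mul h5 h7
  omega

end Ctx

/-- Subspaces of codimension one over `F₂`. -/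
theorem add_mem_of_finrank {G : Type*} [Group G] [Finite G] {Q : Subgroup G} {z : G}
    (h : Large Q z) {W U : Submodule (ZMod 2) h.V} (hle : W ≤ U)
    (hr : finrank (ZMod 2) U = finrank (ZMod 2) W + 1) {u v : h.V} (hu : u ∈ U) (hv : v ∈ U)
    (hu' : u ∉ W) (hv' : v ∉ W) : u + v ∈ W := by
  have hfin := finite_V h
  have h1 : W < W ⊔ Submodule.span (ZMod 2) {u} := by
    refine lt_of_le_of_ne le_sup_left ?_
    intro h1
    apply hu'
    rw [h1]
    exact Submodule.mem_sup_right (Submodule.mem_span_singleton_self u)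
  have h2 := Submodule.finrank_lt_finrank_of_lt h1
  have h3 : W ⊔ Submodule.span (ZMod 2) {u} ≤ U := by
    refine sup_le hle ?_
    rw [Submodule.span_singleton_le_iff_mem]
    exact hu
  have h4 : W ⊔ Submodule.span (ZMod 2) {u} = U := by
    apply Submodule.eq_of_le_of_finrank_le h3
    omega
  rw [← h4, Submodule.mem_sup] at hv
  obtain ⟨w, hw, t, ht, rfl⟩ := hv
  obtain ⟨a, rfl⟩ := Submodule.mem_span_singleton.1 ht
  rcases zmod2_cases a with rfl | rfl
  · exfalso; apply hv'; rw [zero_smul, add_zero]; exact hw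
  · rw [one_smul]
    have : u + (w + u) = w + (u + u) := by abel
    rw [this, h.add_self, add_zero]; exact hw

namespace Ctx

variable {G : Type*} [Group G] [Finite G] {Q P : Subgroup G} {z y : G}

section type2

variable (X : Ctx Q P z y) (h6 : finrank (ZMod 2) X.FV = 6) (hne : X.WA ≠ X.FV)
  (hq : ∀ f ∈ X.FF, X.HQ.large.q f = 0)

include h6 hne hq

theorem FF_le_WA : X.FF ≤ X.WA := fun f hf => (X.mem_WA_iff hf).2 (hq f hf)

theorem finrank_perp_WA : finrank (ZMod 2) (perp X.HQ.large X.WA) = 3 := by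
  have h1 := X.finrank_WA hne
  have h2 := finrank_perp X.HQ.large X.WA
  rw [X.HQ.finrank_V] at h2
  omega

theorem FF_le_perp_WA : X.FF ≤ perp X.HQ.large X.WA := perp_anti _ X.WA_le

theorem perp_WA_le_FV : perp X.HQ.large X.WA ≤ X.FV := by
  have h1 : perp X.HQ.large X.WA ≤ perp X.HQ.large X.FF := perp_anti _ (X.FF_le_WA h6 hne hq)
  rwa [X.perp_FF] at h1

theorem perp_WA_le : perp X.HQ.large X.WA ≤ X.WA := by
  intro u hu
  rw [← perp_perp X.HQ.large X.WA, mem_perp']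
  intro v hv
  have hF := X.finrank_FF
  have h1 := X.finrank_perp_WA h6 hne hq
  by_cases hu' : u ∈ X.FF
  · exact X.b_FF_FV hu' (X.perp_WA_le_FV h6 hne hq hv)
  · by_cases hv' : v ∈ X.FF
    · rw [X.HQ.large.b_comm]
      exact X.b_FF_FV hv' (X.perp_WA_le_FV h6 hne hq hu)
    · have h2 := add_mem_of_finrank X.HQ.large (X.FF_le_perp_WA h6 hne hq) (by omega) hu hv hu' hv'
      have h3 := X.b_FF_FV h2 (X.perp_WA_le_FV h6 hne hq hu)
      rw [map_add, LinearMap.add_apply, X.HQ.large.b_self, zero_add, X.HQ.large.b_comm] at h3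
      exact h3

/-- Type 2 with `Q ∩ P = 1` does not occur. -/
theorem not_type2_bot (h0 : X.RV = ⊥) : False := by
  have h1 := X.HQ.card_le_of_trivial 3 (perp X.HQ.large X.WA) (X.finrank_perp_WA h6 hne hq)
    (by rw [perp_perp]; exact X.perp_WA_le h6 hne hq) X.B
    (fun b hb v hv => by
      rw [perp_perp] at hv
      exact X.act_B_WA_of_bot h0 hb hv)
  rw [X.card_BQ_of_bot h0] at h1
  have h2 := X.sixteen_le_card_B
  have h3 : (∏ i ∈ Finset.range 3, 2 ^ i) = 8 := by decide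
  rw [h3] at h1
  omega

/-- Type 2: if `B` is not abelian there is a contradiction. -/
theorem not_type2_of_comm {b₁ b₂ : Subgroup.centralizer ({z} : Set G)} (hb₁ : b₁ ∈ X.B)
    (hb₂ : b₂ ∈ X.B) (hc : (b₁ : G) * b₂ = b₂ * b₁ * y) : False := by
  have hfin := finite_V X.HQ.large
  -- elements of `B` map `RV^⊥` to `WA^⊥`
  have step1 : ∀ b ∈ X.B, ∀ v ∈ perp X.HQ.large X.RV,
      X.HQ.large.act b v + v ∈ perp X.HQ.large X.WA := by
    intro b hb v hv
    rw [mem_perp']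
    intro w hw
    have h1 : X.HQ.large.act b⁻¹ w + w ∈ X.RV := X.act_B_WA (X.B.inv_mem hb) hw
    rw [map_add, LinearMap.add_apply, b_act_left, ← map_add]
    exact (mem_perp' _).1 hv _ h1
  have step2 : ∀ b ∈ X.B, ∀ b' ∈ X.B, ∀ v ∈ perp X.HQ.large X.RV,
      X.HQ.large.act b (X.HQ.large.act b' v + v) + (X.HQ.large.act b' v + v) ∈ X.RV := by
    intro b hb b' hb' v hv
    exact X.act_B_WA hb (X.perp_WA_le h6 hne hq (step1 b' hb' v hv))
  have hcY : b₁ * b₂ = b₂ * b₁ * X.Y := Subtype.ext hc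
  have step3 : ∀ v ∈ perp X.HQ.large X.RV, X.HQ.large.act X.Y v + v ∈ X.RV := by
    intro v hv
    have h1 := step2 b₁ hb₁ b₂ hb₂ v hv
    have h2 := step2 b₂ hb₂ b₁ hb₁ v hv
    have h3 := X.RV.add_mem h1 h2
    have h4 : X.HQ.large.act b₁ (X.HQ.large.act b₂ v + v) + (X.HQ.large.act b₂ v + v) +
        (X.HQ.large.act b₂ (X.HQ.large.act b₁ v + v) + (X.HQ.large.act b₁ v + v)) =
        X.HQ.large.act (b₂ * b₁) (X.HQ.large.act X.Y v + v) := by
      rw [map_add, map_add, map_add, act_act, hcY, act_act, act_act]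
      have : X.HQ.large.act (b₂ * b₁ * X.Y) v + X.HQ.large.act b₁ v +
          (X.HQ.large.act b₂ v + v) +
          (X.HQ.large.act (b₂ * b₁) v + X.HQ.large.act b₂ v + (X.HQ.large.act b₁ v + v)) =
          (X.HQ.large.act (b₂ * b₁ * X.Y) v + X.HQ.large.act (b₂ * b₁) v) +
          ((X.HQ.large.act b₁ v + X.HQ.large.act b₁ v) +
            (X.HQ.large.act b₂ v + X.HQ.large.act b₂ v) + (v + v)) := by abel
      rw [this, X.HQ.large.add_self (X.HQ.large.act b₁ v), X.HQ.large.add_self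
        (X.HQ.large.act b₂ v), X.HQ.large.add_self v, add_zero, add_zero, add_zero]
    rw [h4] at h3
    have h5 := X.act_B_RV (X.B.inv_mem (X.B.mul_mem hb₂ hb₁)) h3
    rw [act_inv_act] at h5
    rw [h5]; exact h3
  -- hence `RV^⊥ ≤ C_V(y)`
  have step4 : perp X.HQ.large X.RV ≤ X.FV := by
    intro v hv
    have h1 := X.RV_inf_FF hne (step3 v hv) (X.act_add_mem_FF v)
    exact (add_eq_zero_iff' X.HQ.large _ _).1 h1
  have h1 := Submodule.finrank_mono step4
  have h2 := finrank_perp X.HQ.large X.RV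
  rw [X.HQ.finrank_V] at h2
  -- `dim RV ≤ 1`
  have h3 : finrank (ZMod 2) X.RV ≤ 1 := by
    have h4 : X.RV ⊓ X.FF = ⊥ := by
      rw [Submodule.eq_bot_iff]
      intro r hr
      exact X.RV_inf_FF hne hr.1 hr.2
    have h5 := Submodule.finrank_sup_add_finrank_inf_eq X.RV X.FF
    rw [h4, finrank_bot, add_zero] at h5
    have h6' : X.RV ⊔ X.FF ≤ perp X.HQ.large X.WA :=
      sup_le X.RV_le_perp (X.FF_le_perp_WA h6 hne hq)
    have h7 := Submodule.finrank_mono h6'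
    have h8 := X.finrank_perp_WA h6 hne hq
    have h9 := X.finrank_FF
    omega
  omega

end type2

/-- If `dim (A/⟨z⟩) ≥ 5` then `A` is not abelian. -/
theorem exists_noncomm (X : Ctx Q P z y) (h5 : 5 ≤ finrank (ZMod 2) X.WA) :
    ∃ a b : Q, (a : G) * y = y * a ∧ (b : G) * y = y * b ∧ (a : G) * b = b * a * z := by
  have hfin := finite_V X.HQ.large
  have h1 : ¬ X.WA ≤ perp X.HQ.large X.WA := by
    intro h1
    have h2 := Submodule.finrank_mono h1
    have h3 := finrank_perp X.HQ.large X.WA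
    rw [X.HQ.finrank_V] at h3
    omega
  obtain ⟨v, hv, hv'⟩ := Set.not_subset.1 h1
  have hv'' : v ∉ perp X.HQ.large X.WA := hv'
  rw [mem_perp'] at hv''
  push Not at hv''
  obtain ⟨w, hw, hvw⟩ := hv''
  obtain ⟨a, rfl, ha⟩ := hv
  obtain ⟨b, rfl, hb⟩ := hw
  refine ⟨a, b, ha, hb, ?_⟩
  rw [← X.HQ.large.b_pr_one]
  exact (zmod2_cases _).resolve_left hvw

end Ctx

end Cfsg.Agent.CoOneNWC
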