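import Mathlib
import Cfsg.Agent.CoOneNWC.TypeI

/-!
# Pairs with `dim [V, y] = 2`, `C_Q(y)` covering `C_V(y)` and `Q ∩ P` covering `[V, y]`
-/

set_option autoImplicit false

namespace Cfsg.Agent.CoOneNWC

open Cfsg.Agent.Co2Type.Quad Module

namespace Ctx

variable {G : Type*} [Group G] [Finite G] {Q P : Subgroup G} {z y : G}

/-- `b` induces `n ↦ n + β n` on `C_V(y)` for some `b ∈ B`. -/
def SS (X : Ctx Q P z y) (β : X.HQ.large.V → X.HQ.large.V) : Prop :=
  ∃ b ∈ X.B, ∀ n ∈ X.FV, X.HQ.large.act b n = n + β n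

section one

variable (X : Ctx Q P z y) (hW : X.WA = X.FV) (hR : X.RV = X.FF)

include hW hR

theorem yz_not_conj (g : G) : g * z * g⁻¹ ≠ y * z := by
  intro hg
  obtain ⟨v, hv⟩ : ∃ v, v ∉ X.FV := by
    by_contra hcon
    push Not at hcon
    exact X.FV_ne_top (by rw [Submodule.eq_top_iff']; exact hcon)
  obtain ⟨x, rfl⟩ := X.HQ.large.pr_surjective v
  have hr : X.HQ.large.act X.Y (X.HQ.large.pr x) + X.HQ.large.pr x ∈ X.RV := by
    rw [hR]; exact X.act_add_mem_FF _
  have hr0 : X.HQ.large.act X.Y (X.HQ.large.pr x) + X.HQ.large.pr x ≠ 0 := by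
    intro h0
    rw [add_eq_zero_iff'] at h0
    exact hv h0
  obtain ⟨s, hsQ, hsP, hs⟩ := (X.comm_lift hr rfl).resolve_left hr0
  have hs1 : s ≠ 1 := by
    rintro rfl
    apply hr0
    rw [← X.pr_comm', X.HQ.large.pr_eq_zero]
    right; rw [one_mul] at hs; exact hs
  have hsy : s ≠ y := by
    rintro rfl
    exact X.y_notMem hsQ
  obtain ⟨p, hpP, hp⟩ : ∃ p ∈ P, s * p ≠ p * s := by
    by_contra hcon
    push Not at hcon
    rcases X.HP.large.cent s hsP hcon with h1 | h1
    · exact hs1 h1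
    · exact hsy h1
  have hp' : p * s = s * p * y := by
    rcases X.HP.large.comm p hpP s hsP with h1 | h1
    · exact absurd h1.symm hp
    · exact h1
  have hpy := X.HP.large.comm_z p hpP
  have e1 : p * s * p⁻¹ = s * y := by
    rw [hp', mul_assoc s p y, hpy]; group
  have hxz := X.HQ.large.comm_z x x.2
  have e2 : (x : G) * y * (x : G)⁻¹ = s * z * y := by rw [← hs]; group
  have e3 : (x : G) * (y * z) * (x : G)⁻¹ = s * y := by
    calc (x : G) * (y * z) * (x : G)⁻¹ = x * (z * y) * (x : G)⁻¹ := by rw [X.yz]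
      _ = (x * z) * (y * (x : G)⁻¹) := by group
      _ = z * (x * y * (x : G)⁻¹) := by rw [hxz]; group
      _ = z * (s * z * y) := by rw [e2]
      _ = (z * s) * (z * y) := by group
      _ = s * (z * z) * y := by rw [← X.HQ.large.comm_z s hsQ]; group
      _ = s * y := by rw [X.zz, mul_one]
  have e4 : (p⁻¹ * x * g) * z * (p⁻¹ * x * g)⁻¹ = s := by
    calc (p⁻¹ * x * g) * z * (p⁻¹ * x * g)⁻¹ = p⁻¹ * (x * (g * z * g⁻¹) * (x : G)⁻¹) * p := by group
      _ = p⁻¹ * (p * s * p⁻¹) * p := by rw [hg, e3, e1]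
      _ = s := by group
  have h5 := X.wQ (p⁻¹ * x * g) (by rw [e4]; exact hsQ)
  rw [e4] at h5
  exact X.z_notMem (h5 ▸ hsP)

/-- Every element of `C_G(z)` commuting with `y` on `V` acts like an element of `C_G(z) ∩ C_G(y)`. -/
theorem exists_lift (c : Subgroup.centralizer ({z} : Set G))
    (hc : ∀ v, X.HQ.large.act c (X.HQ.large.act X.Y v) = X.HQ.large.act X.Y (X.HQ.large.act c v)) :
    ∃ d : Subgroup.centralizer ({z} : Set G), (d : G) * y = y * d ∧
      ∀ v, X.HQ.large.act d v = X.HQ.large.act c v := by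
  obtain ⟨x, hx⟩ := X.exists_adjust hW c hc
  have hxc : (x : G) ∈ Subgroup.centralizer ({z} : Set G) :=
    Subgroup.mem_centralizer_singleton_iff.2 (X.HQ.large.comm_z x x.2)
  refine ⟨⟨x, hxc⟩⁻¹ * c, ?_, ?_⟩
  · rcases hx with hx | hx
    · exact mul_inv_eq_iff_eq_mul.1 hx
    · exfalso
      obtain ⟨g, hg⟩ := X.cj
      apply X.yz_not_conj hW hR ((x : G)⁻¹ * c * g)
      rw [← hx, ← hg]
      group
  · intro v
    rw [← act_act, map_inv, X.HQ.large.act_mem ⟨x, hxc⟩ x.2, inv_one]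
    rfl

omit hW hR in
theorem conj_mem_B {d b : Subgroup.centralizer ({z} : Set G)} (hd : (d : G) * y = y * d)
    (hb : b ∈ X.B) : d * b * d⁻¹ ∈ X.B := by
  rw [X.mem_B] at hb ⊢
  exact X.HP.large.conj_mem d hd b hb

omit hW hR in
theorem act_D_FV {d : Subgroup.centralizer ({z} : Set G)} (hd : (d : G) * y = y * d)
    {v : X.HQ.large.V} (hv : v ∈ X.FV) : X.HQ.large.act d⁻¹ v ∈ X.FV := by
  show X.HQ.large.act X.Y _ = _
  have h1 : X.Y * d⁻¹ = d⁻¹ * X.Y := by
    apply Subtype.ext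
    show y * (d : G)⁻¹ = (d : G)⁻¹ * y
    rw [eq_inv_mul_iff_mul_eq, ← mul_assoc, hd, mul_inv_cancel_right]
  rw [act_act, h1, ← act_act]
  congr 1

omit [Finite G] in
theorem beta_mem {b : Subgroup.centralizer ({z} : Set G)} (hb : b ∈ X.B) {n : X.HQ.large.V}
    (hn : n ∈ X.FV) : X.HQ.large.act b n + n ∈ X.FF := by
  rw [← hR]
  rw [← hW] at hn
  exact X.act_B_WA hb hn

omit hW [Finite G] in
theorem act_B_FF {b : Subgroup.centralizer ({z} : Set G)} (hb : b ∈ X.B) {n : X.HQ.large.V}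
    (hn : n ∈ X.FF) : X.HQ.large.act b n = n := by
  rw [← hR] at hn
  exact X.act_B_RV hb hn

theorem SS_mem {β : X.HQ.large.V → X.HQ.large.V} (h : X.SS β) {n : X.HQ.large.V}
    (hn : n ∈ X.FV) : β n ∈ X.FF := by
  obtain ⟨b, hb, h1⟩ := h
  have h2 := X.beta_mem hW hR hb hn
  rw [h1 n hn] at h2
  have h3 : n + β n + n = β n + (n + n) := by abel
  rwa [h3, X.HQ.large.add_self, add_zero] at h2

theorem SS_add {β β' : X.HQ.large.V → X.HQ.large.V} (h : X.SS β) (h' : X.SS β') :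
    X.SS (fun n => β n + β' n) := by
  obtain ⟨b', hb', h2⟩ := h'
  have hm := fun n hn => X.SS_mem hW hR ⟨b', hb', h2⟩ (n := n) hn
  obtain ⟨b, hb, h1⟩ := h
  refine ⟨b * b', X.B.mul_mem hb hb', ?_⟩
  intro n hn
  rw [← act_act, h2 n hn, map_add, h1 n hn, X.act_B_FF hR hb (hm n hn)]
  exact add_assoc _ _ _

omit hW hR in
theorem SS_congr {β β' : X.HQ.large.V → X.HQ.large.V} (h : X.SS β)
    (he : ∀ n ∈ X.FV, β n = β' n) : X.SS β' := by
  obtain ⟨b, hb, h1⟩ := h
  exact ⟨b, hb, fun n hn => by rw [h1 n hn, he n hn]⟩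

omit hW hR in
theorem SS_zero : X.SS (fun _ => 0) := by
  refine ⟨1, X.B.one_mem, fun n _ => ?_⟩
  rw [act_one, add_zero]

/-- additivity of `β` -/
theorem SS_map_add {β : X.HQ.large.V → X.HQ.large.V} (h : X.SS β) {m n : X.HQ.large.V}
    (hm : m ∈ X.FV) (hn : n ∈ X.FV) : β (m + n) = β m + β n := by
  obtain ⟨b, hb, h1⟩ := h
  have h2 := h1 (m + n) (X.FV.add_mem hm hn)
  rw [map_add, h1 m hm, h1 n hn] at h2
  have h3 : m + β m + (n + β n) = (m + n) + (β m + β n) := by abel
  rw [h3] at h2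
  exact (add_left_cancel h2).symm

omit hW in
theorem SS_FF {β : X.HQ.large.V → X.HQ.large.V} (h : X.SS β) {m : X.HQ.large.V}
    (hm : m ∈ X.FF) : β m = 0 := by
  obtain ⟨b, hb, h1⟩ := h
  have h2 := h1 m (X.FF_le_FV hm)
  rw [X.act_B_FF hR hb hm] at h2
  exact (left_eq_add.1 h2)

theorem SS_smul {β : X.HQ.large.V → X.HQ.large.V} (h : X.SS β) {m : X.HQ.large.V}
    (hm : m ∈ X.FV) (a : ZMod 2) : β (a • m) = a • β m := by
  rcases zmod2_cases a with rfl | rfl
  · rw [zero_smul, zero_smul]; exact X.SS_FF hR h X.FF.zero_mem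
  · rw [one_smul, one_smul]

/-- Closure under transvections of `[V, y]`. -/
theorem SS_left {β : X.HQ.large.V → X.HQ.large.V} (h : X.SS β) {m v : X.HQ.large.V} (hm : m ≠ 0)
    (hv : X.HQ.large.act X.Y v + v = m) : X.SS (fun n => X.HQ.large.b (β n) v • m) := by
  have hmF : m ∈ X.FF := by rw [← hv]; exact X.act_add_mem_FF v
  obtain ⟨c, x, hc, hx, hg⟩ := X.exists_tv hW hm hv
  obtain ⟨d, hdy, hd⟩ := X.exists_lift hW hR c hc
  have h2 : X.SS (fun n => β n + X.HQ.large.b (β n) v • m) := by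
    obtain ⟨b, hb, h1⟩ := h
    refine ⟨d * b * d⁻¹, X.conj_mem_B hdy hb, ?_⟩
    intro n hn
    have hn' := X.act_D_FV hdy hn
    obtain ⟨n', hn'e⟩ : ∃ n', n' = X.HQ.large.act d⁻¹ n := ⟨_, rfl⟩
    rw [← hn'e] at hn'
    have e1 : n = n' + X.HQ.large.b n' x • m := by
      have h3 : X.HQ.large.act d n' = n := by rw [hn'e]; exact act_act_inv _ _ _
      rw [hd, hg] at h3
      have h4 : X.HQ.large.b n' m = 0 := by
        rw [X.HQ.large.b_comm]; exact X.b_FF_FV hmF hn'
      rw [h4, zero_smul, add_zero] at h3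
      exact h3.symm
    have hβ : β n' = β n := by
      conv_rhs => rw [e1]
      rw [X.SS_map_add hW hR ⟨b, hb, h1⟩ hn' (X.FV.smul_mem _ (X.FF_le_FV hmF)),
        X.SS_smul hW hR ⟨b, hb, h1⟩ (X.FF_le_FV hmF), X.SS_FF hR ⟨b, hb, h1⟩ hmF, smul_zero,
        add_zero]
    have hβm : β n' ∈ X.FF := X.SS_mem hW hR ⟨b, hb, h1⟩ hn'
    rw [← act_act, ← act_act, ← hn'e, h1 n' hn', map_add, hd, hd, hg, hg (β n'), hx _ hβm]
    have h5 : X.HQ.large.b n' m = 0 := by
      rw [X.HQ.large.b_comm]; exact X.b_FF_FV hmF hn'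
    have h6 : X.HQ.large.b (β n') m = 0 := X.b_FF_FV hβm (X.FF_le_FV hmF)
    rw [h5, h6, zero_smul, add_zero (n'), add_zero (β n'), ← e1, hβ]
  have h3 := X.SS_add hW hR h h2
  refine X.SS_congr h3 ?_
  intro n _
  show β n + (β n + _) = _
  rw [← add_assoc, X.HQ.large.add_self, zero_add]

/-- Closure under Siegel transformations in `C_V(y)`. -/
theorem SS_right {β : X.HQ.large.V → X.HQ.large.V} (h : X.SS β) {a x : X.HQ.large.V}
    (ha : a ∈ X.FV) (hx : x ∈ X.FV) (hqa : X.HQ.large.q a = 0) (hqx : X.HQ.large.q x = 0)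
    (hax : X.HQ.large.b a x = 0) :
    X.SS (fun n => X.HQ.large.b n a • β x + X.HQ.large.b n x • β a) := by
  obtain ⟨c, hg⟩ := X.HQ.exists_siegel hqa hqx hax
  have hYa : X.HQ.large.act X.Y a = a := ha
  have hYx : X.HQ.large.act X.Y x = x := hx
  have hc : ∀ v, X.HQ.large.act c (X.HQ.large.act X.Y v) =
      X.HQ.large.act X.Y (X.HQ.large.act c v) := by
    intro v
    rw [hg, hg, map_add, map_add, map_smul, map_smul, hYx, hYa, X.b_act_Y, X.b_act_Y, hYx, hYa]
  obtain ⟨d, hdy, hd⟩ := X.exists_lift hW hR c hc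
  have h2 : X.SS (fun n => β n + (X.HQ.large.b n a • β x + X.HQ.large.b n x • β a)) := by
    obtain ⟨b, hb, h1⟩ := h
    refine ⟨d * b * d⁻¹, X.conj_mem_B hdy hb, ?_⟩
    intro n hn
    have hn' := X.act_D_FV hdy hn
    obtain ⟨n', hn'e⟩ : ∃ n', n' = X.HQ.large.act d⁻¹ n := ⟨_, rfl⟩
    rw [← hn'e] at hn'
    have e1 : n = n' + X.HQ.large.b n' a • x + X.HQ.large.b n' x • a := by
      have h3 : X.HQ.large.act d n' = n := by rw [hn'e]; exact act_act_inv _ _ _
      rw [hd, hg] at h3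
      exact h3.symm
    have hxa : X.HQ.large.b x a = 0 := by rw [X.HQ.large.b_comm]; exact hax
    have hna : X.HQ.large.b n a = X.HQ.large.b n' a := by
      conv_lhs => rw [e1]
      rw [map_add, map_add, map_smul, map_smul, LinearMap.add_apply, LinearMap.add_apply,
        LinearMap.smul_apply, LinearMap.smul_apply, hxa, X.HQ.large.b_self, smul_zero, smul_zero,
        add_zero, add_zero]
    have hnx : X.HQ.large.b n x = X.HQ.large.b n' x := by
      conv_lhs => rw [e1]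
      rw [map_add, map_add, map_smul, map_smul, LinearMap.add_apply, LinearMap.add_apply,
        LinearMap.smul_apply, LinearMap.smul_apply, hax, X.HQ.large.b_self, smul_zero, smul_zero,
        add_zero, add_zero]
    have hS : X.SS β := ⟨b, hb, h1⟩
    have hβ : β n = β n' + X.HQ.large.b n a • β x + X.HQ.large.b n x • β a := by
      rw [hna, hnx]
      conv_lhs => rw [e1]
      rw [X.SS_map_add hW hR hS (X.FV.add_mem hn' (X.FV.smul_mem _ hx)) (X.FV.smul_mem _ ha),
        X.SS_map_add hW hR hS hn' (X.FV.smul_mem _ hx), X.SS_smul hW hR hS hx,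
        X.SS_smul hW hR hS ha]
    have hβm : β n' ∈ X.FF := X.SS_mem hW hR hS hn'
    show _ = n + (β n + (X.HQ.large.b n a • β x + X.HQ.large.b n x • β a))
    rw [← act_act, ← act_act, ← hn'e, h1 n' hn', map_add, hd, hd, hg, hg (β n'),
      X.b_FF_FV hβm ha, X.b_FF_FV hβm hx, zero_smul, zero_smul, add_zero, add_zero, ← e1, hβ]
    have : β n' + X.HQ.large.b n a • β x + X.HQ.large.b n x • β a +
        (X.HQ.large.b n a • β x + X.HQ.large.b n x • β a) =
        β n' + ((X.HQ.large.b n a • β x + X.HQ.large.b n x • β a) +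
        (X.HQ.large.b n a • β x + X.HQ.large.b n x • β a)) := by abel
    rw [this, X.HQ.large.add_self, add_zero]
  have h3 := X.SS_add hW hR h h2
  refine X.SS_congr h3 ?_
  intro n _
  show β n + (β n + _) = _
  rw [← add_assoc, X.HQ.large.add_self, zero_add]

/-- The vectors `w ∈ C_V(y)` such that all maps `n ↦ b(n, w) f`, `f ∈ [V, y]`, are induced. -/
noncomputable def WW : Submodule (ZMod 2) X.HQ.large.V where
  carrier := {w | w ∈ X.FV ∧ ∀ f ∈ X.FF, X.SS (fun n => X.HQ.large.b n w • f)}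
  add_mem' := by
    rintro u w ⟨hu, hu'⟩ ⟨hw, hw'⟩
    refine ⟨X.FV.add_mem hu hw, fun f hf => ?_⟩
    refine X.SS_congr (X.SS_add hW hR (hu' f hf) (hw' f hf)) ?_
    intro n _
    show _ • f + _ • f = _ • f
    rw [map_add, add_smul]
  zero_mem' := by
    refine ⟨X.FV.zero_mem, fun f _ => ?_⟩
    refine X.SS_congr X.SS_zero ?_
    intro n _
    show 0 = _ • f
    rw [map_zero, zero_smul]
  smul_mem' := by
    rintro a w ⟨hw, hw'⟩
    refine ⟨X.FV.smul_mem a hw, fun f hf => ?_⟩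
    rcases zmod2_cases a with rfl | rfl
    · refine X.SS_congr X.SS_zero ?_
      intro n _
      show 0 = _ • f
      rw [zero_smul, map_zero, zero_smul]
    · refine X.SS_congr (hw' f hf) ?_
      intro n _
      show _ • f = _ • f
      rw [one_smul]

theorem mem_WW (w : X.HQ.large.V) :
    w ∈ X.WW hW hR ↔ w ∈ X.FV ∧ ∀ f ∈ X.FF, X.SS (fun n => X.HQ.large.b n w • f) := Iff.rfl

theorem WW_siegel {a x w : X.HQ.large.V} (ha : a ∈ X.FV) (hx : x ∈ X.FV)
    (hqa : X.HQ.large.q a = 0) (hqx : X.HQ.large.q x = 0) (hax : X.HQ.large.b a x = 0)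
    (hw : w ∈ X.WW hW hR) :
    X.HQ.large.b x w • a + X.HQ.large.b a w • x ∈ X.WW hW hR := by
  refine ⟨X.FV.add_mem (X.FV.smul_mem _ ha) (X.FV.smul_mem _ hx), fun f hf => ?_⟩
  refine X.SS_congr (X.SS_right hW hR (hw.2 f hf) ha hx hqa hqx hax) ?_
  intro n _
  show X.HQ.large.b n a • X.HQ.large.b x w • f + X.HQ.large.b n x • X.HQ.large.b a w • f =
    X.HQ.large.b n (X.HQ.large.b x w • a + X.HQ.large.b a w • x) • f
  rw [map_add, map_smul, map_smul, smul_eq_mul, smul_eq_mul, add_smul, smul_smul, smul_smul,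
    mul_comm (X.HQ.large.b n a), mul_comm (X.HQ.large.b n x)]

/-- `WW` is larger than `[V, y]`. -/
theorem exists_WW (h6 : finrank (ZMod 2) X.FV = 6) : ∃ w ∈ X.WW hW hR, w ∉ X.FF := by
  have hfin := finite_V X.HQ.large
  have hrF : finrank (ZMod 2) X.FF = 2 := by have := X.finrank_FF; omega
  -- some element of `B` acts non-trivially on `C_V(y)`
  obtain ⟨b, hb, n, hn, hbn⟩ : ∃ b ∈ X.B, ∃ n ∈ X.FV, X.HQ.large.act b n ≠ n := by
    by_contra hcon
    push Not at hcon
    have h1 := X.HQ.card_le_of_trivial 2 X.FF hrF X.FF_le_perp X.B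
      (fun b hb v hv => by
        rw [X.perp_FF] at hv
        exact hcon b hb v hv)
    rw [X.card_BQ, hR, X.card_FF h6] at h1
    have h2 := X.sixteen_le_card_B
    have h3 : (∏ i ∈ Finset.range 2, 2 ^ i) = 2 := by decide
    rw [h3] at h1
    omega
  have hSb : X.SS (fun n => X.HQ.large.act b n + n) := by
    refine ⟨b, hb, fun n _ => ?_⟩
    show _ = n + (X.HQ.large.act b n + n)
    rw [add_comm (X.HQ.large.act b n), ← add_assoc, X.HQ.large.add_self, zero_add]
  obtain ⟨f, hf⟩ : ∃ f, f = X.HQ.large.act b n + n := ⟨_, rfl⟩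
  have hfF : f ∈ X.FF := by rw [hf]; exact X.beta_mem hW hR hb hn
  have hf0 : f ≠ 0 := by
    intro h0
    rw [hf, add_eq_zero_iff'] at h0
    exact hbn h0
  obtain ⟨v, hv⟩ : ∃ v, X.HQ.large.b v f = 1 := by
    by_contra hcon
    push Not at hcon
    apply hf0
    apply X.HQ.large.b_nondeg
    intro w
    rw [X.HQ.large.b_comm]
    exact (zmod2_cases _).resolve_right (hcon w)
  obtain ⟨m, hm⟩ : ∃ m, m = X.HQ.large.act X.Y v + v := ⟨_, rfl⟩
  have hmF : m ∈ X.FF := by rw [hm]; exact X.act_add_mem_FF v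
  have hm0 : m ≠ 0 := by
    intro h0
    have hvF : v ∈ X.FV := by
      show X.HQ.large.act X.Y v = v
      rw [← add_eq_zero_iff' X.HQ.large, ← hm]; exact h0
    rw [X.HQ.large.b_comm, X.b_FF_FV hfF hvF] at hv
    exact zero_ne_one hv
  obtain ⟨w, hw⟩ : ∃ w, w = X.HQ.large.act b⁻¹ v + v := ⟨_, rfl⟩
  have hbw : ∀ u, X.HQ.large.b u w = X.HQ.large.b (X.HQ.large.act b u + u) v := by
    intro u
    rw [hw, map_add, map_add, LinearMap.add_apply, b_act_left]
  have hwF : w ∈ X.FV := by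
    rw [← X.perp_FF, mem_perp]
    intro f' hf'
    rw [hbw, X.act_B_FF hR hb hf', X.HQ.large.add_self, map_zero, LinearMap.zero_apply]
  have hwn : X.HQ.large.b n w = 1 := by
    rw [hbw, ← hf, X.HQ.large.b_comm]; exact hv
  have hwnF : w ∉ X.FF := by
    intro h1
    rw [X.HQ.large.b_comm, X.b_FF_FV h1 hn] at hwn
    exact zero_ne_one hwn
  have hSm : X.SS (fun n => X.HQ.large.b n w • m) := by
    refine X.SS_congr (X.SS_left hW hR hSb hm0 hm.symm) ?_
    intro u _
    show X.HQ.large.b (X.HQ.large.act b u + u) v • m = X.HQ.large.b u w • m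
    rw [hbw]
  refine ⟨w, ⟨hwF, fun f' hf' => ?_⟩, hwnF⟩
  by_cases hf'0 : f' = 0
  · refine X.SS_congr X.SS_zero ?_
    intro u _
    show 0 = _ • f'
    rw [hf'0, smul_zero]
  by_cases hf'm : f' = m
  · rw [hf'm]; exact hSm
  · obtain ⟨v', hv'⟩ := (X.mem_FF f').1 hf'
    have h1 := X.SS_left hW hR hSm hf'0 hv'.symm
    refine X.SS_congr h1 ?_
    intro u _
    show X.HQ.large.b (X.HQ.large.b u w • m) v' • f' = X.HQ.large.b u w • f'
    have h2 : X.HQ.large.b m v' = 1 := by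
      by_contra hcon
      have h3 : X.HQ.large.b m v' = 0 := (zmod2_cases _).resolve_right hcon
      have h4 : X.HQ.large.b f' v' = 0 := by
        have h5 := q_act_add X.HQ.large X.Y v'
        rw [← hv', X.q_FF hW hf'] at h5
        rw [hv', map_add, LinearMap.add_apply, X.HQ.large.b_self, add_zero]
        exact h5.symm
      have h5 : v' ∈ X.FV := by
        rw [← X.perp_FF, mem_perp]
        intro f'' hf''
        have h6 : Submodule.span (ZMod 2) {f'} ≤ X.FF := by
          rw [Submodule.span_singleton_le_iff_mem]; exact hf'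
        have h7 : m ∉ Submodule.span (ZMod 2) {f'} := by
          intro h8
          obtain ⟨a, ha⟩ := Submodule.mem_span_singleton.1 h8
          rcases zmod2_cases a with rfl | rfl
          · rw [zero_smul] at ha; exact hm0 ha.symm
          · rw [one_smul] at ha; exact hf'm ha
        have h8 : ∀ u ∈ Submodule.span (ZMod 2) {f'}, X.HQ.large.b u v' = 0 := by
          intro u hu
          obtain ⟨a, rfl⟩ := Submodule.mem_span_singleton.1 hu
          rw [map_smul, LinearMap.smul_apply, h4, smul_zero]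
        by_cases h9 : f'' ∈ Submodule.span (ZMod 2) {f'}
        · exact h8 f'' h9
        · have h10 := h8 _ (add_mem_of_finrank X.HQ.large h6
            (by rw [finrank_span_singleton hf'0, hrF]) hf'' hmF h9 h7)
          rwa [map_add, LinearMap.add_apply, h3, add_zero] at h10
      apply hf'0
      rw [hv', add_eq_zero_iff']
      exact h5
    rw [map_smul, LinearMap.smul_apply, h2, smul_eq_mul, mul_one]

end one

end Ctx

end Cfsg.Agent.CoOneNWC
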