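import Mathlib
import Cfsg.Agent.CoOneNWC.TypeOne

/-!
# Pairs with `dim [V, y] = 2` do not occur
-/

set_option autoImplicit false

namespace Cfsg.Agent.CoOneNWC

open Cfsg.Agent.Co2Type.Quad Module

section gen

variable {G : Type*} [Group G] [Finite G] {Q : Subgroup G} {z : G}

/-- Totally singular implies totally isotropic. -/
theorem le_perp_of_q (h : Large Q z) {M : Submodule (ZMod 2) h.V} (hM : ∀ v ∈ M, h.q v = 0) :
    M ≤ perp h M := by
  intro v hv
  rw [mem_perp']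
  intro w hw
  have h1 := h.q_add' v w
  rw [hM _ (M.add_mem hv hw), hM v hv, hM w hw, zero_add, zero_add] at h1
  exact h1.symm

theorem perp_sup (h : Large Q z) (U W : Submodule (ZMod 2) h.V) :
    perp h (U ⊔ W) = perp h U ⊓ perp h W := by
  apply le_antisymm
  · exact le_inf (perp_anti h le_sup_left) (perp_anti h le_sup_right)
  · intro v hv
    rw [mem_perp]
    intro w hw
    obtain ⟨a, ha, b, hb, rfl⟩ := Submodule.mem_sup.1 hw
    rw [map_add, LinearMap.add_apply, (mem_perp h).1 hv.1 a ha, (mem_perp h).1 hv.2 b hb, add_zero]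

/-- A totally singular plane lies in a totally singular subspace of dimension four. -/
theorem Hyp.exists_ts_of_plane (H : Hyp Q z) {F : Submodule (ZMod 2) H.large.V}
    (hF : ∀ v ∈ F, H.large.q v = 0) :
    ∃ M : Submodule (ZMod 2) H.large.V, F ≤ M ∧ finrank (ZMod 2) M = 4 ∧
      ∀ v ∈ M, H.large.q v = 0 := by
  have hfin := finite_V H.large
  obtain ⟨M₀, hM₀, hq₀⟩ := H.exists_ts
  have hM₀' : M₀ = perp H.large M₀ := by
    apply Submodule.eq_of_le_of_finrank_le (le_perp_of_q H.large hq₀)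
    have := finrank_perp H.large M₀
    rw [H.finrank_V] at this
    omega
  refine ⟨F ⊔ (M₀ ⊓ perp H.large F), le_sup_left, ?_, ?_⟩
  · have h1 := Submodule.finrank_sup_add_finrank_inf_eq F (M₀ ⊓ perp H.large F)
    have h2 : F ⊓ (M₀ ⊓ perp H.large F) = M₀ ⊓ F := by
      apply le_antisymm
      · exact le_inf (inf_le_right.trans inf_le_left) inf_le_left
      · exact le_inf inf_le_right (le_inf inf_le_left
          (inf_le_right.trans (le_perp_of_q H.large hF)))
    have h3 : M₀ ⊓ perp H.large F = perp H.large (M₀ ⊔ F) := by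
      rw [perp_sup, ← hM₀']
    have h4 := finrank_perp H.large (M₀ ⊔ F)
    have h5 := Submodule.finrank_sup_add_finrank_inf_eq M₀ F
    rw [H.finrank_V, ← h3] at h4
    rw [h2] at h1
    omega
  · intro v hv
    obtain ⟨a, ha, b, hb, rfl⟩ := Submodule.mem_sup.1 hv
    rw [H.large.q_add', hF a ha, hq₀ b hb.1, (mem_perp _).1 hb.2 a ha, add_zero, add_zero]

end gen

namespace Ctx

variable {G : Type*} [Group G] [Finite G] {Q P : Subgroup G} {z y : G}

/-- Hyperbolic vectors in `C_V(y)` modulo `[V, y]`. -/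
theorem exists_hyp (X : Ctx Q P z y) (h6 : finrank (ZMod 2) X.FV = 6) (hW : X.WA = X.FV) :
    ∃ n₁ n₂ p₁ p₂ : X.HQ.large.V, (n₁ ∈ X.FV ∧ n₂ ∈ X.FV ∧ p₁ ∈ X.FV ∧ p₂ ∈ X.FV) ∧
      (X.HQ.large.q n₁ = 0 ∧ X.HQ.large.q n₂ = 0 ∧ X.HQ.large.q p₁ = 0 ∧ X.HQ.large.q p₂ = 0) ∧
      X.HQ.large.b n₁ n₂ = 0 ∧ X.HQ.large.b p₁ p₂ = 0 ∧ X.HQ.large.b n₁ p₁ = 1 ∧
      X.HQ.large.b n₂ p₂ = 1 ∧ X.HQ.large.b n₁ p₂ = 0 ∧ X.HQ.large.b n₂ p₁ = 0 := by
  have hfin := finite_V X.HQ.large
  have hrF : finrank (ZMod 2) X.FF = 2 := by have := X.finrank_FF; omega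
  obtain ⟨M, hFM, hM4, hqM⟩ := X.HQ.exists_ts_of_plane (fun v hv => X.q_FF hW hv)
  have hMM := le_perp_of_q X.HQ.large hqM
  have hMF : M ≤ X.FV := by
    have h1 : M ≤ perp X.HQ.large X.FF := hMM.trans (perp_anti _ hFM)
    rwa [X.perp_FF] at h1
  obtain ⟨n₁, hn₁, hn₁'⟩ : ∃ n ∈ M, n ∉ X.FF := by
    by_contra hcon
    push Not at hcon
    have := Submodule.finrank_mono (show M ≤ X.FF from hcon)
    omega
  obtain ⟨n₂, hn₂, hn₂'⟩ : ∃ n ∈ M, n ∉ X.FF ⊔ Submodule.span (ZMod 2) {n₁} := by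
    by_contra hcon
    push Not at hcon
    have h1 := Submodule.finrank_mono (show M ≤ X.FF ⊔ Submodule.span (ZMod 2) {n₁} from hcon)
    have h2 := Submodule.finrank_add_le_finrank_add_finrank X.FF (Submodule.span (ZMod 2) {n₁})
    have h3 : n₁ ≠ 0 := by rintro rfl; exact hn₁' X.FF.zero_mem
    rw [finrank_span_singleton h3] at h2
    omega
  have hn₁'' : n₁ ∉ X.FF ⊔ Submodule.span (ZMod 2) {n₂} := by
    intro h1
    obtain ⟨f, hf, t, ht, hft⟩ := Submodule.mem_sup.1 h1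
    obtain ⟨a, rfl⟩ := Submodule.mem_span_singleton.1 ht
    rcases zmod2_cases a with rfl | rfl
    · rw [zero_smul, add_zero] at hft
      exact hn₁' (hft ▸ hf)
    · rw [one_smul] at hft
      apply hn₂'
      rw [Submodule.mem_sup]
      refine ⟨f, hf, n₁, Submodule.mem_span_singleton_self _, ?_⟩
      rw [← hft, ← add_assoc, X.HQ.large.add_self, zero_add]
  have hb12 : X.HQ.large.b n₁ n₂ = 0 := (mem_perp' _).1 (hMM hn₁) n₂ hn₂
  have hb21 : X.HQ.large.b n₂ n₁ = 0 := by rw [X.HQ.large.b_comm]; exact hb12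
  -- `p₁`
  obtain ⟨u, hu, hun⟩ := exists_perp_ne X.HQ.large hn₁''
  have huF : u ∈ X.FV := by
    rw [← X.perp_FF]; exact perp_anti _ le_sup_left hu
  have hu2 : X.HQ.large.b u n₂ = 0 := (mem_perp' _).1 hu n₂
    (Submodule.mem_sup_right (Submodule.mem_span_singleton_self _))
  obtain ⟨p₁, hp₁F, hp₁q, hp₁1, hp₁2⟩ : ∃ p ∈ X.FV, X.HQ.large.q p = 0 ∧
      X.HQ.large.b p n₁ = 1 ∧ X.HQ.large.b p n₂ = 0 := by
    rcases zmod2_cases (X.HQ.large.q u) with h1 | h1
    · exact ⟨u, huF, h1, hun, hu2⟩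
    · refine ⟨u + n₁, X.FV.add_mem huF (hMF hn₁), ?_, ?_, ?_⟩
      · rw [X.HQ.large.q_add', h1, hqM n₁ hn₁, hun]; decide
      · rw [map_add, LinearMap.add_apply, hun, X.HQ.large.b_self, add_zero]
      · rw [map_add, LinearMap.add_apply, hu2, hb12, add_zero]
  -- `p₂`
  obtain ⟨t, ht, htn⟩ := exists_perp_ne X.HQ.large hn₂'
  have htF : t ∈ X.FV := by
    rw [← X.perp_FF]; exact perp_anti _ le_sup_left ht
  have ht1 : X.HQ.large.b t n₁ = 0 := (mem_perp' _).1 ht n₁
    (Submodule.mem_sup_right (Submodule.mem_span_singleton_self _))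
  obtain ⟨s, hsF, hs1, hs2, hsp⟩ : ∃ s ∈ X.FV, X.HQ.large.b s n₁ = 0 ∧
      X.HQ.large.b s n₂ = 1 ∧ X.HQ.large.b s p₁ = 0 := by
    rcases zmod2_cases (X.HQ.large.b t p₁) with h1 | h1
    · exact ⟨t, htF, ht1, htn, h1⟩
    · refine ⟨t + n₁, X.FV.add_mem htF (hMF hn₁), ?_, ?_, ?_⟩
      · rw [map_add, LinearMap.add_apply, ht1, X.HQ.large.b_self, add_zero]
      · rw [map_add, LinearMap.add_apply, htn, hb12, add_zero]
      · rw [map_add, LinearMap.add_apply, h1, X.HQ.large.b_comm n₁ p₁, hp₁1]; decide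
  obtain ⟨p₂, hp₂F, hp₂q, hp₂1, hp₂2, hp₂p⟩ : ∃ p ∈ X.FV, X.HQ.large.q p = 0 ∧
      X.HQ.large.b p n₁ = 0 ∧ X.HQ.large.b p n₂ = 1 ∧ X.HQ.large.b p p₁ = 0 := by
    rcases zmod2_cases (X.HQ.large.q s) with h1 | h1
    · exact ⟨s, hsF, h1, hs1, hs2, hsp⟩
    · refine ⟨s + n₂, X.FV.add_mem hsF (hMF hn₂), ?_, ?_, ?_, ?_⟩
      · rw [X.HQ.large.q_add', h1, hqM n₂ hn₂, hs2]; decide
      · rw [map_add, LinearMap.add_apply, hs1, hb21, add_zero]
      · rw [map_add, LinearMap.add_apply, hs2, X.HQ.large.b_self, add_zero]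
      · rw [map_add, LinearMap.add_apply, hsp, X.HQ.large.b_comm n₂ p₁, hp₁2, add_zero]
  refine ⟨n₁, n₂, p₁, p₂, ⟨hMF hn₁, hMF hn₂, hp₁F, hp₂F⟩, ⟨hqM n₁ hn₁, hqM n₂ hn₂, hp₁q, hp₂q⟩,
    hb12, ?_, ?_, ?_, ?_, ?_⟩
  · rw [X.HQ.large.b_comm]; exact hp₂p
  · rw [X.HQ.large.b_comm]; exact hp₁1
  · rw [X.HQ.large.b_comm]; exact hp₂2
  · rw [X.HQ.large.b_comm]; exact hp₂1
  · rw [X.HQ.large.b_comm]; exact hp₁2

/-- Type 1 with `Q ∩ P` covering `[V, y]` does not occur. -/
theorem not_type1_eq (X : Ctx Q P z y) (h6 : finrank (ZMod 2) X.FV = 6) (hW : X.WA = X.FV)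
    (hR : X.RV = X.FF) : False := by
  classical
  have hfin := finite_V X.HQ.large
  have hrF : finrank (ZMod 2) X.FF = 2 := by have := X.finrank_FF; omega
  obtain ⟨n₁, n₂, p₁, p₂, ⟨hn₁F, hn₂F, hp₁F, hp₂F⟩, ⟨hqn₁, hqn₂, hqp₁, hqp₂⟩, hnn, hpp, h11, h22,
    h12, h21⟩ := X.exists_hyp h6 hW
  have h11' : X.HQ.large.b p₁ n₁ = 1 := by rw [X.HQ.large.b_comm]; exact h11
  have h22' : X.HQ.large.b p₂ n₂ = 1 := by rw [X.HQ.large.b_comm]; exact h22
  have h12' : X.HQ.large.b p₂ n₁ = 0 := by rw [X.HQ.large.b_comm]; exact h12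
  have h21' : X.HQ.large.b p₁ n₂ = 0 := by rw [X.HQ.large.b_comm]; exact h21
  have hnn' : X.HQ.large.b n₂ n₁ = 0 := by rw [X.HQ.large.b_comm]; exact hnn
  have hpp' : X.HQ.large.b p₂ p₁ = 0 := by rw [X.HQ.large.b_comm]; exact hpp
  -- combinations
  let L : (Fin 4 → ZMod 2) → X.HQ.large.V := fun a => a 0 • n₁ + a 1 • p₁ + a 2 • n₂ + a 3 • p₂
  have hLF : ∀ a, L a ∈ X.FV := fun a => X.FV.add_mem (X.FV.add_mem (X.FV.add_mem
    (X.FV.smul_mem _ hn₁F) (X.FV.smul_mem _ hp₁F)) (X.FV.smul_mem _ hn₂F)) (X.FV.smul_mem _ hp₂F)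
  have hbn₁ : ∀ a, X.HQ.large.b n₁ (L a) = a 1 := by
    intro a
    simp only [L, map_add, map_smul, smul_eq_mul, X.HQ.large.b_self, h11, hnn, h12]
    ring
  have hbp₁ : ∀ a, X.HQ.large.b p₁ (L a) = a 0 := by
    intro a
    simp only [L, map_add, map_smul, smul_eq_mul, X.HQ.large.b_self, h11', hpp, h21']
    ring
  have hbn₂ : ∀ a, X.HQ.large.b n₂ (L a) = a 3 := by
    intro a
    simp only [L, map_add, map_smul, smul_eq_mul, X.HQ.large.b_self, h22, hnn', h21]
    ring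
  have hbp₂ : ∀ a, X.HQ.large.b p₂ (L a) = a 2 := by
    intro a
    simp only [L, map_add, map_smul, smul_eq_mul, X.HQ.large.b_self, h22', hpp', h12']
    ring
  have hLinj : ∀ a, L a ∈ X.FF → a = 0 := by
    intro a ha
    have e1 := X.b_FF_FV ha hn₁F
    have e2 := X.b_FF_FV ha hp₁F
    have e3 := X.b_FF_FV ha hn₂F
    have e4 := X.b_FF_FV ha hp₂F
    rw [X.HQ.large.b_comm, hbn₁] at e1
    rw [X.HQ.large.b_comm, hbp₁] at e2
    rw [X.HQ.large.b_comm, hbn₂] at e3
    rw [X.HQ.large.b_comm, hbp₂] at e4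
    funext i
    fin_cases i
    · exact e2
    · exact e1
    · exact e4
    · exact e3
  have hLadd : ∀ a b, L (a + b) = L a + L b := by
    intro a b
    simp only [L, Pi.add_apply, add_smul]
    abel
  -- every vector of `C_V(y)` is `L a` modulo `[V, y]`
  have hcov : ∀ w ∈ X.FV, ∃ a, w + L a ∈ X.FF := by
    -- counting
    have hinj : Function.Injective (fun p : X.FF × (Fin 4 → ZMod 2) =>
        (⟨p.1 + L p.2, X.FV.add_mem (X.FF_le_FV p.1.2) (hLF _)⟩ : X.FV)) := by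
      rintro ⟨f, a⟩ ⟨g, b⟩ hab
      have h1 : (f : X.HQ.large.V) + L a = g + L b := congrArg Subtype.val hab
      have h2 : L (a + b) = (f : X.HQ.large.V) + g := by
        rw [hLadd]
        have h3 : L a + L b = (f + L a) + (f + L b) := by
          have : (f : X.HQ.large.V) + L a + (f + L b) = (f + f) + (L a + L b) := by abel
          rw [this, X.HQ.large.add_self, zero_add]
        rw [h3, h1]
        have : (g : X.HQ.large.V) + L b + (f + L b) = (f + g) + (L b + L b) := by abel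
        rw [this, X.HQ.large.add_self, add_zero]
      have h3 : a + b = 0 := hLinj _ (by rw [h2]; exact X.FF.add_mem f.2 g.2)
      have h4 : a = b := by
        funext i
        have := congrFun h3 i
        rw [Pi.add_apply, Pi.zero_apply] at this
        exact (CharTwo.add_eq_zero).1 this
      subst h4
      have h5 : f = g := Subtype.ext (add_right_cancel h1)
      rw [h5]
    have hcard : Nat.card (X.FF × (Fin 4 → ZMod 2)) = Nat.card X.FV := by
      rw [Nat.card_prod, X.card_FF h6, card_sub, h6, Nat.card_fun, Nat.card_zmod, Nat.card_fin]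
      norm_num
    have hbij := (Nat.bijective_iff_injective_and_card _).2 ⟨hinj, hcard⟩
    intro w hw
    obtain ⟨⟨f, a⟩, hfa⟩ := hbij.2 ⟨w, hw⟩
    refine ⟨a, ?_⟩
    have h1 : (f : X.HQ.large.V) + L a = w := congrArg Subtype.val hfa
    rw [← h1, add_assoc, X.HQ.large.add_self, add_zero]
    exact f.2
  -- everything is in `WW`
  obtain ⟨w, hw, hwF⟩ := X.exists_WW hW hR h6
  obtain ⟨a, ha⟩ := hcov w hw.1
  have hbF : ∀ v ∈ X.FV, X.HQ.large.b v w = X.HQ.large.b v (L a) := by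
    intro v hv
    have h1 := X.b_FF_FV ha hv
    rw [X.HQ.large.b_comm, map_add] at h1
    exact CharTwo.add_eq_zero.1 h1
  have ha0 : a ≠ 0 := by
    rintro rfl
    apply hwF
    have : L 0 = 0 := by simp [L]
    rwa [this, add_zero] at ha
  have op1 : ∀ v ∈ X.WW hW hR, X.HQ.large.b n₂ v • n₁ + X.HQ.large.b n₁ v • n₂ ∈ X.WW hW hR :=
    fun v hv => X.WW_siegel hW hR hn₁F hn₂F hqn₁ hqn₂ hnn hv
  have op2 : ∀ v ∈ X.WW hW hR, X.HQ.large.b p₂ v • p₁ + X.HQ.large.b p₁ v • p₂ ∈ X.WW hW hR :=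
    fun v hv => X.WW_siegel hW hR hp₁F hp₂F hqp₁ hqp₂ hpp hv
  have op3 : ∀ v ∈ X.WW hW hR, X.HQ.large.b p₂ v • n₁ + X.HQ.large.b n₁ v • p₂ ∈ X.WW hW hR :=
    fun v hv => X.WW_siegel hW hR hn₁F hp₂F hqn₁ hqp₂ h12 hv
  have op4 : ∀ v ∈ X.WW hW hR, X.HQ.large.b n₂ v • p₁ + X.HQ.large.b p₁ v • n₂ ∈ X.WW hW hR :=
    fun v hv => X.WW_siegel hW hR hp₁F hn₂F hqp₁ hqn₂ h21' hv
  have c1 : n₁ ∈ X.WW hW hR → p₂ ∈ X.WW hW hR := by
    intro h
    have := op2 _ h
    rwa [h12', h11', zero_smul, one_smul, zero_add] at this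
  have c2 : n₁ ∈ X.WW hW hR → n₂ ∈ X.WW hW hR := by
    intro h
    have := op4 _ h
    rwa [hnn', h11', zero_smul, one_smul, zero_add] at this
  have c3 : n₂ ∈ X.WW hW hR → p₁ ∈ X.WW hW hR := by
    intro h
    have := op2 _ h
    rwa [h22', h21', zero_smul, one_smul, add_zero] at this
  have c4 : n₂ ∈ X.WW hW hR → n₁ ∈ X.WW hW hR := by
    intro h
    have := op3 _ h
    rwa [h22', hnn, zero_smul, one_smul, add_zero] at this
  have c5 : p₁ ∈ X.WW hW hR → n₂ ∈ X.WW hW hR := by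
    intro h
    have := op1 _ h
    rwa [h21, h11, zero_smul, one_smul, zero_add] at this
  have c6 : p₂ ∈ X.WW hW hR → n₁ ∈ X.WW hW hR := by
    intro h
    have := op1 _ h
    rwa [h22, h12, zero_smul, one_smul, add_zero] at this
  have hn₁W : n₁ ∈ X.WW hW hR := by
    have e1 := op1 _ hw
    have e2 := op2 _ hw
    rw [hbF _ hn₁F, hbF _ hn₂F, hbn₁, hbn₂] at e1
    rw [hbF _ hp₁F, hbF _ hp₂F, hbp₁, hbp₂] at e2
    rcases zmod2_cases (a 1) with h1 | h1
    · rcases zmod2_cases (a 3) with h3 | h3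
      · rcases zmod2_cases (a 0) with h0 | h0
        · rcases zmod2_cases (a 2) with h2 | h2
          · exfalso
            apply ha0
            funext i
            fin_cases i
            · exact h0
            · exact h1
            · exact h2
            · exact h3
          · rw [h0, h2, one_smul, zero_smul, add_zero] at e2
            exact c4 (c5 e2)
        · have e3 := op4 _ e2
          simp only [h0, map_add, map_smul, h21, h22, X.HQ.large.b_self, hpp, mul_zero,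
            smul_eq_mul, zero_add, add_zero, one_smul, zero_smul] at e3
          exact c4 (c5 e3)
      · rw [h1, h3, one_smul, zero_smul, add_zero] at e1
        exact e1
    · have e3 := op3 _ e1
      simp only [h1, map_add, map_smul, h12', h22', X.HQ.large.b_self, hnn, mul_zero,
        smul_eq_mul, zero_add, add_zero, one_smul, zero_smul] at e3
      exact e3
  have hn₂W := c2 hn₁W
  have hp₁W := c3 hn₂W
  have hp₂W := c1 hn₁W
  have hLW : ∀ a, L a ∈ X.WW hW hR := fun a => (X.WW hW hR).add_mem ((X.WW hW hR).add_mem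
    ((X.WW hW hR).add_mem ((X.WW hW hR).smul_mem _ hn₁W) ((X.WW hW hR).smul_mem _ hp₁W))
    ((X.WW hW hR).smul_mem _ hn₂W)) ((X.WW hW hR).smul_mem _ hp₂W)
  -- two independent vectors in `[V, y]`
  obtain ⟨m₁, hm₁, hm₁0⟩ : ∃ m ∈ X.FF, m ≠ 0 := by
    have : X.FF ≠ ⊥ := by
      intro h0
      rw [h0, finrank_bot] at hrF
      omega
    exact (Submodule.ne_bot_iff _).1 this
  obtain ⟨m₂, hm₂, hm₂'⟩ : ∃ m ∈ X.FF, m ∉ Submodule.span (ZMod 2) {m₁} := by
    by_contra hcon
    push Not at hcon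
    have := Submodule.finrank_mono (show X.FF ≤ Submodule.span (ZMod 2) {m₁} from hcon)
    rw [finrank_span_singleton hm₁0] at this
    omega
  have hind : ∀ s t : ZMod 2, s • m₁ + t • m₂ = 0 → s = 0 ∧ t = 0 := by
    intro s t hst
    rcases zmod2_cases t with rfl | rfl
    · rw [zero_smul, add_zero] at hst
      rcases zmod2_cases s with rfl | rfl
      · exact ⟨rfl, rfl⟩
      · rw [one_smul] at hst; exact absurd hst hm₁0
    · exfalso
      apply hm₂'
      rw [one_smul, add_eq_zero_iff'] at hst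
      rw [← hst]
      exact Submodule.smul_mem _ _ (Submodule.mem_span_singleton_self _)
  have hSS : ∀ a b : Fin 4 → ZMod 2, X.SS (fun n => X.HQ.large.b n (L a) • m₁ +
      X.HQ.large.b n (L b) • m₂) := fun a b =>
    X.SS_add hW hR ((hLW a).2 m₁ hm₁) ((hLW b).2 m₂ hm₂)
  choose f hf hf' using hSS
  have hinj : Function.Injective (fun p : (Fin 4 → ZMod 2) × (Fin 4 → ZMod 2) =>
      (⟨f p.1 p.2, hf p.1 p.2⟩ : X.B)) := by
    rintro ⟨a, b⟩ ⟨a', b'⟩ hab
    have h1 : f a b = f a' b' := congrArg Subtype.val hab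
    have h2 : ∀ n ∈ X.FV, X.HQ.large.b n (L a) = X.HQ.large.b n (L a') ∧
        X.HQ.large.b n (L b) = X.HQ.large.b n (L b') := by
      intro n hn
      have h3 := hf' a b n hn
      rw [h1, hf' a' b' n hn] at h3
      have h4 := add_left_cancel h3
      have h5 : (X.HQ.large.b n (L a) + X.HQ.large.b n (L a')) • m₁ +
          (X.HQ.large.b n (L b) + X.HQ.large.b n (L b')) • m₂ = 0 := by
        rw [add_smul, add_smul]
        have h6 : X.HQ.large.b n (L a) • m₁ + X.HQ.large.b n (L a') • m₁ +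
            (X.HQ.large.b n (L b) • m₂ + X.HQ.large.b n (L b') • m₂) =
            (X.HQ.large.b n (L a') • m₁ + X.HQ.large.b n (L b') • m₂) +
            (X.HQ.large.b n (L a) • m₁ + X.HQ.large.b n (L b) • m₂) := by abel
        rw [h6]
        have h7 : X.HQ.large.b n (L a') • m₁ + X.HQ.large.b n (L b') • m₂ =
          X.HQ.large.b n (L a) • m₁ + X.HQ.large.b n (L b) • m₂ := h4
        rw [h7, X.HQ.large.add_self]
      have h6 := hind _ _ h5
      exact ⟨CharTwo.add_eq_zero.1 h6.1, CharTwo.add_eq_zero.1 h6.2⟩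
    have h3 : ∀ c c' : Fin 4 → ZMod 2,
        (∀ n ∈ X.FV, X.HQ.large.b n (L c) = X.HQ.large.b n (L c')) → c = c' := by
      intro c c' hcc
      funext i
      fin_cases i
      · have := hcc p₁ hp₁F
        rw [hbp₁, hbp₁] at this; exact this
      · have := hcc n₁ hn₁F
        rw [hbn₁, hbn₁] at this; exact this
      · have := hcc p₂ hp₂F
        rw [hbp₂, hbp₂] at this; exact this
      · have := hcc n₂ hn₂F
        rw [hbn₂, hbn₂] at this; exact this
    have h4 := h3 a a' (fun n hn => (h2 n hn).1)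
    have h5 := h3 b b' (fun n hn => (h2 n hn).2)
    rw [h4, h5]
  have h8 := Nat.card_le_card_of_injective _ hinj
  rw [Nat.card_prod, Nat.card_fun, Nat.card_zmod, Nat.card_fin] at h8
  have h9 := X.card_B_le
  have h10 : (2 : ℕ) ^ 4 * 2 ^ 4 = 256 := by norm_num
  omega

/-- Pairs with `dim [V, y] = 2` do not occur. -/
theorem finrank_FV_eq (X : Ctx Q P z y) : finrank (ZMod 2) X.FV = 4 := by
  have main : ∀ {Q P : Subgroup G} {z y : G} (X : Ctx Q P z y), finrank (ZMod 2) X.FV = 6 →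
      X.WA = X.FV → False := by
    intro Q P z y X h6 hW
    rcases X.RV_eq_of_six hW h6 with h0 | hR
    · exact X.not_type1_bot h6 hW h0
    · exact X.not_type1_eq h6 hW hR
  rcases X.finrank_FV with h4 | h6
  · exact h4
  exfalso
  by_cases hW : X.WA = X.FV
  · exact main X h6 hW
  by_cases hq : ∀ f ∈ X.FF, X.HQ.large.q f = 0
  · by_cases h0 : X.RV = ⊥
    · exact X.not_type2_bot h6 hW hq h0
    · -- the other side
      have h1 : X.symm.RV ≠ ⊥ := by
        intro h1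
        apply h0
        have hfin := finite_V X.HQ.large
        have h2 := X.card_RV_symm
        rw [h1, Nat.card_unique, card_sub] at h2
        have h3 : finrank (ZMod 2) X.RV = 0 := by
          by_contra h3
          have h4 : 1 < 2 ^ finrank (ZMod 2) X.RV := Nat.one_lt_two_pow h3
          omega
        exact Submodule.finrank_eq_zero.1 h3
      have h2 : finrank (ZMod 2) X.symm.FV = 6 := by
        rcases X.symm.finrank_FV with h2 | h2
        · exact absurd (X.symm.RV_eq_bot_four h2) h1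
        · exact h2
      have h3 : X.symm.WA ≠ X.symm.FV := fun h3 => main X.symm h2 h3
      have h4 := X.symm.finrank_WA h3
      obtain ⟨a, b, ha, hb, hab⟩ := X.symm.exists_noncomm (by omega)
      exact X.not_type2_of_comm h6 hW hq
        (b₁ := ⟨a, Subgroup.mem_centralizer_singleton_iff.2 ha⟩)
        (b₂ := ⟨b, Subgroup.mem_centralizer_singleton_iff.2 hb⟩)
        (X.mem_B.2 a.2) (X.mem_B.2 b.2) hab
  · push Not at hq
    obtain ⟨f, hf, hqf⟩ := hq
    exact X.not_type3 h6 hf hqf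

end Ctx

end Cfsg.Agent.CoOneNWC
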