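import Mathlib
import Cfsg.Agent.CoOneNWC.TypeOneEnd

/-!
# For every pair `C_Q(y)` covers `C_V(y)`
-/

set_option autoImplicit false

namespace Cfsg.Agent.CoOneNWC

open Cfsg.Agent.Co2Type.Quad Module

section gen

variable {G : Type*} [Group G] [Finite G] {Q : Subgroup G} {z : G} (h : Large Q z)

/-- A vector inducing on the totally isotropic space `F` a functional different from `0` and `q`. -/
theorem exists_vector {F : Submodule (ZMod 2) h.V} (hF : 2 ≤ finrank (ZMod 2) F) :
    ∃ v₀ : h.V, (∃ f₀ ∈ F, h.b v₀ f₀ = 1) ∧ ∃ f₁ ∈ F, h.b v₀ f₁ ≠ h.q f₁ := by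
  have hfin := finite_V h
  have hne : F ≠ ⊥ := by
    intro h0
    rw [h0, finrank_bot] at hF
    omega
  obtain ⟨f₁, hf₁, hf₁0⟩ := (Submodule.ne_bot_iff _).1 hne
  obtain ⟨f₂, hf₂, hf₂0⟩ : ∃ f₂ ∈ F, f₂ ∉ Submodule.span (ZMod 2) {f₁} := by
    by_contra hcon
    push Not at hcon
    have h1 : F ≤ Submodule.span (ZMod 2) {f₁} := hcon
    have h2 := Submodule.finrank_mono h1
    rw [finrank_span_singleton hf₁0] at h2
    omega
  have hf₁' : f₁ ∉ Submodule.span (ZMod 2) {f₂} := by
    intro h1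
    obtain ⟨a, ha⟩ := Submodule.mem_span_singleton.1 h1
    rcases zmod2_cases a with rfl | rfl
    · rw [zero_smul] at ha; exact hf₁0 ha.symm
    · rw [one_smul] at ha
      exact hf₂0 (ha ▸ Submodule.mem_span_singleton_self f₂)
  obtain ⟨v₁, hv₁, hb₁⟩ := exists_perp_ne h hf₁'
  obtain ⟨v₂, hv₂, hb₂⟩ := exists_perp_ne h hf₂0
  have hv₂' : h.b v₂ f₁ = 0 :=
    (mem_perp' _).1 hv₂ f₁ (Submodule.mem_span_singleton_self f₁)
  by_cases hq : h.b v₁ f₁ = h.q f₁
  · refine ⟨v₂, ⟨f₂, hf₂, hb₂⟩, f₁, hf₁, ?_⟩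
    rw [hv₂', ← hq, hb₁]
    exact zero_ne_one
  · exact ⟨v₁, ⟨f₁, hf₁, hb₁⟩, f₁, hf₁, hq⟩

theorem fix_mul {a b : Subgroup.centralizer ({z} : Set G)} {v : h.V} (ha : v ∈ fixV h a)
    (hb : v ∈ fixV h b) : v ∈ fixV h (a * b) := by
  show h.act (a * b) v = v
  rw [← act_act, (mem_fixV h b v).1 hb, (mem_fixV h a v).1 ha]

theorem fix_inv {a : Subgroup.centralizer ({z} : Set G)} {v : h.V} (ha : v ∈ fixV h a) :
    v ∈ fixV h a⁻¹ := by
  show h.act a⁻¹ v = v
  conv_lhs => rw [← (mem_fixV h a v).1 ha]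
  exact act_inv_act _ _ _

/-- If all non-trivial elements of `B` have the same fixed space `M = M^⊥` of dimension four, then
`|B| ≤ 8`. -/
theorem card_le_of_same (B : Subgroup (Subgroup.centralizer ({z} : Set G)))
    (M : Submodule (ZMod 2) h.V) (hM4 : finrank (ZMod 2) M = 4) (hMM : M = perp h M)
    (hB : ∀ b ∈ B, b ≠ 1 → fixV h b = M) : Nat.card B ≤ 8 := by
  have hfin := finite_V h
  obtain ⟨v₀, ⟨f₀, hf₀, hvf₀⟩, f₁, hf₁, hvf₁⟩ := exists_vector h (F := M) (by omega)
  have hfix : ∀ b ∈ B, ∀ m ∈ M, h.act b m = m := by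
    intro b hb m hm
    by_cases hb1 : b = 1
    · rw [hb1, act_one]
    · have : m ∈ fixV h b := by rw [hB b hb hb1]; exact hm
      exact this
  have hiso : ∀ a ∈ M, ∀ b ∈ M, h.b a b = 0 := by
    intro a ha b hb
    rw [hMM] at ha
    exact (mem_perp' _).1 ha b hb
  let N : Submodule (ZMod 2) h.V :=
    { carrier := {f | f ∈ M ∧ h.b v₀ f = h.q f}
      add_mem' := by
        rintro a b ⟨ha, ha'⟩ ⟨hb, hb'⟩
        refine ⟨M.add_mem ha hb, ?_⟩
        rw [map_add, ha', hb', h.q_add', hiso a ha b hb, add_zero]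
      zero_mem' := ⟨M.zero_mem, by rw [map_zero, h.q_zero]⟩
      smul_mem' := by
        rintro c a ⟨ha, ha'⟩
        rcases zmod2_cases c with rfl | rfl
        · rw [zero_smul]; exact ⟨M.zero_mem, by rw [map_zero, h.q_zero]⟩
        · rw [one_smul]; exact ⟨ha, ha'⟩ }
  have hNcard : Nat.card N ≤ 8 := by
    rw [card_sub]
    have h1 : N ≠ M := by
      intro h1
      have : f₁ ∈ N := by rw [h1]; exact hf₁
      exact hvf₁ this.2
    have hle : N ≤ M := fun f hf => hf.1
    have h2 := Submodule.finrank_lt_finrank_of_lt (lt_of_le_of_ne hle h1)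
    calc 2 ^ finrank (ZMod 2) N ≤ 2 ^ 3 := Nat.pow_le_pow_right (by norm_num) (by omega)
      _ = 8 := by norm_num
  have h1 : Nat.card B ≤ Nat.card N * Nat.card (⊥ : Subgroup (Subgroup.centralizer ({z} : Set G))) := by
    apply card_le_step h B N v₀
    · intro b hb
      have h3 : h.act b v₀ + v₀ ∈ M := by
        rw [hMM, mem_perp']
        intro w hw
        have h4 : h.act b⁻¹ w = w := hfix _ (B.inv_mem hb) w hw
        rw [map_add, LinearMap.add_apply, b_act_left, h4, zmod2_add_self]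
      refine ⟨h3, ?_⟩
      rw [q_act_add, map_add, h.b_self, add_zero, h.b_comm]
    · intro b hb n hn
      exact hfix b hb n hn.1
    · intro b hb hb'
      rw [Subgroup.mem_bot]
      by_contra hb1
      have h2 : v₀ ∈ M := by rw [← hB b hb hb1]; exact hb'
      rw [hiso v₀ h2 f₀ hf₀] at hvf₀
      exact zero_ne_one hvf₀
  rw [Subgroup.card_bot, mul_one] at h1
  exact h1.trans hNcard

/-- A group of order 16 whose non-trivial elements have fixed spaces `M = M^⊥` of dimension four, all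
containing a given space of dimension at least three, does not exist. -/
theorem not_fix4 (hV : finrank (ZMod 2) h.V = 8)
    (B : Subgroup (Subgroup.centralizer ({z} : Set G))) (W : Submodule (ZMod 2) h.V)
    (hW3 : 3 ≤ finrank (ZMod 2) W) (hWB : ∀ b ∈ B, W ≤ fixV h b)
    (h4 : ∀ b ∈ B, b ≠ 1 → finrank (ZMod 2) (fixV h b) = 4)
    (hiso : ∀ b ∈ B, b ≠ 1 → fixV h b = perp h (fixV h b)) (hcard : Nat.card B = 16) : False := by
  classical
  have hfin := finite_V h
  obtain ⟨k, hk, hk1⟩ : ∃ k ∈ B, k ≠ 1 := by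
    by_contra hcon
    push Not at hcon
    have : B = ⊥ := by rw [Subgroup.eq_bot_iff_forall]; exact hcon
    rw [this, Subgroup.card_bot] at hcard
    omega
  obtain ⟨k', hk', hk'1, hkk'⟩ : ∃ k' ∈ B, k' ≠ 1 ∧ fixV h k' ≠ fixV h k := by
    by_contra hcon
    push Not at hcon
    have := card_le_of_same h B (fixV h k) (h4 k hk hk1) (hiso k hk hk1) hcon
    omega
  -- equality of fixed spaces from inclusion
  have heq : ∀ {a b : Subgroup.centralizer ({z} : Set G)}, a ∈ B → b ∈ B → a ≠ 1 → b ≠ 1 →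
      fixV h a ≤ fixV h b → fixV h a = fixV h b := by
    intro a b ha hb ha1 hb1 hle
    apply Submodule.eq_of_le_of_finrank_le hle
    rw [h4 a ha ha1, h4 b hb hb1]
  -- elements fixing two different spaces are trivial
  have htriv : ∀ {a b c : Subgroup.centralizer ({z} : Set G)}, a ∈ B → b ∈ B → c ∈ B → a ≠ 1 →
      b ≠ 1 → fixV h a ≠ fixV h b → fixV h a ≤ fixV h c → fixV h b ≤ fixV h c → c = 1 := by
    intro a b c ha hb hc ha1 hb1 hne h1 h2
    by_contra hc1
    exact hne ((heq ha hc ha1 hc1 h1).trans (heq hb hc hb1 hc1 h2).symm)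
  have hsub : ∀ {b : Subgroup.centralizer ({z} : Set G)}, b ∈ B → b ≠ 1 →
      fixV h b ≤ perp h W := by
    intro b hb hb1
    rw [hiso b hb hb1]
    exact perp_anti h (hWB b hb)
  -- `dim W = 3`
  have hW : finrank (ZMod 2) W = 3 := by
    by_contra hne
    have h1 : W = fixV h k := by
      apply Submodule.eq_of_le_of_finrank_le (hWB k hk)
      rw [h4 k hk hk1]; omega
    have h2 : W = fixV h k' := by
      apply Submodule.eq_of_le_of_finrank_le (hWB k' hk')
      rw [h4 k' hk' hk'1]; omega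
    exact hkk' (h2.symm.trans h1)
  have hPW : finrank (ZMod 2) (perp h W) = 5 := by
    have := finrank_perp h W
    omega
  -- two different fixed spaces span `W^⊥`
  have hspan : ∀ {a b : Subgroup.centralizer ({z} : Set G)}, a ∈ B → b ∈ B → a ≠ 1 → b ≠ 1 →
      fixV h a ≠ fixV h b → perp h W ≤ fixV h a ⊔ fixV h b := by
    intro a b ha hb ha1 hb1 hne
    have h1 : fixV h a ⊔ fixV h b ≤ perp h W := sup_le (hsub ha ha1) (hsub hb hb1)
    have h2 : fixV h a < fixV h a ⊔ fixV h b := by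
      refine lt_of_le_of_ne le_sup_left ?_
      intro h3
      apply hne
      exact (heq hb ha hb1 ha1 (by rw [h3]; exact le_sup_right)).symm
    have h3 := Submodule.finrank_lt_finrank_of_lt h2
    rw [h4 a ha ha1] at h3
    rw [Submodule.eq_of_le_of_finrank_le h1 (by omega)]
  -- three different fixed spaces: a fourth one is one of them
  have hthird : ∀ {a b c l : Subgroup.centralizer ({z} : Set G)}, a ∈ B → b ∈ B → c ∈ B → l ∈ B →
      a ≠ 1 → b ≠ 1 → c ≠ 1 → l ≠ 1 → fixV h a ≠ fixV h b → fixV h c ≠ fixV h a →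
      fixV h c ≠ fixV h b → fixV h l ≠ fixV h a → fixV h l ≠ fixV h b →
      fixV h l = fixV h c := by
    intro a b c l ha hb hc hl ha1 hb1 hc1 hl1 hab hca hcb hla hlb
    -- vectors outside `W`
    have key : ∀ {c : Subgroup.centralizer ({z} : Set G)}, c ∈ B → c ≠ 1 →
        fixV h c ≠ fixV h a → fixV h c ≠ fixV h b →
        ∃ v ∈ fixV h c, v ∉ W ∧ ∃ m ∈ fixV h a, m ∉ W ∧ ∃ m' ∈ fixV h b, m' ∉ W ∧ m + m' = v := by
      intro c hc hc1 hca hcb
      obtain ⟨v, hv, hvW⟩ : ∃ v ∈ fixV h c, v ∉ W := by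
        by_contra hcon
        push Not at hcon
        have := Submodule.finrank_mono (show fixV h c ≤ W from hcon)
        rw [h4 c hc hc1] at this
        omega
      obtain ⟨m, hm, m', hm', hmm⟩ := Submodule.mem_sup.1
        (hspan ha hb ha1 hb1 hab (hsub hc hc1 hv))
      -- `fixV c` is generated by `W` and `v`
      have hgen : ∀ {M : Submodule (ZMod 2) h.V}, W ≤ M → v ∈ M → fixV h c ≤ M := by
        intro M hWM hvM u hu
        by_cases huW : u ∈ W
        · exact hWM huW
        · have h1 := add_mem_of_finrank h (hWB c hc) (by rw [h4 c hc hc1, hW]) hu hv huW hvW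
          have h2 := M.add_mem (hWM h1) hvM
          rwa [add_assoc, h.add_self, add_zero] at h2
      refine ⟨v, hv, hvW, m, hm, ?_, m', hm', ?_, hmm⟩
      · intro hmW
        apply hcb
        apply heq hc hb hc1 hb1
        apply hgen (hWB b hb)
        rw [← hmm]
        exact (fixV h b).add_mem (hWB b hb hmW) hm'
      · intro hmW
        apply hca
        apply heq hc ha hc1 ha1
        apply hgen (hWB a ha)
        rw [← hmm]
        exact (fixV h a).add_mem hm (hWB a ha hmW)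
    obtain ⟨v, hv, hvW, m, hm, hmW, m', hm', hm'W, hmm⟩ := key hl hl1 hla hlb
    obtain ⟨u, hu, huW, n, hn, hnW, n', hn', hn'W, hnn⟩ := key hc hc1 hca hcb
    have h1 : m + n ∈ W := add_mem_of_finrank h (hWB a ha) (by rw [h4 a ha ha1, hW]) hm hn hmW hnW
    have h2 : m' + n' ∈ W :=
      add_mem_of_finrank h (hWB b hb) (by rw [h4 b hb hb1, hW]) hm' hn' hm'W hn'W
    have h3 : v + u ∈ W := by
      rw [← hmm, ← hnn]
      have : m + m' + (n + n') = (m + n) + (m' + n') := by abel
      rw [this]; exact W.add_mem h1 h2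
    have h5 : v ∈ fixV h c := by
      have h6 := (fixV h c).add_mem (hWB c hc h3) hu
      rwa [add_assoc, h.add_self, add_zero] at h6
    apply heq hl hc hl1 hc1
    intro t ht
    by_cases htW : t ∈ W
    · exact hWB c hc htW
    · have h6 := add_mem_of_finrank h (hWB l hl) (by rw [h4 l hl hl1, hW]) ht hv htW hvW
      have h7 := (fixV h c).add_mem (hWB c hc h6) h5
      rwa [add_assoc, h.add_self, add_zero] at h7
  -- products
  have hprod : ∀ {a b : Subgroup.centralizer ({z} : Set G)}, a ∈ B → b ∈ B → a ≠ 1 → b ≠ 1 →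
      fixV h a ≠ fixV h b → a * b ≠ 1 ∧ fixV h (a * b) ≠ fixV h a ∧ fixV h (a * b) ≠ fixV h b := by
    intro a b ha hb ha1 hb1 hab
    have hab1 : a * b ≠ 1 := by
      intro h1
      apply hab
      have h2 : b = a⁻¹ := by rw [eq_inv_iff_mul_eq_one, mul_eq_one_comm]; exact h1
      apply heq ha hb ha1 hb1
      intro v hv
      rw [h2]; exact fix_inv h hv
    refine ⟨hab1, ?_, ?_⟩
    · intro h1
      apply hab
      apply heq ha hb ha1 hb1
      intro v hv
      have h2 : b = a⁻¹ * (a * b) := by group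
      rw [h2]
      exact fix_mul h (fix_inv h hv) (h1 ▸ hv)
    · intro h1
      apply hab
      symm
      apply heq hb ha hb1 ha1
      intro v hv
      have h2 : a = (a * b) * b⁻¹ := by group
      rw [h2]
      exact fix_mul h (h1 ▸ hv) (fix_inv h hv)
  obtain ⟨hp1, hpk, hpk'⟩ := hprod hk hk' hk1 hk'1 (Ne.symm hkk')
  have hpB := B.mul_mem hk hk'
  -- `B = {1, k, k', k k'}`
  have hfour : ∀ l ∈ B, l = 1 ∨ l = k ∨ l = k' ∨ l = k * k' := by
    intro l hl
    by_cases hl1 : l = 1
    · exact Or.inl hl1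
    right
    by_cases hlk : fixV h l = fixV h k
    · left
      obtain ⟨h1, h2, h3⟩ := hprod hl hk' hl1 hk'1 (by rw [hlk]; exact Ne.symm hkk')
      have h5 := hthird hk hk' hpB (B.mul_mem hl hk') hk1 hk'1 hp1 h1 (Ne.symm hkk') hpk hpk'
        (by rw [← hlk]; exact h2) h3
      have h6 : l * k⁻¹ = 1 := by
        apply htriv hk hpB (B.mul_mem hl (B.inv_mem hk)) hk1 hp1 (Ne.symm hpk)
        · intro v hv
          exact fix_mul h (hlk ▸ hv) (fix_inv h hv)
        · intro v hv
          have e : l * k⁻¹ = (l * k') * (k * k')⁻¹ := by group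
          rw [e]
          exact fix_mul h (h5 ▸ hv) (fix_inv h hv)
      exact mul_inv_eq_one.1 h6
    by_cases hlk' : fixV h l = fixV h k'
    · right; left
      obtain ⟨h1, h2, h3⟩ := hprod hk hl hk1 hl1 (Ne.symm hlk)
      have h5 := hthird hk hk' hpB (B.mul_mem hk hl) hk1 hk'1 hp1 h1 (Ne.symm hkk') hpk hpk'
        h2 (by rw [← hlk']; exact h3)
      have h6 : k'⁻¹ * l = 1 := by
        apply htriv hk' hpB (B.mul_mem (B.inv_mem hk') hl) hk'1 hp1 (Ne.symm hpk')
        · intro v hv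
          exact fix_mul h (fix_inv h hv) (hlk' ▸ hv)
        · intro v hv
          have e : k'⁻¹ * l = (k * k')⁻¹ * (k * l) := by group
          rw [e]
          exact fix_mul h (fix_inv h hv) (h5 ▸ hv)
      exact (inv_mul_eq_one.1 h6).symm
    · right; right
      have h5 := hthird hk hk' hpB hl hk1 hk'1 hp1 hl1 (Ne.symm hkk') hpk hpk' hlk hlk'
      -- `k⁻¹ l`
      have hki : k⁻¹ ≠ 1 := by rwa [Ne, inv_eq_one]
      have hfi : fixV h k⁻¹ = fixV h k := by
        apply heq (B.inv_mem hk) hk hki hk1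
        intro v hv
        have := fix_inv h hv
        rwa [inv_inv] at this
      obtain ⟨h1, h2, h3⟩ := hprod (B.inv_mem hk) hl hki hl1 (by rw [hfi]; exact Ne.symm hlk)
      have h6 : fixV h (k⁻¹ * l) = fixV h k' := by
        apply hthird hk hpB hk' (B.mul_mem (B.inv_mem hk) hl) hk1 hp1 hk'1 h1 (Ne.symm hpk)
          hkk' (Ne.symm hpk') (by rw [← hfi]; exact h2) (by rw [← h5]; exact h3)
      have h7 : (k * k')⁻¹ * l = 1 := by
        apply htriv hk' hpB (B.mul_mem (B.inv_mem hpB) hl) hk'1 hp1 (Ne.symm hpk')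
        · intro v hv
          have e : (k * k')⁻¹ * l = k'⁻¹ * (k⁻¹ * l) := by group
          rw [e]
          exact fix_mul h (fix_inv h hv) (h6 ▸ hv)
        · intro v hv
          exact fix_mul h (fix_inv h hv) (h5 ▸ hv)
      exact (inv_mul_eq_one.1 h7).symm
  -- `|B| ≤ 4`
  have h1 : (B : Set (Subgroup.centralizer ({z} : Set G))) ⊆
      (({1, k, k', k * k'} : Finset (Subgroup.centralizer ({z} : Set G))) : Set _) := by
    intro l hl
    have := hfour l hl
    simpa using this
  have h2 : Nat.card B ≤ 4 := by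
    have h3 : Nat.card B = Set.ncard (B : Set (Subgroup.centralizer ({z} : Set G))) := rfl
    rw [h3]
    refine (Set.ncard_le_ncard h1 (Finset.finite_toSet _)).trans ?_
    rw [Set.ncard_coe_finset]
    exact Finset.card_le_four
  omega

end gen

namespace Ctx

variable {G : Type*} [Group G] {Q P : Subgroup G} {z y : G}

/-- The pair `(y, y^x)`. -/
theorem conjPair (X : Ctx Q P z y) {x : G} (hc : x * y * x⁻¹ * y = y * (x * y * x⁻¹))
    (hne : x * y * x⁻¹ ≠ y) : Ctx P (P.map (MulAut.conj x).toMonoidHom) y (x * y * x⁻¹) where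
  HQ := X.HP
  HP := X.HP.conj x
  cj := ⟨x, rfl⟩
  wQ := X.wP
  wP := by
    rintro g ⟨p, hp, hpg⟩
    have h1 : x * p * x⁻¹ = g * (x * y * x⁻¹) * g⁻¹ := hpg
    have h2 : (x⁻¹ * g * x) * y * (x⁻¹ * g * x)⁻¹ = p := by
      calc (x⁻¹ * g * x) * y * (x⁻¹ * g * x)⁻¹ = x⁻¹ * (g * (x * y * x⁻¹) * g⁻¹) * x := by group
        _ = p := by rw [← h1]; group
    have h3 := X.wP (x⁻¹ * g * x) (by rw [h2]; exact hp)
    rw [h2] at h3
    rw [← h1, h3]
  ne := hne
  yz := hc

variable [Finite G]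

/-- Type 5 does not occur. -/
theorem WA_eq (X : Ctx Q P z y) : X.WA = X.FV := by
  by_contra hne
  have hfin := finite_V X.HQ.large
  have hfin' := finite_V X.HP.large
  have h4 := X.finrank_FV_eq
  have h4' := X.symm.finrank_FV_eq
  have h0 : X.symm.RV = ⊥ := X.symm.RV_eq_bot_four h4'
  have hFF : X.FF = X.FV := by
    apply Submodule.eq_of_le_of_finrank_le X.FF_le_FV
    have := X.finrank_FF
    omega
  -- every non-trivial element of `A` is a commutator `[x, y]`
  have hcommut : ∀ k ∈ X.symm.B, ∃ x ∈ Q, x * y * x⁻¹ = (k : G) * y := by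
    intro k hk
    have hkQ : (k : G) ∈ Q := X.symm.mem_B.1 hk
    have hky : (k : G) * y = y * k := comm_cent k
    have h1 : X.HQ.large.pr ⟨k, hkQ⟩ ∈ X.FF := by
      rw [hFF]
      exact X.WA_le ((X.pr_mem_WA _).2 hky)
    obtain ⟨w, hw⟩ := (X.mem_FF _).1 h1
    obtain ⟨x, rfl⟩ := X.HQ.large.pr_surjective w
    rw [← X.pr_comm', X.HQ.large.pr_eq_pr] at hw
    rcases hw with hw | hw
    · refine ⟨x, x.2, ?_⟩
      have hw' : (k : G) = x * y * (x : G)⁻¹ * y⁻¹ := hw
      rw [hw', inv_mul_cancel_right]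
    · have hw' : (k : G) = x * y * (x : G)⁻¹ * y⁻¹ * z := hw
      obtain ⟨v, hv, hv'⟩ : ∃ v ∈ X.FV, v ∉ X.WA := by
        by_contra hcon
        push Not at hcon
        exact hne (le_antisymm X.WA_le hcon)
      obtain ⟨x', rfl⟩ := X.HQ.large.pr_surjective v
      have h2 := X.conj_of_notMem_WA hv hv'
      have hx'z := X.HQ.large.comm_z x' x'.2
      have hxz := X.HQ.large.comm_z x x.2
      have h3 : (x' : G) * y * (x' : G)⁻¹ = z * y := by
        have e : (x' : G) * y * (x' : G)⁻¹ = x' * (y * x' * y⁻¹)⁻¹ * y := by group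
        rw [e, h2, mul_inv_rev, X.z_inv, ← mul_assoc, hx'z, mul_inv_cancel_right]
      refine ⟨x * x', Q.mul_mem x.2 x'.2, ?_⟩
      have hcx : Commute z (x : G) := hxz.symm
      have hcy : Commute z y := X.yz.symm
      have hcc : z * (x * y * (x : G)⁻¹) = x * y * (x : G)⁻¹ * z :=
        ((hcx.mul_right hcy).mul_right hcx.inv_right).eq
      calc (x : G) * x' * y * ((x : G) * x')⁻¹ = x * (x' * y * (x' : G)⁻¹) * (x : G)⁻¹ := by group
        _ = (x * z) * (y * (x : G)⁻¹) := by rw [h3]; group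
        _ = z * (x * y * (x : G)⁻¹) := by rw [hxz]; group
        _ = x * y * (x : G)⁻¹ * z := hcc
        _ = k * y := by
            rw [hw']
            calc (x : G) * y * (x : G)⁻¹ * z = x * y * (x : G)⁻¹ * y⁻¹ * (y * z) := by group
              _ = _ := by rw [X.yz]; group
  -- fixed spaces on the other side
  have hfix : ∀ k ∈ X.symm.B, k ≠ 1 → finrank (ZMod 2) (fixV X.HP.large k) = 4 ∧
      fixV X.HP.large k = perp X.HP.large (fixV X.HP.large k) := by
    intro k hk hk1
    obtain ⟨x, hxQ, hx⟩ := hcommut k hk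
    have hky : (k : G) * y = y * k := comm_cent k
    have hc : x * y * x⁻¹ * y = y * (x * y * x⁻¹) := by
      rw [hx, ← mul_assoc, ← hky]
    have hne' : x * y * x⁻¹ ≠ y := by
      rw [hx]
      intro h1
      apply hk1
      apply Subtype.ext
      have h2 : (k : G) * y = 1 * y := by rw [h1, one_mul]
      exact mul_right_cancel h2
    have X2 := X.conjPair hc hne'
    have hY : X2.Y = k * ⟨y, Subgroup.mem_centralizer_singleton_iff.2 rfl⟩ := Subtype.ext hx
    have hF : fixV X.HP.large k = X2.FV := by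
      ext v
      show X.HP.large.act k v = v ↔ X.HP.large.act X2.Y v = v
      rw [hY, ← act_act, X.HP.large.act_mem ⟨y, _⟩ X.HP.large.z_mem]
      rfl
    have h5 := X2.finrank_FV_eq
    have h6 : X2.FF = X2.FV := by
      apply Submodule.eq_of_le_of_finrank_le X2.FF_le_FV
      have := X2.finrank_FF
      omega
    rw [hF]
    exact ⟨h5, h6.symm⟩
  refine not_fix4 X.HP.large X.HP.finrank_V X.symm.B X.symm.WA X.symm.finrank_WA_ge
    (fun b hb w hw => X.symm.act_B_WA_of_bot h0 hb hw) (fun b hb hb1 => (hfix b hb hb1).1)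
    (fun b hb hb1 => (hfix b hb hb1).2) ?_
  rw [X.symm.card_B]
  have h5 := X.finrank_WA hne
  have h6 : finrank (ZMod 2) X.WA = 3 := by omega
  have h7 : Nat.card X.WA = 8 := by rw [card_sub, h6]; norm_num
  show 2 * Nat.card X.WA = 16
  omega

end Ctx

end Cfsg.Agent.CoOneNWC
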