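import Mathlib
import Cfsg.Agent.CoOneNWC.TypeFive
import Cfsg.Agent.CoOneNWC.Count

/-!
# `z` is not weakly closed in `Q`

If `Q` is large extraspecial of order `2 ^ 9`, `C_G(z) / Q ≅ Ω⁺(8, 2)` and `z` commutes with some conjugate of
`z` different from `z`, then some conjugate of `z` different from `z` lies in `Q`.
-/

set_option autoImplicit false

namespace Cfsg.Agent.CoOneNWC

open Cfsg.Agent.Co2Type.Quad Module

theorem nwc {G : Type*} [Group G] [Finite G] {Q : Subgroup G} {z : G} (H : Hyp Q z) (g : G)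
    (hne : g * z * g⁻¹ ≠ z) (hc : g * z * g⁻¹ * z = z * (g * z * g⁻¹)) :
    ∃ g' : G, g' * z * g'⁻¹ ∈ Q ∧ g' * z * g'⁻¹ ≠ z := by
  by_contra hcon
  push Not at hcon
  refine Count.count_false H.large H.card ?_ g hne hc
  clear hne hc g
  intro g hne hc
  have hwP : ∀ g' : G, g' * (g * z * g⁻¹) * g'⁻¹ ∈ Q.map (MulAut.conj g).toMonoidHom →
      g' * (g * z * g⁻¹) * g'⁻¹ = g * z * g⁻¹ := by
    rintro g' ⟨p, hp, hpg⟩
    have h1 : g * p * g⁻¹ = g' * (g * z * g⁻¹) * g'⁻¹ := hpg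
    have h2 : (g⁻¹ * g' * g) * z * (g⁻¹ * g' * g)⁻¹ = p := by
      calc (g⁻¹ * g' * g) * z * (g⁻¹ * g' * g)⁻¹ = g⁻¹ * (g' * (g * z * g⁻¹) * g'⁻¹) * g := by
            group
        _ = p := by rw [← h1]; group
    have h3 := hcon (g⁻¹ * g' * g) (by rw [h2]; exact hp)
    rw [h2] at h3
    rw [← h1, h3]
  have X : Ctx Q (Q.map (MulAut.conj g).toMonoidHom) z (g * z * g⁻¹) :=
    { HQ := H, HP := H.conj g, cj := ⟨g, rfl⟩, wQ := hcon, wP := hwP, ne := hne, yz := hc }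
  have hfin := finite_V X.HQ.large
  have h4 := X.finrank_FV_eq
  have hW := X.WA_eq
  have hR := X.RV_eq_bot_four h4
  have hFF : X.FF = X.FV := by
    apply Submodule.eq_of_le_of_finrank_le X.FF_le_FV
    have := X.finrank_FF
    omega
  have c1 : ∀ x ∈ Q, x ∈ Q.map (MulAut.conj g).toMonoidHom → x = 1 := by
    intro x hx hxP
    have h1 : X.HQ.large.pr ⟨x, hx⟩ ∈ X.RV := ⟨⟨x, hx⟩, rfl, hxP⟩
    rw [hR, Submodule.mem_bot, X.HQ.large.pr_eq_zero] at h1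
    rcases h1 with h1 | h1
    · exact h1
    · exfalso
      apply X.z_notMem
      have h2 : x = z := h1
      rw [← h2]; exact hxP
  refine ⟨c1, ?_, ?_, ?_, ?_⟩
  · have h1 : Nat.card ↥(Q ⊓ Subgroup.centralizer ({g * z * g⁻¹} : Set G)) =
        Nat.card X.symm.B := by
      refine Nat.card_eq_of_bijective (fun t => (⟨⟨t.1, t.2.2⟩, X.symm.mem_B.2 t.2.1⟩ :
        X.symm.B)) ⟨?_, ?_⟩
      · intro a b hab
        apply Subtype.ext
        have := congrArg (fun t => ((t.1 : Subgroup.centralizer ({g * z * g⁻¹} : Set G)) : G)) hab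
        exact this
      · rintro ⟨⟨t, ht⟩, ht'⟩
        exact ⟨⟨t, X.symm.mem_B.1 ht', ht⟩, rfl⟩
    rw [h1, X.symm.card_B]
    show 2 * Nat.card X.WA = 32
    rw [hW, card_sub, h4]; norm_num
  · intro a ha hay b hb hbz
    have h1 := X.comm_AB ha hay hb hbz
    have h2 := c1 _ h1.1 h1.2
    have h3 : b * a * b⁻¹ = a := mul_inv_eq_one.1 h2
    exact (mul_inv_eq_iff_eq_mul.1 h3).symm
  · intro x hx b hb hbz
    have hbC : b ∈ Subgroup.centralizer ({z} : Set G) :=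
      Subgroup.mem_centralizer_singleton_iff.2 hbz
    have hbB : (⟨b, hbC⟩ : Subgroup.centralizer ({z} : Set G)) ∈ X.B := X.mem_B.2 hb
    have hmem : b * x * b⁻¹ * x⁻¹ ∈ Q :=
      Q.mul_mem (X.HQ.large.conj_mem b hbz x hx) (Q.inv_mem hx)
    have h1 : X.HQ.large.pr ⟨b * x * b⁻¹ * x⁻¹, hmem⟩ =
        X.HQ.large.act ⟨b, hbC⟩ (X.HQ.large.pr ⟨x, hx⟩) + X.HQ.large.pr ⟨x, hx⟩ := by
      rw [X.HQ.large.act_pr, ← X.HQ.large.neg_eq (X.HQ.large.pr ⟨x, hx⟩), ← X.HQ.large.pr_inv,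
        ← X.HQ.large.pr_mul]
      rfl
    have h2 : X.HQ.large.pr ⟨b * x * b⁻¹ * x⁻¹, hmem⟩ ∈ X.WA := by
      rw [hW, ← hFF]
      show _ ∈ perp X.HQ.large X.FV
      rw [mem_perp', h1]
      intro w hw
      rw [← hW] at hw
      have h3 := X.act_B_WA_of_bot hR (X.B.inv_mem hbB) hw
      rw [map_add, LinearMap.add_apply, b_act_left, h3, zmod2_add_self]
    exact (X.pr_mem_WA _).1 h2
  · intro x hx hxy
    have h1 : X.HQ.large.pr ⟨x, hx⟩ ∈ X.WA := (X.pr_mem_WA _).2 hxy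
    have h2 : X.HQ.large.pr ⟨x, hx⟩ ∈ X.FF := by rw [hFF, ← hW]; exact h1
    exact X.HQ.large.q_eq_zero.1 ((X.mem_WA_iff h2).1 h1)

end Cfsg.Agent.CoOneNWC
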