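import Cfsg.Agent.CoOneNWC.Base
import Cfsg.Agent.CoOneNWC.OmFacts
import Cfsg.Agent.LargeExtra.Base
import Cfsg.Agent.PLocal.PConstrained
import Cfsg.Agent.SignalizersComponents.CharP
import Cfsg.Agent.Lib.Cores
import Cfsg.Agent.S0215
import Cfsg.Agent.S1180

/-!
# Outer shell of S1677 (helper978)

From the hypotheses of S1677: `F*(C_G(t)) = O₂(C_G(t))`, `Hyp`, and a conjugate `t^g ≠ t` commuting with `t`.
-/

set_option autoImplicit false

namespace Cfsg.Agent.CoOneNWC.Shell

open Cfsg.Agent.Co2Type.Quad Cfsg.Agent.CoOneNWC Cfsg.Agent.CoOneNWC.OmFacts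
open Subgroup

/-- a normal subgroup of odd order of an extension of a 2-group by `Ω⁺(8,2)` is trivial -/
theorem pPrimeCore_eq_bot {C : Type*} [Group C] [Finite C]
    (e : C ⧸ Cfsg.pCore 2 C ≃* Om8) : Cfsg.pPrimeCore 2 C = ⊥ := by
  classical
  have hsimple := simple_om8
  set K := Cfsg.pPrimeCore 2 C with hK
  have hKodd : (Nat.card K).Coprime 2 := Cfsg.Agent.PLocal.PConstrained.coprime_card_pPrimeCore 2 C
  let f : C →* Om8 := e.toMonoidHom.comp (QuotientGroup.mk' _)
  have hf : Function.Surjective f := e.surjective.comp (QuotientGroup.mk'_surjective _)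
  have hker : f.ker = Cfsg.pCore 2 C := by
    ext x
    rw [MonoidHom.mem_ker]
    show e (QuotientGroup.mk' _ x) = 1 ↔ _
    rw [map_eq_one_iff e e.injective]
    exact QuotientGroup.eq_one_iff x
  have hn : (K.map f).Normal := Subgroup.Normal.map inferInstance f hf
  have hcardmap : Nat.card (K.map f) ∣ Nat.card K :=
    Cfsg.Agent.PLocal.PConstrained.card_map_dvd f K
  have hbot : K.map f = ⊥ := by
    rcases hn.eq_bot_or_eq_top with h | h
    · exact h
    · exfalso
      rw [h, Subgroup.card_top, card_om8] at hcardmap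
      have h2 : 2 ∣ Nat.card K := Dvd.dvd.trans (by norm_num) hcardmap
      exact absurd (Nat.Coprime.eq_one_of_dvd hKodd.symm h2) (by norm_num)
  have hle : K ≤ Cfsg.pCore 2 C := by
    intro x hx
    rw [← hker, MonoidHom.mem_ker]
    have : f x ∈ K.map f := Subgroup.mem_map_of_mem f hx
    rw [hbot] at this
    exact Subgroup.mem_bot.1 this
  have hp : IsPGroup 2 K :=
    (Cfsg.Agent.PLocal.PConstrained.isPGroup_pCore 2 C).to_le hle
  obtain ⟨n, hn⟩ := IsPGroup.iff_card.1 hp
  rw [← Subgroup.card_eq_one, hn]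
  rw [hn] at hKodd
  rcases Nat.eq_zero_or_pos n with h0 | h0
  · rw [h0, pow_zero]
  · exact absurd (Nat.Coprime.eq_one_of_dvd hKodd.symm (dvd_pow_self 2 h0.ne')) (by norm_num)

variable {G : Type*} [Group G] [Finite G]

theorem genFitting_eq (t : G)
    (hcon : Cfsg.IsPConstrained 2 (centralizer ({t} : Set G)))
    (e : (centralizer ({t} : Set G)) ⧸ Cfsg.pCore 2 (centralizer ({t} : Set G)) ≃* Om8) :
    Cfsg.generalizedFittingSubgroup (centralizer ({t} : Set G)) =
      Cfsg.pCore 2 (centralizer ({t} : Set G)) := by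
  have : Fact (Nat.Prime 2) := ⟨Nat.prime_two⟩
  rw [Cfsg.Agent.SignalizersComponents.CharP.genFitting_eq_pCore_iff]
  exact (Cfsg.Agent.PLocal.PConstrained.isPConstrained_iff_of_pPrimeCore_eq_bot
    (pPrimeCore_eq_bot e)).1 hcon

/-- the hypotheses of S1677 give `Hyp` -/
theorem hyp (t : G) (ht : orderOf t = 2)
    (hcon : Cfsg.IsPConstrained 2 (centralizer ({t} : Set G)))
    (hQ : Cfsg.IsExtraspecial 2 (Cfsg.pCore 2 (centralizer ({t} : Set G))))
    (hcard : Nat.card (Cfsg.pCore 2 (centralizer ({t} : Set G))) = 2 ^ 9)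
    (e : (centralizer ({t} : Set G)) ⧸ Cfsg.pCore 2 (centralizer ({t} : Set G)) ≃* Om8) :
    Hyp ((Cfsg.pCore 2 (centralizer ({t} : Set G))).map (centralizer ({t} : Set G)).subtype) t := by
  have hF := genFitting_eq t hcon e
  refine ⟨?_, ?_, e.toMonoidHom.comp (QuotientGroup.mk' _),
    e.surjective.comp (QuotientGroup.mk'_surjective _), ?_⟩
  · have h := Cfsg.Agent.LargeExtra.Base.large_of_genFitting t ht (by rw [hF]; exact hQ)
    rwa [hF] at h
  · rw [Subgroup.card_map_of_injective (Subgroup.subtype_injective _)]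
    exact hcard
  · intro c
    show e (QuotientGroup.mk' _ c) = 1 ↔ _
    rw [map_eq_one_iff e e.injective]
    constructor
    · intro h
      exact ⟨c, (QuotientGroup.eq_one_iff c).1 h, rfl⟩
    · rintro ⟨c', hc', he⟩
      have : c' = c := Subtype.ext he
      rw [← this]
      exact (QuotientGroup.eq_one_iff c').2 hc'

/-- Glauberman's Z*-theorem: a conjugate commuting with `t`. -/
theorem exists_conj (hO : Cfsg.oddCore G = ⊥) (hZ : center G = ⊥) (t : G) (ht : orderOf t = 2) :
    ∃ g : G, g * t * g⁻¹ ≠ t ∧ g * t * g⁻¹ * t = t * (g * t * g⁻¹) := by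
  classical
  have : Fact (Nat.Prime 2) := ⟨Nat.prime_two⟩
  by_contra hcon
  push Not at hcon
  have ht1 : t ≠ 1 := by
    intro h; rw [h, orderOf_one] at ht; exact absurd ht (by norm_num)
  have hiso' : Cfsg.IsIsolatedInvolution t := ⟨ht, fun g hg => by
    by_contra hne
    exact hcon g hne hg.symm⟩
  have hp : IsPGroup 2 (zpowers t) := by
    rw [IsPGroup.iff_card]
    exact ⟨1, by rw [Nat.card_zpowers, ht, pow_one]⟩
  obtain ⟨P, hP⟩ := hp.exists_le_sylow
  have htP : t ∈ P := hP (mem_zpowers t)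
  obtain ⟨N, hN, hodd, hcomm⟩ := Cfsg.Agent.S0215.result P t ht htP fun g hg =>
    Cfsg.Agent.S1180.eq_of_conj_mem_isPGroup t hiso' (P : Subgroup G) P.isPGroup' htP g hg
  have hNle : N ≤ Cfsg.pPrimeCore 2 G :=
    Cfsg.Agent.Lib.Cores.le_pPrimeCore hN (Nat.coprime_two_right.2 hodd)
  have hNbot : N = ⊥ := by
    rw [eq_bot_iff, ← hO]; exact hNle
  apply ht1
  have h1 : t ∈ center G := by
    rw [mem_center_iff]
    intro g
    have h2 := hcomm g
    rw [hNbot, mem_bot] at h2
    rw [mul_inv_eq_one, mul_inv_eq_iff_eq_mul] at h2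
    exact h2.symm
  rw [hZ, mem_bot] at h1
  exact h1

end Cfsg.Agent.CoOneNWC.Shell
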